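import Mathlib
import Cfsg.Prelude.Def_Amalgam
import Cfsg.Prelude.Def_OddOrderLocal
import Cfsg.Agent.TT.B68A

/-!
# Doubly transitive groups whose involutions fix no point: definitions
-/

set_option autoImplicit false

namespace Cfsg.Agent.TT

open Subgroup MulAction Cfsg.Agent.Perm Cfsg.Agent.Perm.TT Cfsg.Agent.Perm.TwoCount

universe u v

/-- Even degree and two-point stabilizer of odd order. -/
structure BG (G Ω : Type*) [Group G] [MulAction G Ω] (a b : Ω) : Prop where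
  two : Two G Ω
  even : Even (Nat.card Ω)
  ne : a ≠ b
  odd : Odd (Nat.card (st2 G a b))

/-- A doubly transitive normal subgroup in which only the identity fixes three points. -/
def ZL (G Ω : Type*) [Group G] [MulAction G Ω] : Prop :=
  ∃ L : Subgroup G, L.Normal ∧ Two L Ω ∧ Three L Ω

/-- The theorem for groups of order less than `m`. -/
def IHG (m : ℕ) : Prop :=
  ∀ (B Δ : Type v) [Group B] [Finite B] [MulAction B Δ] [Finite Δ], Nat.card B < m →
    ∀ x y : Δ, BG B Δ x y → HasReg B Δ ∨ ZL B Δ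

/-- `A` is normal in the stabilizer of `a` and semiregular on the other points. -/
structure NS {G Ω : Type*} [Group G] [MulAction G Ω] (a : Ω) (A : Subgroup G) : Prop where
  le : A ≤ stabilizer G a
  norm : ∀ g : G, g • a = a → ∀ x ∈ A, g * x * g⁻¹ ∈ A
  semi : ∀ x ∈ A, ∀ c : Ω, c ≠ a → x • c = c → x = 1

/-- The constituent of `M` on `S` is of linear type. -/
structure LS {G Ω : Type*} [Group G] [MulAction G Ω] (a b : Ω) (M : Subgroup G) (S : Set Ω)
    (U K : Subgroup G) (p q : ℕ) : Prop where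
  prime : p.Prime
  pow : ∃ e, q = p ^ e
  cardU : Nat.card U = q
  cardS : S.ncard = q + 1
  reg : ∀ c ∈ S, c ≠ a → ∃ u ∈ U, u • b = c
  memK : ∀ t ∈ M, t ∈ Sw G a b → ∀ d, d ∈ K ↔ d ∈ M ∧ d ∈ st2 G a b ∧ t * d * t⁻¹ = d⁻¹
  cyc : IsCyclic K
  cardK : q = 2 * Nat.card K + 1
  three : 3 ≤ Nat.card K
  fixK : ∀ y ∈ K, y ≠ 1 → ∀ c ∈ S, y • c = c → c = a ∨ c = b
  cent : ∀ u ∈ M, IsPGroup 2 (zpowers u) → ∀ z ∈ M, (∀ c ∈ S, z • c = c) → Commute u z
  centK : ∀ d ∈ M, d ∈ st2 G a b → (∀ y ∈ K, Commute d y) → ∃ k ∈ K, ∀ c ∈ S, d • c = k • c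
  dih : ∃ (T : Subgroup G) (m v : ℕ), T ≤ M ∧ IsPGroup 2 T ∧ 2 ≤ m ∧
    Nonempty (T ≃* DihedralGroup m) ∧ Odd v ∧ q + 1 = Nat.card T * v

/-- `u` acts on the elementary abelian `r`-group `X` as a reflection. -/
def Refl {G : Type*} [Group G] (r : ℕ) (X : Subgroup G) (u : G) : Prop :=
  ∃ z ∈ X, orderOf z = r ∧ u * z * u⁻¹ = z⁻¹ ∧ ∀ x ∈ X, u * x * u⁻¹ * x⁻¹ ∈ zpowers z

section

variable (G : Type u) {Ω : Type v} [Group G] [MulAction G Ω]

/-- `O_p(G_c)`. -/
def PP (p : ℕ) (c : Ω) : Subgroup G := pCoreOf p (stabilizer G c)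

/-- `Z(O_p(G_c))`. -/
def UU (p : ℕ) (c : Ω) : Subgroup G := PP G p c ⊓ centralizer (PP G p c : Set G)

/-- `O_p(G_c) ∩ G_d`. -/
def YY (p : ℕ) (c d : Ω) : Subgroup G := PP G p c ⊓ stabilizer G d

/-- The subgroup generated by the elements of `G_{cd}` inverted by an involution swapping `c, d`. -/
def KK (c d : Ω) : Subgroup G :=
  closure {y | y ∈ st2 G c d ∧ ∃ t ∈ Sw G c d, t * y * t⁻¹ = y⁻¹}

/-- The elements of `G_{cd}` centralized by all involutions swapping `c, d`. -/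
def BB (c d : Ω) : Subgroup G := st2 G c d ⊓ centralizer (Sw G c d)

/-- The Fitting subgroup of `G_c`. -/
def FF (c : Ω) : Subgroup G := fittingOf (stabilizer G c)

end

/-- Case I: `O_p(G_a)` is not semiregular. -/
structure CA (G : Type u) (Ω : Type v) [Group G] [MulAction G Ω] (a b : Ω) (p : ℕ) : Prop where
  bg : BG G Ω a b
  ih : IHG.{v} (Nat.card G)
  hr : ¬ HasReg G Ω
  prime : p.Prime
  ne_bot : YY G p a b ≠ ⊥

/-- Case II: `F(G_a)` is regular on the other points and `G` is simple. -/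
structure RG (G : Type u) (Ω : Type v) [Group G] [MulAction G Ω] (a b : Ω) : Prop where
  bg : BG G Ω a b
  ih : IHG.{v} (Nat.card G)
  hr : ¬ HasReg G Ω
  ns : NS a (FF G a)
  reg : ∀ c : Ω, c ≠ a → ∃ f ∈ FF G a, f • b = c
  simple : IsSimpleGroup G

/-- A nontrivial subgroup of `G_{ab}`, normal in the stabilizer of `{a, b}`, with a third fixed
point. -/
def Star (G : Type*) {Ω : Type*} [Group G] [MulAction G Ω] (a b : Ω) : Prop :=
  ∃ Y : Subgroup G, Y ≠ ⊥ ∧ Y ≤ st2 G a b ∧ st2 G a b ≤ normalizer (Y : Set G) ∧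
    (∀ t ∈ Sw G a b, t ∈ normalizer (Y : Set G)) ∧
    ∃ f ∈ FF G a, f ≠ 1 ∧ f ∈ centralizer (Y : Set G)

end Cfsg.Agent.TT
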