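import Mathlib
import Cfsg.Agent.TT.BGDefs
import Cfsg.Agent.Perm.PGMain
import Cfsg.Agent.Perm.Witt
import Cfsg.Agent.GT.Conj
import Cfsg.Agent.GT.Fitting
import Cfsg.Agent.GT.PGroupChain
import Cfsg.Agent.S0243
import Cfsg.Agent.S0205

/-!
# Doubly transitive groups whose involutions fix no point: basic facts
-/

set_option autoImplicit false
set_option linter.unusedSectionVars false

namespace Cfsg.Agent.TT

open Subgroup MulAction Cfsg.Agent.Perm Cfsg.Agent.Perm.TT Cfsg.Agent.Perm.TwoCount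
open scoped commutatorElement

universe u v

variable {G : Type u} {Ω : Type v} [Group G] [Finite G] [MulAction G Ω] [Finite Ω] {a b : Ω}

omit [Finite G] [Finite Ω] in
theorem stab_conj (g : G) (c : Ω) :
    stabilizer G (g • c) = (stabilizer G c).map (MulAut.conj g).toMonoidHom :=
  stabilizer_smul_eq_stabilizer_map_conj g c

omit [Finite G] in
theorem conj_mem_map {g x : G} {A : Subgroup G} :
    g * x * g⁻¹ ∈ A.map (MulAut.conj g).toMonoidHom ↔ x ∈ A :=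
  mem_map_iff_mem (f := (MulAut.conj g).toMonoidHom) (MulAut.conj g).injective

omit [Finite G] [Finite Ω] in
theorem NS.conj {A : Subgroup G} (hA : NS a A) (g : G) :
    NS (g • a) (A.map (MulAut.conj g).toMonoidHom) := by
  refine ⟨stab_conj g a ▸ map_mono hA.le, ?_, ?_⟩
  · rintro k hk _ ⟨x, hx, rfl⟩
    refine ⟨_, hA.norm (g⁻¹ * k * g) (by rw [mul_smul, mul_smul, hk, inv_smul_smul]) x hx, ?_⟩
    simp [mul_assoc]
  · rintro _ ⟨x, hx, rfl⟩ c hc e
    rw [hA.semi x hx (g⁻¹ • c) (fun e' => hc (by rw [← e', smul_inv_smul])) (conj_smul_iff'.1 e),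
      map_one]

omit [Finite G] [Finite Ω] in
theorem PP_conj (p : ℕ) (g : G) (c : Ω) :
    PP G p (g • c) = (PP G p c).map (MulAut.conj g).toMonoidHom := by
  rw [PP, PP, stab_conj, GT.pCoreOf_map_conj]

omit [Finite G] [Finite Ω] in
theorem FF_conj (g : G) (c : Ω) :
    FF G (g • c) = (FF G c).map (MulAut.conj g).toMonoidHom := by
  rw [FF, FF, stab_conj, GT.map_fittingOf_of_injective _ (MulAut.conj g).injective]

omit [Finite G] [Finite Ω] in
theorem conj_mem_PP {p : ℕ} {g x : G} {c : Ω} :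
    g * x * g⁻¹ ∈ PP G p (g • c) ↔ x ∈ PP G p c := PP_conj p g c ▸ conj_mem_map

omit [Finite G] in
theorem conj_mem_cent {g x : G} {X Y : Set G} (h : ∀ y, g * y * g⁻¹ ∈ Y ↔ y ∈ X) :
    g * x * g⁻¹ ∈ centralizer Y ↔ x ∈ centralizer X := by
  refine ⟨fun k y hy => ?_, fun k y hy => ?_⟩
  · have := k _ ((h y).2 hy)
    rw [conj_mul, conj_mul] at this
    exact (MulAut.conj g).injective this
  · have := k (g⁻¹ * y * g) ((h _).1 (by simpa [mul_assoc] using hy))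
    rw [show y = g * (g⁻¹ * y * g) * g⁻¹ by group, conj_mul, conj_mul, this]

omit [Finite G] [Finite Ω] in
theorem conj_mem_UU {p : ℕ} {g x : G} {c : Ω} :
    g * x * g⁻¹ ∈ UU G p (g • c) ↔ x ∈ UU G p c :=
  and_congr conj_mem_PP (conj_mem_cent fun _ => conj_mem_PP)

omit [Finite G] [Finite Ω] in
theorem conj_mem_YY {p : ℕ} {g x : G} {c d : Ω} :
    g * x * g⁻¹ ∈ YY G p (g • c) (g • d) ↔ x ∈ YY G p c d := and_congr conj_mem_PP conj_smul_iff

omit [Finite G] [Finite Ω] in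
theorem conj_mem_st2 {g x : G} {c d : Ω} :
    g * x * g⁻¹ ∈ st2 G (g • c) (g • d) ↔ x ∈ st2 G c d := and_congr conj_smul_iff conj_smul_iff

omit [Finite G] [Finite Ω] in
theorem conj_mem_Sw {g x : G} {c d : Ω} :
    g * x * g⁻¹ ∈ Sw G (g • c) (g • d) ↔ x ∈ Sw G c d :=
  and_congr (by rw [show orderOf (g * x * g⁻¹) = orderOf x from (MulAut.conj g).orderOf_eq x])
    (by simp [mul_smul])

omit [Finite G] [Finite Ω] in
theorem conj_mem_KK' (g : G) {x : G} {c d : Ω} (hx : x ∈ KK G c d) :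
    g * x * g⁻¹ ∈ KK G (g • c) (g • d) := by
  refine (closure_le ((KK G (g • c) (g • d)).comap (MulAut.conj g).toMonoidHom)).2 ?_ hx
  rintro y ⟨hy, t, ht, e⟩
  refine subset_closure ⟨conj_mem_st2.2 hy, _, conj_mem_Sw.2 ht, ?_⟩
  change g * t * g⁻¹ * (g * y * g⁻¹) * _ = (g * y * g⁻¹)⁻¹
  rw [conj_inv, conj_inv, conj_mul, conj_mul, e]

omit [Finite G] [Finite Ω] in
theorem conj_mem_KK {g x : G} {c d : Ω} :
    g * x * g⁻¹ ∈ KK G (g • c) (g • d) ↔ x ∈ KK G c d :=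
  ⟨fun h => by simpa [mul_assoc] using conj_mem_KK' g⁻¹ h, conj_mem_KK' g⟩

omit [Finite G] [Finite Ω] in
theorem conj_mem_BB {g x : G} {c d : Ω} :
    g * x * g⁻¹ ∈ BB G (g • c) (g • d) ↔ x ∈ BB G c d :=
  and_congr conj_mem_st2 (conj_mem_cent fun _ => conj_mem_Sw)

omit [Finite G] [Finite Ω] in
theorem conj_mem_FF {g x : G} {c : Ω} : g * x * g⁻¹ ∈ FF G (g • c) ↔ x ∈ FF G c :=
  FF_conj g c ▸ conj_mem_map

omit [Finite G] [Finite Ω] in
theorem Sw_comm (c d : Ω) : Sw G c d = Sw G d c :=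
  Set.ext fun _ => ⟨fun h => ⟨h.1, Sw.swap h⟩, fun h => ⟨h.1, Sw.swap h⟩⟩

omit [Finite G] [Finite Ω] in
theorem KK_le (c d : Ω) : KK G c d ≤ st2 G c d := (closure_le _).2 fun _ h => h.1

omit [Finite G] in
theorem exists_prime_pow' {x : G} (h0 : IsOfFinOrder x) (h1 : x ≠ 1) :
    ∃ z ∈ zpowers x, (orderOf z).Prime := by
  obtain ⟨p, hp, hd⟩ := Nat.exists_prime_and_dvd (mt orderOf_eq_one_iff.1 h1)
  exact ⟨x ^ (orderOf x / p), npow_mem_zpowers _ _, by
    rwa [orderOf_pow_orderOf_div h0.orderOf_pos.ne' hd]⟩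

theorem psl_arith {q n N P o : ℕ} (hq : 2 ≤ q) (hn : 3 ≤ n) (hN : N = (q ^ n - 1) / (q - 1))
    (e : n.gcd (q - 1) * ((q - 1) * P) = ∏ i : Fin n, (q ^ n - q ^ (i : ℕ))) (hd : P ∣ N * o) :
    ¬ Odd o := fun ho => by
  obtain ⟨m, rfl⟩ : ∃ m, n = m + 3 := ⟨n - 3, by omega⟩
  obtain ⟨r, rfl⟩ : ∃ r, q = r + 1 := ⟨q - 1, by omega⟩
  rw [Fin.prod_univ_succ, Fin.prod_univ_castSucc, Fin.prod_univ_castSucc] at e
  simp only [Nat.add_sub_cancel, Fin.val_zero, pow_zero, Fin.val_succ, Fin.val_castSucc,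
    Fin.val_last] at e hN
  have h1 : (r + 1) ^ (m + 3) - 1 = r * N := by
    rw [hN, Nat.mul_div_cancel' (by simpa using Nat.sub_one_dvd_pow_sub_one (r + 1) (m + 3))]
  have hr : 0 < r := by omega
  have hN0 : 0 < N := Nat.pos_of_mul_pos_left (h1 ▸ Nat.sub_pos_of_lt (Nat.one_lt_pow (by omega) hq))
  have h2 : (r + 1) ^ (m + 3) - (r + 1) ^ (m + 1 + 1) = (r + 1) ^ (m + 2) * r := by
    rw [pow_succ (r + 1) (m + 2), mul_add, mul_one, Nat.add_sub_cancel]
  have h3 : (r + 1) ^ (m + 3) - (r + 1) ^ (m + 1) = (r + 1) ^ m * r * ((r + 1) * (r + 1 + 1)) := by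
    apply Nat.sub_eq_of_eq_add; ring
  rw [h1, h2, h3] at e
  obtain ⟨k, hk⟩ := Nat.gcd_dvd_right (m + 3) r
  have h4 : r * N * (r * 2) ∣ r * N * (r * o) := by
    refine (mul_dvd_mul_left _ ?_).trans (e.symm.dvd.trans ?_)
    · rw [mul_comm r]
      exact mul_dvd_mul (((Nat.even_mul_succ_self (r + 1)).two_dvd.mul_left _).mul_left _)
        (dvd_mul_left _ _)
    · obtain ⟨j, hj⟩ := hd
      exact ⟨k * j, by
        rw [show r * N * (r * o) = r * r * (N * o) by ring, hj]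
        nth_rewrite 1 [hk]
        ring⟩
  exact ho.not_two_dvd_nat (Nat.dvd_of_mul_dvd_mul_left hr
    (Nat.dvd_of_mul_dvd_mul_left (Nat.mul_pos hr hN0) h4))

namespace BG

variable (h : BG G Ω a b)
include h

theorem pair {c d : Ω} (hcd : c ≠ d) : BG G Ω c d :=
  ⟨h.two, h.even, hcd, (h.two.card_st2 h.ne hcd).symm ▸ h.odd⟩

theorem exists_ne (c : Ω) : ∃ d, c ≠ d := by
  by_cases e : c = a
  exacts [⟨b, e ▸ h.ne⟩, ⟨a, e⟩]

theorem odd_stab (c : Ω) : Odd (Nat.card (stabilizer G c)) := by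
  obtain ⟨d, hd⟩ := h.exists_ne c
  have : Nonempty Ω := ⟨a⟩
  rw [h.two.card_stab hd]
  exact (Nat.Even.sub_odd Nat.card_pos h.even odd_one).mul (h.pair hd).odd

theorem solv (c : Ω) : Group.IsSolvable (stabilizer G c) := S0205.result (h.odd_stab c)

theorem odd_fix {g : G} {c : Ω} (hg : g • c = c) : Odd (orderOf g) :=
  Odd.of_dvd_nat (h.odd_stab c) ((stabilizer G c).orderOf_dvd_natCard hg)

theorem fpf {u : G} (hu : orderOf u = 2) (c : Ω) : u • c ≠ c := fun e =>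
  ne_one_two hu (eq_one_of_odd_of_sq (h.odd_fix e) (mul_self_two hu))

theorem eq_one_of_inv {d : G} {c : Ω} (hd : d • c = c) (e : d = d⁻¹) : d = 1 :=
  eq_one_of_odd_of_sq (h.odd_fix hd) (mul_eq_one_iff_eq_inv.2 e)

theorem not_inv {g y : G} {c d : Ω} (hg : g • c = c) (hy : y • d = d) (e : g * y * g⁻¹ = y⁻¹) :
    y = 1 := by
  obtain ⟨r, hr, rfl⟩ := exists_sqrt_of_odd (h.odd_fix hg)
  have e1 : Commute (r * r * (r * r)) y := by
    rw [Commute, SemiconjBy, ← mul_inv_eq_iff_eq_mul, show r * r * (r * r) * y * (r * r * (r * r))⁻¹ =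
      r * r * (r * r * y * (r * r)⁻¹) * (r * r)⁻¹ by group, e, ← conj_inv, e, inv_inv]
  have e2 : r * r ∈ zpowers (r * r * (r * r)) := by
    rw [← sq (r * r)]
    exact mem_zpowers_pow_iff.2 (Nat.coprime_two_left.2 (h.odd_fix hg))
  obtain ⟨k, hk⟩ := e2
  have e3 : Commute (r * r) y := hk ▸ e1.zpow_left k
  exact h.eq_one_of_inv hy (by rw [← e, e3.eq, mul_inv_cancel_right])

theorem conj_mem {t d : G} (ht : t ∈ Sw G a b) (hd : d ∈ st2 G a b) :
    t * d * t⁻¹ ∈ st2 G a b := by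
  have := conj_mem_st2 (g := t) (x := d) (c := b) (d := a)
  rw [Sw.swap ht, ht.2] at this
  exact this.2 ⟨hd.2, hd.1⟩

theorem conj_sw {t d : G} (ht : t ∈ Sw G a b) (hd : d ∈ st2 G a b) :
    d * t * d⁻¹ ∈ Sw G a b := by
  have := conj_mem_Sw (g := d) (x := t) (c := a) (d := b)
  rw [show d • a = a from hd.1, show d • b = b from hd.2] at this
  exact this.2 ht

theorem sw_mul {t u : G} (ht : t ∈ Sw G a b) (hu : u ∈ Sw G a b) :
    t * u ∈ st2 G a b ∧ t * (t * u) * t⁻¹ = (t * u)⁻¹ :=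
  ⟨mem_st2.2 ⟨by rw [mul_smul, hu.2, Sw.swap ht], by rw [mul_smul, Sw.swap hu, ht.2]⟩,
    by rw [← mul_assoc, mul_self_two ht.1, one_mul, mul_inv_rev, inv_two hu.1]⟩

theorem mul_sw {t y : G} (ht : t ∈ Sw G a b) (hy : y ∈ st2 G a b) (e : t * y * t⁻¹ = y⁻¹) :
    t * y ∈ Sw G a b := by
  have e1 : (t * y) • a = b := by rw [mul_smul, show y • a = a from hy.1, ht.2]
  refine ⟨two_of ?_ fun e' => h.ne (by rw [← e1, e', one_smul]), e1⟩
  rw [← mul_assoc, ← inv_two ht.1, inv_two ht.1]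
  nth_rewrite 2 [← inv_two ht.1]
  rw [e, inv_mul_cancel]

theorem sw_conj {t u : G} (ht : t ∈ Sw G a b) (hu : u ∈ Sw G a b) :
    ∃ d ∈ zpowers (t * u), u = d * t * d⁻¹ := by
  obtain ⟨h1, h2⟩ := h.sw_mul ht hu
  obtain ⟨r, hr, e⟩ := exists_sqrt_of_odd (h.odd_fix h1.1)
  refine ⟨r⁻¹, inv_mem hr, ?_⟩
  have h3 : t * r * t⁻¹ = r⁻¹ := by
    obtain ⟨k, rfl⟩ := hr
    simp only
    rw [← conj_zpow, h2, inv_zpow]
  rw [inv_inv, ← h3, inv_mul_cancel_right, mul_assoc, e, ← mul_assoc, mul_self_two ht.1, one_mul]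

theorem exists_sw_of_swap {g : G} (h1 : g • a = b) (h2 : g • b = a) :
    ∃ u ∈ zpowers g, u ∈ Sw G a b := by
  have e : (g * g) • a = a := by rw [mul_smul, h1, h2]
  obtain ⟨k, hk⟩ := h.odd_fix e
  have e1 : (g ^ (2 * k + 1)) • a = b := by
    rw [pow_succ', mul_smul, pow_mul, sq, pow_smul_fix e (npow_mem_zpowers _ k), h1]
  refine ⟨_, npow_mem_zpowers _ _, two_of ?_ fun e' => h.ne (by rw [← e1, e', one_smul]), e1⟩
  rw [← (Commute.refl g).mul_pow, ← hk, pow_orderOf_eq_one]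

theorem exists_sw : ∃ t, t ∈ Sw G a b := h.two.exists_swap h.ne

theorem isConj {u w : G} (hu : orderOf u = 2) (hw : orderOf w = 2) : IsConj u w := by
  obtain ⟨g, hg⟩ := h.two.exists_conj_swap hu h.ne
  obtain ⟨k, hk⟩ := h.two.exists_conj_swap hw h.ne
  obtain ⟨d, -, e⟩ := h.sw_conj ⟨two_conj hu g, hg⟩ ⟨two_conj hw k, hk⟩
  refine isConj_iff.2 ⟨k⁻¹ * d * g, ?_⟩
  rw [show w = k⁻¹ * (k * w * k⁻¹) * k by group, e]
  group

theorem mem_of_normal {M : Subgroup G} [hM : M.Normal] (h1 : M ≠ ⊥) {u : G} (hu : orderOf u = 2) :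
    u ∈ M := by
  have t1 : T1 M (Set.univ : Set Ω) :=
    ⟨fun _ _ _ _ => trivial, fun c _ d _ => h.two.normal_trans h1 c d⟩
  obtain ⟨w, hw⟩ := exists_prime_orderOf_dvd_card' (G := M) 2
    (t1.card (a := a) trivial ▸ (Set.ncard_univ Ω ▸ h.even).two_dvd.mul_right _)
  rw [← orderOf_coe] at hw
  obtain ⟨g, hg⟩ := isConj_iff.1 (h.isConj hw hu)
  exact hg ▸ hM.conj_mem _ w.2 g

theorem hasReg_of_uniq {s : G} (hI : ∀ u ∈ Sw G a b, u = s) : HasReg G Ω := by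
  classical
  have uniq : ∀ {u w : G}, orderOf u = 2 → orderOf w = 2 → ∀ c : Ω, u • c = w • c → u = w :=
    fun {u w} hu hw c e => by
      obtain ⟨g, h1, h2⟩ := h.two.two (h.fpf hu c).symm h.ne
      have k : ∀ {u' : G}, orderOf u' = 2 → u' • c = u • c → g * u' * g⁻¹ = s := fun hu' e' =>
        hI _ ⟨two_conj hu' g, by rw [← h2, ← h1, ← e']; simp [mul_smul]⟩
      simpa using (k hu rfl).trans (k hw e.symm).symm
  have cent : ∀ {u x : G} {c : Ω}, orderOf u = 2 → x • c = c → x • u • c = u • c → Commute x u :=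
    fun {u x c} hu h1 h2 => mul_inv_eq_iff_eq_mul.1 (uniq (two_conj hu x) hu c (by
      rw [mul_smul, mul_smul, inv_smul_eq_iff.2 h1.symm, h2]))
  obtain ⟨sw, hsw⟩ : ∃ sw : Ω → Ω → G, ∀ c d, sw c d • c = d ∧ sw c d * sw c d = 1 ∧
      ∀ x : G, x • c = c → x • d = d → Commute x (sw c d) := by
    refine ⟨fun c d => if e : c = d then 1 else (h.two.exists_swap e).choose, fun c d => ?_⟩
    by_cases e : c = d
    · simp [e]
    · have := (h.two.exists_swap e).choose_spec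
      simp only [dif_neg e]
      exact ⟨this.2, mul_self_two this.1, fun x h1 h2 => cent this.1 h1 (by rwa [this.2])⟩
  obtain ⟨β, hβ⟩ : ∃ β : G → Ω, ∀ (x : G) (c : Ω), x • c = c → x • β x = β x :=
    ⟨fun x => if e : ∃ c : Ω, x • c = c then e.choose else a, fun x c hc => by
      simp only [dif_pos (⟨c, hc⟩ : ∃ c : Ω, x • c = c)]
      exact Exists.choose_spec (⟨c, hc⟩ : ∃ c : Ω, x • c = c)⟩
  have inj : Function.Injective fun p : Σ x : G, fixedBy Ω x => p.1 * sw (β p.1) p.2 := by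
    rintro ⟨x, c, hc⟩ ⟨y, d, hd⟩ e
    have ho := (h.odd_fix hc).mul (h.odd_fix hd)
    have e1 := congrArg (· ^ (orderOf x * orderOf y)) e
    simp only at e e1
    rw [mul_pow_odd ((hsw _ _).2.2 x (hβ x c hc) hc) (hsw _ _).2.1 ho
      (by rw [pow_mul, pow_orderOf_eq_one, one_pow]), mul_pow_odd ((hsw _ _).2.2 y (hβ y d hd) hd)
      (hsw _ _).2.1 ho (by rw [pow_mul', pow_orderOf_eq_one, one_pow])] at e1
    obtain rfl : x = y := by rwa [e1, mul_left_inj] at e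
    obtain rfl : c = d := by rw [← (hsw (β x) c).1, e1, (hsw _ _).1]
    rfl
  have := h.two.isPretransitive
  have : Nonempty (Quotient (orbitRel G Ω)) := ⟨Quotient.mk _ a⟩
  have : Subsingleton (Quotient (orbitRel G Ω)) := (pretransitive_iff_subsingleton_quotient G Ω).1 ‹_›
  have surj := ((Nat.bijective_iff_injective_and_card _).2 ⟨inj, by
    rw [Nat.card_congr (sigmaFixedByEquivOrbitsProdGroup G Ω), Nat.card_prod,
      Nat.card_unique (α := Quotient (orbitRel G Ω)), one_mul]⟩).2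
  have key : ∀ u w : G, u * u = 1 → w * w = 1 → u * w * (u * w) = 1 := fun u w hu hw => by
    by_cases e : u = 1
    · rwa [e, one_mul]
    obtain ⟨⟨x, c, hc⟩, e1⟩ := surj (u * w)
    simp only at e1
    obtain ⟨k, hk⟩ := h.odd_fix hc
    have e2 : (u * w) ^ (2 * (k + 1)) = x := by
      rw [← e1, ((hsw _ _).2.2 x (hβ x c hc) hc).mul_pow, pow_mul (sw _ _), sq, (hsw _ _).2.1,
        one_pow, mul_one, show 2 * (k + 1) = orderOf x + 1 by omega, pow_succ, pow_orderOf_eq_one,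
        one_mul]
    have e3 : u * x * u⁻¹ = x⁻¹ := by
      rw [← e2, ← conj_pow, ← inv_pow, mul_inv_rev, ← mul_assoc, hu, one_mul,
        inv_eq_of_mul_eq_one_right hw]
    have e4 := cent (two_of hu e) hc (by
      rw [smul_eq_iff_eq_inv_smul, ← mul_smul, ← e3, inv_mul_cancel_right, mul_smul, hc])
    rw [← e4.eq, mul_inv_cancel_right] at e3
    rw [← e1, h.eq_one_of_inv hc e3, one_mul, (hsw _ _).2.1]
  let N : Subgroup G :=
    { carrier := {g | g * g = 1}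
      one_mem' := mul_one 1
      mul_mem' := key _ _
      inv_mem' := fun {g} hg => by rwa [inv_eq_of_mul_eq_one_right hg] }
  have : N.Normal := ⟨fun g hg k => by
    change _ * _ = _
    rw [conj_mul, show g * g = 1 from hg, mul_one, mul_inv_cancel]⟩
  obtain ⟨t, ht⟩ := h.exists_sw
  refine h.two.hasReg_of_comm N (fun e => ne_one_two ht.1 (mem_bot.1 (e ▸ mul_self_two ht.1))) ?_
  intro x hx y hy
  rw [← inv_eq_of_mul_eq_one_right (key x y hx hy), mul_inv_rev, inv_eq_of_mul_eq_one_right hx,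
    inv_eq_of_mul_eq_one_right hy]

theorem exists_inv (hr : ¬ HasReg G Ω) {t : G} (ht : t ∈ Sw G a b) :
    ∃ y ∈ st2 G a b, (orderOf y).Prime ∧ t * y * t⁻¹ = y⁻¹ := by
  obtain ⟨u, hu, e⟩ : ∃ u ∈ Sw G a b, u ≠ t := by
    by_contra hn
    push Not at hn
    exact hr (h.hasReg_of_uniq hn)
  obtain ⟨h1, h2⟩ := h.sw_mul ht hu
  obtain ⟨_, ⟨k, rfl⟩, hp⟩ := exists_prime_pow' (isOfFinOrder_of_finite (t * u)) fun e' =>
    e (by rw [eq_inv_of_mul_eq_one_right e', inv_two ht.1])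
  exact ⟨_, zpow_mem h1 k, hp, by rw [← conj_zpow, h2, inv_zpow]⟩

theorem ns_of_comm {c : Ω} {A : Subgroup G} (hA : A ≤ stabilizer G c)
    (hn : ∀ g : G, g • c = c → ∀ x ∈ A, g * x * g⁻¹ ∈ A) (hc : ∀ x ∈ A, ∀ y ∈ A, x * y = y * x) :
    NS c A := by
  refine ⟨hA, hn, fun x hx d hd e => by_contra fun h1 => ?_⟩
  have := h.two.faithful
  obtain ⟨F, _, _, n, hn3, hN, L, -, ⟨φ⟩, -⟩ := PG.onan (fun _ _ _ _ h1 h2 => h.two.two h1 h2) c A
    (fun _ hx => hA hx) hn hc ⟨x, hx, h1, d, hd, e⟩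
  refine psl_arith Fintype.one_lt_card hn3 hN (S0243.result rfl n (by omega)) ?_ (h.odd_stab a)
  rw [← Nat.card_congr φ.toEquiv, h.two.card_stab h.ne, ← h.two.card_eq h.ne]
  exact card_subgroup_dvd_card L

theorem good_trans {A : Subgroup G} (hA : NS a A) {p : ℕ} (hp : p.Prime) {X : Set G}
    (hX : ∀ x ∈ X, x • a = a) (h1 : ∃ z ∈ A, orderOf z = p ∧ z ∈ centralizer X) {g : G}
    (hX' : ∀ x ∈ X, x • g • a = g • a)
    (h2 : ∃ z ∈ A, orderOf z = p ∧ g * z * g⁻¹ ∈ centralizer X) :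
    ∃ k ∈ centralizer X, k • a = g • a := by
  refine gleason_trans hp (centralizer X) {c | (∀ x ∈ X, x • c = c) ∧ ∃ k : G, k • a = c ∧
    ∃ z ∈ A, orderOf z = p ∧ k * z * k⁻¹ ∈ centralizer X} ?_ ?_ a
    ⟨hX, 1, one_smul _ _, by simpa using h1⟩ _ ⟨hX', g, rfl, h2⟩
  · rintro m hm _ ⟨k1, k, rfl, z, hz, hz1, hz2⟩
    refine ⟨fun x hx => by rw [← mul_smul, hm x hx, mul_smul, k1 x hx], m * k, mul_smul _ _ _, z,
      hz, hz1, ?_⟩
    rw [show m * k * z * (m * k)⁻¹ = m * (k * z * k⁻¹) * m⁻¹ by group]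
    exact mul_mem (mul_mem hm hz2) (inv_mem hm)
  · rintro _ ⟨-, k, rfl, z, hz, hz1, hz2⟩
    refine ⟨zpowers (k * z * k⁻¹), zpowers_le.2 hz2, isPGroup_zpowers_of_pow (k := 1) ?_,
      fun x hx => pow_smul_fix (conj_smul_iff.2 (hA.le hz)) hx, fun d _ hd => by_contra fun e => ?_⟩
    · rw [pow_one, conj_pow, ← hz1, pow_orderOf_eq_one, mul_one, mul_inv_cancel]
    · have := hA.semi z hz (k⁻¹ • d) (fun e' => e (by rw [← e', smul_inv_smul]))
        (conj_smul_iff'.1 (hd _ (mem_zpowers _)))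
      rw [this, orderOf_one] at hz1
      exact hp.one_lt.ne hz1

theorem eq_one_of_real {A : Subgroup G} (hA : NS a A) {y g : G} (hy : y • a = a) (h1 : y ≠ 1)
    (hg : g * y * g⁻¹ = y⁻¹) {x : G} (hx : x ∈ A) (hc : Commute x y) : x = 1 := by_contra fun e => by
  obtain ⟨z, hz, hp⟩ := exists_prime_pow' (isOfFinOrder_of_finite x) e
  have hz1 : Commute z y := by
    obtain ⟨k, rfl⟩ := hz
    exact hc.zpow_left k
  have hg' : y = g * y⁻¹ * g⁻¹ := by rw [← conj_inv, hg, inv_inv]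
  obtain ⟨k, hk, e1⟩ := h.good_trans hA hp (X := {y}) (by simpa using hy)
    ⟨z, zpowers_le.2 hx hz, rfl, mem_centralizer_singleton_iff.2 hz1⟩ (g := g)
    (by
      rintro _ rfl
      nth_rewrite 1 [hg']
      exact conj_smul_iff.2 (inv_smul_eq_iff.2 hy.symm))
    ⟨z, zpowers_le.2 hx hz, rfl, mem_centralizer_singleton_iff.2 (by
      nth_rewrite 1 [hg']
      nth_rewrite 2 [hg']
      rw [conj_mul, conj_mul, hz1.inv_right.eq])⟩
  refine h1 (h.not_inv (g := k⁻¹ * g) (by rw [mul_smul, ← e1, inv_smul_smul]) hy ?_)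
  have hk' : Commute k y := mem_centralizer_singleton_iff.1 hk
  rw [show k⁻¹ * g * y * (k⁻¹ * g)⁻¹ = k⁻¹ * (g * y * g⁻¹) * k by group, hg,
    hk'.inv_inv.eq, inv_mul_cancel_right]

theorem exists_cent {A X : Subgroup G} (hA : NS a A) {p : ℕ} (hp : p.Prime)
    (h1 : p ∣ Nat.card A) (hN : Group.IsNilpotent A) (hX : IsPGroup p X)
    (hXa : X ≤ stabilizer G a) : ∃ z ∈ A, orderOf z = p ∧ z ∈ centralizer (X : Set G) := by
  have := Fact.mk hp
  have hn : X ≤ normalizer (A : Set G) := fun x hx => mem_normalizer_fintype fun z hz =>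
    hA.norm x (hXa hx) z hz
  obtain ⟨w, hw⟩ := exists_prime_orderOf_dvd_card' (G := A) p h1
  rw [← orderOf_coe] at hw
  have h2 : zpowers (w : G) ≤ pCoreOf p A := GT.le_pCoreOf_of_le_fittingOf
    (isPGroup_zpowers_of_pow (k := 1) (by rw [pow_one, ← hw, pow_orderOf_eq_one]))
    ((GT.fittingOf_eq_self_iff.2 hN).symm ▸ zpowers_le.2 w.2)
  obtain ⟨⟨x, hx⟩, hx1⟩ := ne_bot_iff_exists_ne_one.1 (GT.PG.inf_centralizer_ne_bot_of_isPGroup
    (GT.isPGroup_pCoreOf p A) hX (hn.trans (GT.normalizer_le_normalizer_pCoreOf A)) fun e => by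
      rw [show (w : G) = 1 from mem_bot.1 (e ▸ h2 (mem_zpowers _)), orderOf_one] at hw
      exact hp.one_lt.ne hw)
  obtain ⟨z, hz, hq⟩ := exists_prime_pow' (isOfFinOrder_of_finite x) fun e => hx1 (Subtype.ext e)
  replace hz := zpowers_le.2 hx hz
  refine ⟨z, GT.pCoreOf_le A hz.1, ?_, hz.2⟩
  obtain ⟨k, hk⟩ := GT.isPGroup_pCoreOf p A ⟨z, hz.1⟩
  exact (Nat.prime_dvd_prime_iff_eq hq hp).1
    (hq.dvd_of_dvd_pow (orderOf_dvd_of_pow_eq_one (congrArg Subtype.val hk)))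

theorem t1_of_pgroup {A X : Subgroup G} (hA : NS a A) {p : ℕ} (hp : p.Prime)
    (h1 : p ∣ Nat.card A) (hN : Group.IsNilpotent A) (hX : IsPGroup p X) :
    T1 (centralizer (X : Set G)) (fixedPoints X Ω) := by
  have k : ∀ (g : G) {B : Subgroup G} {c : Ω}, NS c B → p ∣ Nat.card B → Group.IsNilpotent B →
      NS (g • c) (B.map (MulAut.conj g).toMonoidHom) ∧
      p ∣ Nat.card (B.map (MulAut.conj g).toMonoidHom) ∧
      Group.IsNilpotent (B.map (MulAut.conj g).toMonoidHom) := fun g B c k1 k2 k3 =>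
    ⟨k1.conj g, by rwa [card_map_of_injective (MulAut.conj g).injective],
      Group.nilpotent_of_surjective _ ((MulAut.conj g).toMonoidHom.subgroupMap_surjective B)⟩
  refine ⟨fun g hg c hc x => ?_, fun c hc d hd => ?_⟩
  · change (x : G) • g • c = _
    rw [← mul_smul, hg x x.2, mul_smul, show (x : G) • c = c from hc x]
  obtain ⟨g, rfl⟩ := h.two.trans a c
  obtain ⟨m, rfl⟩ := h.two.trans (g • a) d
  obtain ⟨e, he⟩ := h.exists_ne (g • a)
  obtain ⟨e', he'⟩ := h.exists_ne (m • g • a)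
  obtain ⟨k1, k2, k3⟩ := k g hA h1 hN
  obtain ⟨k4, k5, k6⟩ := k m k1 k2 k3
  obtain ⟨_, ⟨z, hz, rfl⟩, z1, z2⟩ := (h.pair he').exists_cent k4 hp k5 k6 hX fun x hx => hd ⟨x, hx⟩
  exact (h.pair he).good_trans k1 hp (fun x hx => hc ⟨x, hx⟩)
    ((h.pair he).exists_cent k1 hp k2 k3 hX fun x hx => hc ⟨x, hx⟩) (fun x hx => hd ⟨x, hx⟩)
    ⟨z, hz, ((MulAut.conj m).orderOf_eq z).symm.trans z1, z2⟩

theorem cent_of_two {X : Subgroup G} {g k : G} {c : Ω} (hg : g ∈ normalizer (X : Set G))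
    (h2 : IsPGroup 2 (zpowers g)) (hk : k ∈ centralizer (X : Set G)) (e : k • c = g • c) :
    g ∈ centralizer (X : Set G) := by
  have ho := h.odd_fix (g := k⁻¹ * g) (c := c) (by rw [mul_smul, ← e, inv_smul_smul])
  have k1 : ∀ m : ℕ, ∃ z ∈ centralizer (X : Set G), (k⁻¹ * g) ^ m = z * g ^ m := fun m => by
    induction m with
    | zero => exact ⟨1, one_mem _, by simp⟩
    | succ m ih =>
      obtain ⟨z, hz, e1⟩ := ih
      refine ⟨z * (g ^ m * k⁻¹ * (g ^ m)⁻¹), mul_mem hz ?_, by rw [pow_succ, e1, pow_succ]; group⟩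
      exact (conj_mem_cent fun y => ((mem_normalizer_iff.1 (pow_mem hg m)) y).symm).2 (inv_mem hk)
  obtain ⟨z, hz, e1⟩ := k1 (orderOf (k⁻¹ * g))
  rw [pow_orderOf_eq_one, eq_comm, ← eq_inv_iff_mul_eq_one] at e1
  obtain ⟨j, hj⟩ := h2 ⟨g, mem_zpowers g⟩
  refine zpowers_le.2 (inv_mem_iff.1 (e1 ▸ hz)) (mem_zpowers_pow_iff.2 ?_)
  exact Nat.Coprime.coprime_dvd_right (orderOf_dvd_of_pow_eq_one (congrArg Subtype.val hj))
    ((Nat.coprime_two_right.2 ho).pow_right j)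

theorem two_of_normal {t y : G} (ht : t ∈ Sw G a b) (hy : y ∈ st2 G a b)
    (hp : (orderOf y).Prime) (e : t * y * t⁻¹ = y⁻¹) (hf : ∀ c : Ω, y • c = c → c = a ∨ c = b)
    {M : Subgroup G} [hM : M.Normal] (h1 : M ≠ ⊥) : Two M Ω := by
  have hyM : y ∈ M := (mul_mem_cancel_left (h.mem_of_normal h1 ht.1)).1
    (h.mem_of_normal h1 (h.mul_sw ht hy e).1)
  refine h.two.subgroup (a := a) (h.two.normal_trans h1 a) fun c d ca da => ?_
  obtain ⟨m, hm, e'⟩ := gleason_trans hp (M ⊓ stabilizer G a) {c | c ≠ a} (fun g hg c hc e' =>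
    hc (smul_left_cancel g (e'.trans (show g • a = a from hg.2).symm))) (fun c hc => by
      obtain ⟨g, g1, rfl⟩ := h.two.two h.ne (Ne.symm hc)
      refine ⟨zpowers (g * y * g⁻¹), zpowers_le.2 ⟨hM.conj_mem _ hyM g,
        g1 ▸ conj_smul_iff.2 hy.1⟩, isPGroup_zpowers_of_pow (k := 1) ?_,
        fun x hx => pow_smul_fix (conj_smul_iff.2 hy.2) hx, fun d hd hd' => ?_⟩
      · rw [pow_one, conj_pow, pow_orderOf_eq_one, mul_one, mul_inv_cancel]
      · rcases hf _ (conj_smul_iff'.1 (hd' _ (mem_zpowers _))) with k | k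
        · exact absurd (by rw [← g1, ← k, smul_inv_smul]) hd
        · rw [← k, smul_inv_smul]) c ca d da
  exact ⟨m, hm.1, hm.2, e'⟩

theorem simple_or (ih : IHG.{v} (Nat.card G)) (hr : ¬ HasReg G Ω) {t y : G} (ht : t ∈ Sw G a b)
    (hy : y ∈ st2 G a b) (hp : (orderOf y).Prime) (e : t * y * t⁻¹ = y⁻¹)
    (hf : ∀ c : Ω, y • c = c → c = a ∨ c = b) : ZL G Ω ∨ IsSimpleGroup G := by
  let M : Subgroup G := normalClosure {t}
  have tM : t ∈ M := subset_normalClosure rfl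
  have hM1 : M ≠ ⊥ := fun e => ne_one_two ht.1 (mem_bot.1 (e ▸ tM))
  by_cases hM2 : M = ⊤
  · have : Nontrivial G := ⟨t, 1, ne_one_two ht.1⟩
    exact .inr ⟨fun N _ => or_iff_not_imp_left.2 fun hN => eq_top_iff.2 (hM2 ▸ normalClosure_le_normal
      (Set.singleton_subset_iff.2 (h.mem_of_normal hN ht.1)))⟩
  have t2 := h.two_of_normal ht hy hp e hf hM1
  refine .inl ⟨M, inferInstance, t2, ?_⟩
  obtain ⟨B, Δ, _, _, π, ι, hc⟩ := exists_con M (Set.univ : Set Ω) fun _ _ _ _ => trivial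
  have := hc.finite
  have := hc.finite_pts
  obtain ⟨x, hx⟩ := hc.exists_eq (c := a) trivial
  obtain ⟨z, hz⟩ := hc.exists_eq (c := b) trivial
  have hB : BG B Δ x z := ⟨hc.two ⟨fun _ _ _ _ => trivial, fun _ _ _ _ _ _ _ _ e e' =>
      let ⟨g, hg⟩ := t2.two e e'; ⟨g, g.2, hg⟩⟩, (hc.card_pts.trans (Set.ncard_univ Ω)).symm ▸ h.even,
    fun e => h.ne (hx ▸ hz ▸ congrArg ι e), Odd.of_dvd_nat (hx ▸ hz ▸ h.odd) (hc.card_st2_dvd x z)⟩
  rcases ih B Δ (hc.card_le.trans_lt (lt_of_le_of_ne (card_le_card_group M)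
    fun e => hM2 (eq_top_of_card_eq M e))) x z hB with hr' | ⟨L, hL, l2, l3⟩
  · exact absurd (h.two.hasReg_of_normal t2 h.ne (hc.hasReg h.two.faith hr')) hr
  have inj := hc.injective h.two.faith
  have hL1 : L ≠ ⊥ := by
    rintro rfl
    obtain ⟨g, hg⟩ := l2.trans x z
    exact hB.ne (by rw [← hg, Subsingleton.elim g 1, one_smul])
  have hL2 : M ≤ (L.comap π).map M.subtype := (closure_le _).2 fun u hu => by
    have k := Group.mem_conjugatesOfSet_iff.1 hu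
    simp only [Set.mem_singleton_iff, exists_eq_left] at k
    exact ⟨⟨u, subset_closure hu⟩, hB.mem_of_normal hL1 (by
      rw [orderOf_injective π inj, ← orderOf_coe]; exact two_isConj ht.1 k), rfl⟩
  refine hc.three h.two.faith fun g c d e n1 n2 n3 g1 g2 g3 => ?_
  obtain ⟨m, rfl⟩ := hc.surj g
  obtain ⟨m', hm', e'⟩ := hL2 m.2
  obtain rfl : m' = m := Subtype.ext e'
  exact congrArg Subtype.val (l3 ⟨_, hm'⟩ c d e n1 n2 n3 g1 g2 g3)

theorem noncomm (hr : ¬ HasReg G Ω) : ¬ IsMulCommutative G := fun hc => by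
  obtain ⟨t, ht⟩ := h.exists_sw
  exact hr (h.two.hasReg_of_comm ⊤ (fun e => ne_one_two ht.1 (mem_bot.1 (e ▸ mem_top t)))
    fun x _ y _ => hc.is_comm.comm x y)

end BG

end Cfsg.Agent.TT
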