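import Mathlib
import Cfsg.Agent.TT.Chr
import Cfsg.Agent.Ch.Kernel
import Cfsg.Agent.Ch.Integrality

/-! Linear characters of a point stabilizer of a simple doubly transitive group. -/

set_option autoImplicit false

namespace Cfsg.Agent.TT

open MulAction Cfsg Cfsg.Agent.Ch Cfsg.Agent.Perm
open scoped ComplexConjugate

/-- The two constituents of the induced character. -/
theorem exists_pair {G Ω : Type*} [Group G] [Fintype G] [MulAction G Ω] [Finite Ω]
    (h2 : IsMultiplyPretransitive G Ω 2) {a b : Ω} [Fintype (stabilizer G a)] (hab : a ≠ b) {m : ℕ}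
    (hm : 0 < m) (hcard : m + 1 = Nat.card Ω) (lam : stabilizer G a →* ℂˣ)
    {s : G} (hs : orderOf s = 2) (hsa : s • a = b) (hfpf : ∀ c : Ω, s • c ≠ c)
    (hsd : ∀ d d' : stabilizer G a, (d : G) • b = b → s * d * s⁻¹ = d' → lam d' = lam d)
    (hX : ∀ s' : G, IsConj s s' → s' • a = b → ∀ d : stabilizer G a, (d : G) = s * s' →
      lam d = 1) :
    ∃ f g : G → ℂ, IsIrrCharacter G f ∧ IsIrrCharacter G g ∧
      charDegree f + charDegree g = m + 1 ∧ m ∣ charDegree f * charDegree g ∧
      (∀ h : stabilizer G a, f h + g h = lam h * Nat.card (fixedBy Ω (h : G))) ∧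
      classInner (fun h : stabilizer G a => f h) (fun x => (lam x : ℂ)) = 1 ∧
      classInner (fun h : stabilizer G a => g h) (fun x => (lam x : ℂ)) = 1 := by
  classical
  have := isPretransitive_of_is_two_pretransitive (G := G) (α := Ω)
  have hss : s * s = 1 := by rw [← sq, ← hs, pow_orderOf_eq_one]
  set π : G → ℂ := fun g => (Nat.card (fixedBy Ω g) : ℂ) with hπ
  have hπi : ∀ g, π g = indFun (stabilizer G a) (fun _ => 1) g := card_fixedBy_eq_indFun_one Ω a
  set θ := indFun (stabilizer G a) fun x => (lam x : ℂ) with hθ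
  have hθc : IsCharacter G θ := isCharacter_indFun _ (isCharacter_monoidHom_units lam)
  have hχ : IsIrrCharacter G fun g => π g - 1 := (S0157.result Ω (by omega)).2 h2
  have hπ1 : π 1 = m + 1 := by
    simp only [hπ, fixedBy_one_eq_univ, Nat.card_univ, ← hcard]
    push_cast
    rfl
  have hπs : π s = 0 := by rw [hπi, indFun_eq_zero_of_forall_not_mem _ _ fun x hx =>
    hfpf (x⁻¹ • a) (by rw [← mul_smul, eq_inv_smul_iff, ← mul_smul, ← mul_assoc]; exact hx)]
  have hθs : θ s = 0 := indFun_eq_zero_of_forall_not_mem _ _ fun x hx =>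
    hfpf (x⁻¹ • a) (by rw [← mul_smul, eq_inv_smul_iff, ← mul_smul, ← mul_assoc]; exact hx)
  have hA : ∀ h : stabilizer G a, θ h = lam h * π h := fun h => by
    rw [hπi, hθ, indFun_apply, indFun_apply, mul_left_comm, Finset.mul_sum _ _ (lam h : ℂ)]
    refine congrArg (_ * ·) (Finset.sum_congr rfl fun y _ => ?_)
    by_cases c : y⁻¹ * h * y ∈ stabilizer G a
    · rw [extendByZero_of_mem _ _ c, extendByZero_of_mem _ _ c, chr_fuse h2 hab hss hsa hsd h.2 c,
        mul_one]
    · rw [extendByZero_of_not_mem _ _ c, extendByZero_of_not_mem _ _ c, mul_zero]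
  have hB : ∀ x : G, θ (x * s * x⁻¹ * s) = π (x * s * x⁻¹ * s) := fun x => by
    rw [hπi, hθ, indFun_apply', indFun_apply']
    refine congrArg (_ * ·) (Finset.sum_congr rfl fun y _ => ?_)
    rw [show y * (x * s * x⁻¹ * s) * y⁻¹ = y * x * s * (y * x)⁻¹ * (y * s * y⁻¹) by group]
    by_cases c : y * x * s * (y * x)⁻¹ * (y * s * y⁻¹) ∈ stabilizer G a
    · rw [extendByZero_of_mem _ _ c, extendByZero_of_mem _ _ c,
        chr_prod h2 hab hss hsa hfpf hX c, Units.val_one]
    · rw [extendByZero_of_not_mem _ _ c, extendByZero_of_not_mem _ _ c]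
  have hne : (fun g => π g - 1) ≠ fun _ => 1 := fun e => by
    have := congrFun e s
    rw [hπs] at this
    norm_num at this
  have hC : classInner θ θ = 2 := by
    have h1 : classInner π π = 2 := by
      have e : π = (fun g => π g - 1) + fun _ => 1 := by funext g; simp
      rw [e, classInner_add_self_of_orthogonal (hχ.classInner_one hne), hχ.classInner_self,
        classInner_one_one]
      norm_num
    rw [← h1, classInner_indFun_left _ _ hθc.isClassFunction]
    nth_rw 1 [funext hπi]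
    rw [classInner_indFun_left _ _ (isCharacter_permChar Ω).isClassFunction, classInner_def,
      classInner_def]
    refine congrArg (_ * ·) (Finset.sum_congr rfl fun h _ => ?_)
    rw [hA, map_mul, ← mul_assoc, monoidHom_units_mul_conj]
  obtain ⟨f₁, f₂, h₁, h₂', hf, hθf⟩ := Cl.CT.exists_eq_add_of_norm_two hθc hC
  have hd : charDegree f₁ + charDegree f₂ = m + 1 := by
    have h1 := hA 1
    rw [hθf, map_one, Units.val_one, one_mul, OneMemClass.coe_one, hπ1, Pi.add_apply,
      ← h₁.coe_charDegree, ← h₂'.coe_charDegree] at h1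
    exact_mod_cast h1
  have hdvd : m ∣ charDegree f₁ * charDegree f₂ := by
    obtain ⟨k, -, hk⟩ := h₁.isCharacter.exists_int_of_mul_self_eq_one hss
    have e1 : f₂ s = -f₁ s := by rw [hθf, Pi.add_apply] at hθs; linear_combination hθs
    have e2 : ∑ x, θ (x * s * x⁻¹ * s) = ∑ x, ((π (x * s * x⁻¹ * s) - 1) + 1) :=
      Finset.sum_congr rfl fun x _ => by rw [hB, sub_add_cancel]
    rw [hθf, Finset.sum_add_distrib, classMult_sum_conj_mul hχ] at e2
    simp only [Pi.add_apply, Finset.sum_add_distrib, classMult_sum_conj_mul h₁,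
      classMult_sum_conj_mul h₂', e1, hπs, hπ1, Finset.sum_const, Finset.card_univ,
      ← Nat.card_eq_fintype_card, nsmul_eq_mul, ← h₁.coe_charDegree, ← h₂'.coe_charDegree] at e2
    have p1 : (charDegree f₁ : ℂ) ≠ 0 := by exact_mod_cast h₁.charDegree_pos.ne'
    have p2 : (charDegree f₂ : ℂ) ≠ 0 := by exact_mod_cast h₂'.charDegree_pos.ne'
    have p3 : (m : ℂ) ≠ 0 := by exact_mod_cast hm.ne'
    have p4 : (m : ℂ) + 1 ≠ 0 := by exact_mod_cast (by omega : m + 1 ≠ 0)
    have p5 := natCard_ne_zero G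
    have hd' : (charDegree f₁ : ℂ) + charDegree f₂ = m + 1 := by exact_mod_cast hd
    rw [add_sub_cancel_right] at e2
    field_simp at e2
    have e3 : (charDegree f₁ : ℂ) * charDegree f₂ = m * f₁ s ^ 2 := by
      refine mul_left_cancel₀ p4 ?_
      linear_combination (-1) * e2 + (m * f₁ s ^ 2) * hd'
    rw [hk] at e3
    have e4 : ((charDegree f₁ * charDegree f₂ : ℕ) : ℤ) = m * (charDegree f₁ - 2 * k) ^ 2 := by
      exact_mod_cast e3
    exact Int.natCast_dvd_natCast.1 ⟨_, e4⟩
  refine ⟨f₁, f₂, h₁, h₂', hd, hdvd, fun h => by rw [← hA, hθf, Pi.add_apply], ?_, ?_⟩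
  · rw [← classInner_indFun_right _ _ h₁.isClassFunction, ← hθ, hθf, classInner_add_right,
      h₁.classInner_self, h₁.classInner_eq_zero h₂' hf, add_zero]
  · rw [← classInner_indFun_right _ _ h₂'.isClassFunction, ← hθ, hθf, classInner_add_right,
      h₂'.classInner_self, h₂'.classInner_eq_zero h₁ hf.symm, zero_add]

/-- A linear character of the point stabilizer of a simple group is trivial. -/
theorem lam_eq_one {G Ω : Type*} [Group G] [Finite G] [MulAction G Ω] [Finite Ω] [IsSimpleGroup G]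
    (hnc : ¬ IsMulCommutative G) (h2 : IsMultiplyPretransitive G Ω 2) {a b : Ω} (hab : a ≠ b)
    {Q : Subgroup G} (hQa : Q ≤ stabilizer G a)
    (hreg : ∀ x ∈ Q, ∀ c : Ω, c ≠ a → x • c = c → x = 1)
    (hcard : Nat.card Q + 1 = Nat.card Ω) (hnil : Group.IsNilpotent Q) {p m j : ℕ} (hp : p.Prime)
    (hF : Nat.card Q = p ^ j * m) (hpm : ¬ p ∣ m) (hm1 : m ≠ 1 ∨ j = 0)
    (hcop : m.Coprime (Nat.card ↥(stabilizer G a ⊓ stabilizer G b)))
    (hd : p ^ j ∣ Nat.card ↥(stabilizer G a ⊓ stabilizer G b) → p ^ j ∣ m - 1)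
    (lam : stabilizer G a →* ℂˣ) (hQ : ∀ x : stabilizer G a, (x : G) ∈ Q → lam x = 1)
    {s : G} (hs : orderOf s = 2) (hsa : s • a = b) (hfpf : ∀ c : Ω, s • c ≠ c)
    (hsd : ∀ d d' : stabilizer G a, (d : G) • b = b → s * d * s⁻¹ = d' → lam d' = lam d)
    (hX : ∀ s' : G, IsConj s s' → s' • a = b → ∀ d : stabilizer G a, (d : G) = s * s' →
      lam d = 1) : lam = 1 := by
  classical
  have := Fintype.ofFinite G
  have := Fact.mk hp
  have hN : 0 < Nat.card Q := Nat.card_pos
  have hm : m ≠ 0 := by rintro rfl; omega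
  have hcp : (p ^ j).Coprime m := (hp.coprime_iff_not_dvd.2 hpm).pow_left j
  have hG := Neu.card_eq_two_trans (G := G) h2 hab
  rw [← hcard, Nat.add_sub_cancel] at hG
  have hfN : ∀ r : ℕ, r.Prime → r ∣ m → (Nat.card Q).factorization r = m.factorization r :=
    fun r hr hrm => by
      rw [hF, Nat.factorization_mul (pow_ne_zero _ hp.ne_zero) hm, Finsupp.add_apply,
        Nat.factorization_eq_zero_of_not_dvd (hr.coprime_iff_not_dvd.1
          (hcp.coprime_dvd_right hrm).symm), zero_add]
  have hfac : ∀ r : ℕ, r.Prime → r ∣ m → (Nat.card G).factorization r = m.factorization r :=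
    fun r hr hrm => by
      rw [hG, Nat.factorization_mul (by omega) (mul_ne_zero hN.ne' Nat.card_pos.ne'),
        Nat.factorization_mul hN.ne' Nat.card_pos.ne', Finsupp.add_apply, Finsupp.add_apply,
        Nat.factorization_eq_zero_of_not_dvd (n := Nat.card Q + 1) fun c =>
          hr.one_lt.ne' (Nat.dvd_one.1 ((Nat.dvd_add_right (hF ▸ hrm.mul_left _)).1 c)),
        Nat.factorization_eq_zero_of_not_dvd
          (hr.coprime_iff_not_dvd.1 (hcop.coprime_dvd_left hrm)), zero_add, add_zero, hfN r hr hrm]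
  have hfix : ∀ z ∈ Q, z ≠ 1 → Nat.card (fixedBy Ω z) = 1 := fun z hz h1 => by
    rw [show fixedBy Ω z = {a} from Set.eq_singleton_iff_unique_mem.2 ⟨hQa hz, fun c hc =>
      by_contra fun c' => h1 (hreg _ hz c c' hc)⟩]
    simp
  have main : ∀ f g : G → ℂ, IsIrrCharacter G f → IsIrrCharacter G g →
      charDegree f + charDegree g = Nat.card Q + 1 → Nat.card Q ∣ charDegree f * charDegree g →
      (∀ h : stabilizer G a, f h + g h = lam h * Nat.card (fixedBy Ω (h : G))) →
      classInner (fun h : stabilizer G a => f h) (fun x => (lam x : ℂ)) = 1 →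
      classInner (fun h : stabilizer G a => g h) (fun x => (lam x : ℂ)) = 1 →
      m ∣ charDegree f → lam = 1 := fun f g hf hg e1 e2 e3 e4 e5 e6 => by
    have pf := hf.charDegree_pos
    have pg := hg.charDegree_pos
    by_cases c : p ^ j ∣ charDegree f
    · have h1 := Nat.le_of_dvd pf (hF ▸ hcp.mul_dvd_of_dvd_of_dvd c e6)
      obtain ⟨μ, rfl⟩ := hg.isCharacter.exists_monoidHom_of_apply_one
        (hg.isCharacter.charDegree_eq_one_iff.1 (by omega))
      have h5 := classInner_monoidHom_units (μ.comp (stabilizer G a).subtype) lam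
      have h6 : μ = 1 := by
        rcases IsSimpleGroup.eq_bot_or_eq_top_of_normal μ.ker inferInstance with e | e
        · exact absurd ⟨⟨fun x y => (μ.ker_eq_bot_iff.1 e) (by rw [map_mul, map_mul, mul_comm])⟩⟩ hnc
        · exact MonoidHom.ext fun x => e.ge (Subgroup.mem_top x)
      by_cases c : μ.comp (stabilizer G a).subtype = lam
      · rw [← c, h6, MonoidHom.one_comp]
      · rw [if_neg c] at h5
        exact absurd (e5.symm.trans h5) (by norm_num)
    exfalso
    have hj : (Nat.card Q).factorization p = j := by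
      rw [hF, Nat.factorization_mul (pow_ne_zero _ hp.ne_zero) hm, Finsupp.add_apply,
        Nat.factorization_eq_zero_of_not_dvd hpm, hp.factorization_pow, Finsupp.single_eq_same,
        add_zero]
    obtain ⟨c1, c2⟩ := chr_num hN.ne' e1 e2 hp (hj ▸ c)
    rw [hj] at c2
    have hj0 : j ≠ 0 := by rintro rfl; exact c (by simp)
    let P : Sylow p Q := default
    have cP : Nat.card P = p ^ j := by rw [P.card_eq_multiplicity, hj]
    have van : ∀ x : Q, x ∉ (P : Subgroup Q) → f x = 0 := fun x hx => by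
      obtain ⟨r, hr, h1, h3⟩ : ∃ r : ℕ, r.Prime ∧ r ∣ orderOf x ∧ r ≠ p := by
        by_contra h1
        refine hx ?_
        have h3 : IsPGroup p (Subgroup.zpowers x) := IsPGroup.of_card (by
          rw [Nat.card_zpowers]
          exact Nat.eq_prime_pow_of_unique_prime_dvd (orderOf_pos x).ne' fun {r} hr h4 =>
            by_contra fun h5 => h1 ⟨r, hr, h4, h5⟩)
        obtain ⟨P', hP'⟩ := h3.exists_le_sylow
        have : (P : Subgroup Q).Normal := Sylow.normal_of_normalizerCondition
          Group.normalizerCondition_of_isNilpotent P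
        have := Sylow.unique_of_normal P this
        exact (Subsingleton.elim P' P ▸ hP') (Subgroup.mem_zpowers x)
      have h4 : r ∣ m := ((Nat.coprime_primes hr hp).2 h3).pow_right j |>.dvd_of_dvd_mul_left
        (hF ▸ h1.trans (orderOf_dvd_natCard x))
      exact apply_eq_zero_of_defect_zero hr hf (hfac r hr h4 ▸ (Nat.ordProj_dvd m r).trans e6)
        (by rwa [Subgroup.orderOf_coe])
    obtain ⟨r, hr, hrm⟩ := Nat.exists_prime_and_dvd (hm1.resolve_right hj0)
    have := Fact.mk hr
    obtain ⟨z, oz⟩ := exists_prime_orderOf_dvd_card' (G := Q) r (hF ▸ hrm.mul_left _)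
    have cz : ∀ x ∈ (P : Subgroup Q), (orderOf x).Coprime (orderOf z) := fun x hx =>
      (oz ▸ hcp.coprime_dvd_right hrm).coprime_dvd_left (cP ▸ Subgroup.orderOf_dvd_natCard _ hx)
    have z1 : f z = 0 := van z fun hz => hr.one_lt.ne' (oz.symm.trans ((Nat.coprime_self _).1 (cz z hz)))
    have z2 : g z = 1 := by
      have := e3 ⟨z, hQa z.2⟩
      rwa [hQ _ z.2, hfix _ z.2 (fun e => hr.one_lt.ne' (by
        rw [← oz, ← Subgroup.orderOf_coe, e, orderOf_one])), z1, zero_add, Units.val_one,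
        Nat.cast_one, mul_one] at this
    have d1 : charDegree g ∣ (Subgroup.centralizer {(z : G)}).index := by
      have := hg.isIntegral_centralChar z
      rw [centralChar, z2, mul_one, ← hg.coe_charDegree] at this
      exact integral_nat_dvd_of_div pg.ne' this
    have d2 : (P : Subgroup Q).map Q.subtype ≤ Subgroup.centralizer {(z : G)} := by
      rintro _ ⟨x, hx, rfl⟩
      exact Subgroup.mem_centralizer_singleton_iff.2 (GT.commute_of_coprime_of_isNilpotent x.2 z.2
        (by simpa only [Subgroup.coe_subtype, Subgroup.orderOf_coe] using cz x hx))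
    have d3 : ((P : Subgroup Q).map Q.subtype).index =
        (Nat.card Q + 1) * m * Nat.card ↥(stabilizer G a ⊓ stabilizer G b) := by
      have := ((P : Subgroup Q).map Q.subtype).card_mul_index
      rw [Subgroup.card_map_of_injective Q.subtype_injective, cP, hG] at this
      refine Nat.eq_of_mul_eq_mul_left (pow_pos hp.pos j) (this.trans ?_)
      nth_rewrite 2 [hF]
      ring
    have d4 := hd ((Nat.Coprime.mul_right (Nat.Coprime.pow_left j (hp.coprime_iff_not_dvd.2 fun c =>
      hp.one_lt.ne' (Nat.dvd_one.1 ((Nat.dvd_add_right c1).1 c)))) hcp).dvd_of_dvd_mul_left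
        (d3 ▸ (c2.trans d1).trans (Subgroup.index_dvd_of_le d2)))
    have df : charDegree f = m := by
      obtain ⟨α, hα⟩ := e6
      obtain ⟨u, hu⟩ := d4
      obtain ⟨w, hw⟩ := c2
      have h1 : α ≠ 0 := by rintro rfl; omega
      have h3 : m = p ^ j * u + 1 := by omega
      have h4 : α ≤ p ^ j := Nat.le_of_mul_le_mul_left (a := α) (c := m)
        (by rw [← hα, mul_comm, ← hF]; omega) (by omega)
      have h5 : p ^ j ∣ α - 1 := by
        refine (Nat.dvd_add_right (a := p ^ j) (b := p ^ j * (u * α + w)) (dvd_mul_right _ _)).1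
          ⟨m, ?_⟩
        rw [hα, hw, hF] at e1
        obtain ⟨β, rfl⟩ := Nat.exists_eq_succ_of_ne_zero h1
        rw [Nat.succ_sub_one]
        nth_rewrite 1 [h3] at e1
        simp only [Nat.succ_eq_add_one] at e1 ⊢
        linarith
      rw [hα, show α = 1 by have := Nat.eq_zero_of_dvd_of_lt h5 (by omega); omega, mul_one]
    obtain ⟨ψ, hψ, e7⟩ := (hf.isCharacter.restrict _).exists_eq_irr_add
      (isIrrCharacter_monoidHom_units lam) (e4 ▸ one_ne_zero)
    obtain ⟨n, hn⟩ := (hψ.comp (Subgroup.inclusion hQa)).exists_nat_classInner IsCharacter.one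
    rw [classInner_one_right, inv_mul_eq_iff_eq_mul₀ (natCard_ne_zero Q)] at hn
    have s1 : ∑ x : Q, f x = Nat.card Q * (1 + n) := by
      rw [mul_add, ← hn, mul_one, Nat.card_eq_fintype_card, ← Finset.card_univ,
        Finset.cast_card, ← Finset.sum_add_distrib]
      refine Finset.sum_congr rfl fun x _ => ?_
      have := congrFun e7 ⟨x, hQa x.2⟩
      rwa [Pi.add_apply, hQ _ x.2] at this
    have s2 : ∀ x ∈ (P : Subgroup Q), f x = f 1 := fun x hx => by
      refine hf.isCharacter.eq_apply_one_of_re_eq (by_contra fun h1 => ?_)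
      have h3 : ∑ y ∈ Finset.univ.filter (· ∈ (P : Subgroup Q)), (f (y : Q)).re <
          ∑ y ∈ Finset.univ.filter (· ∈ (P : Subgroup Q)), (f 1).re :=
        Finset.sum_lt_sum (fun y _ => hf.isCharacter.re_le _)
          ⟨x, by simpa using hx, lt_of_le_of_ne (hf.isCharacter.re_le _) h1⟩
      rw [Finset.sum_filter_of_ne fun y _ h4 => by_contra fun h5 => h4 (by rw [van y h5]; rfl),
        ← Complex.re_sum, s1, Finset.sum_const, hf.isCharacter.re_apply_one, df,
        ← Fintype.card_subtype, ← Nat.card_eq_fintype_card, cP, hF, nsmul_eq_mul] at h3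
      norm_cast at h3
      nlinarith [Nat.zero_le (p ^ j * m * n)]
    have := hf.isCharacter.charKer_normal
    rcases IsSimpleGroup.eq_bot_or_eq_top_of_normal (charKer f) this with e | e
    · have h1 : (P : Subgroup Q) = ⊥ := (Subgroup.eq_bot_iff_forall _).2 fun x hx =>
        Subtype.ext (hf.isCharacter.charKer_eq_bot_iff.1 e _ (s2 x hx))
      rw [h1, Subgroup.card_bot] at cP
      exact (Nat.one_lt_pow hj0 hp.one_lt).ne cP
    · exact hf.apply_one_ne_zero ((hf.isCharacter.charKer_eq_top_iff.1 e z).symm.trans z1)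
  obtain ⟨f₁, f₂, h₁, h₂', hd, hdvd, hA, k1, k2⟩ :=
    exists_pair h2 hab hN hcard lam hs hsa hfpf hsd hX
  have hor : m ∣ charDegree f₁ ∨ m ∣ charDegree f₂ := by
    by_contra c
    obtain ⟨r₁, p₁, c₁⟩ := chr_exists hm fun h => c (Or.inl h)
    obtain ⟨r₂, p₂, c₂⟩ := chr_exists hm fun h => c (Or.inr h)
    have d₁ : r₁ ∣ m := by_contra fun e => c₁ (by rw [Nat.factorization_eq_zero_of_not_dvd e]; simp)
    have d₂ : r₂ ∣ m := by_contra fun e => c₂ (by rw [Nat.factorization_eq_zero_of_not_dvd e]; simp)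
    obtain ⟨q₁, e₁⟩ := chr_num hN.ne' hd hdvd p₁ (hfN _ p₁ d₁ ▸ c₁)
    obtain ⟨q₂, e₂⟩ := chr_num hN.ne' ((add_comm _ _).trans hd) (by rwa [mul_comm]) p₂
      (hfN _ p₂ d₂ ▸ c₂)
    rw [hfN _ p₁ d₁] at e₁
    rw [hfN _ p₂ d₂] at e₂
    have hr : r₁.Coprime r₂ := (Nat.coprime_primes p₁ p₂).2 fun e => c₂ (e ▸ e₁)
    have := Fact.mk p₁
    have := Fact.mk p₂
    obtain ⟨z₁, o₁⟩ := exists_prime_orderOf_dvd_card' (G := Q) r₁ q₁
    obtain ⟨z₂, o₂⟩ := exists_prime_orderOf_dvd_card' (G := Q) r₂ q₂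
    rw [← Subgroup.orderOf_coe] at o₁ o₂
    have hc := GT.commute_of_coprime_of_isNilpotent z₁.2 z₂.2 (by rwa [o₁, o₂])
    have ho := hc.orderOf_mul_eq_mul_orderOf_of_coprime (by rwa [o₁, o₂])
    rw [o₁, o₂] at ho
    have hz := mul_mem z₁.2 z₂.2
    have h1 := hA ⟨_, hQa hz⟩
    rw [hQ _ hz, hfix _ hz (fun e => by
        rw [e, orderOf_one] at ho
        exact p₁.one_lt.ne' (Nat.eq_one_of_mul_eq_one_right ho.symm)),
      apply_eq_zero_of_defect_zero p₂ h₁ (hfac _ p₂ d₂ ▸ e₂) (ho ▸ dvd_mul_left _ _),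
      apply_eq_zero_of_defect_zero p₁ h₂' (hfac _ p₁ d₁ ▸ e₁) (ho ▸ dvd_mul_right _ _)] at h1
    simp at h1
  rcases hor with h | h
  · exact main f₁ f₂ h₁ h₂' hd hdvd hA k1 k2 h
  · exact main f₂ f₁ h₂' h₁ ((add_comm _ _).trans hd) (by rwa [mul_comm])
      (fun x => (add_comm _ _).trans (hA x)) k2 k1 h

end Cfsg.Agent.TT
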