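import Mathlib
import Cfsg.Agent.TT.BGBas
import Cfsg.Agent.TT.B68C

/-!
# Doubly transitive groups whose involutions fix no point: tools for the local structure theorem
-/

set_option autoImplicit false

namespace Cfsg.Agent.TT

open Subgroup MulAction Cfsg.Agent.Perm Cfsg.Agent.Perm.TT Cfsg.Agent.Perm.TwoCount
open scoped MatrixGroups

universe u v

variable {G : Type u} {Ω : Type v} [Group G] [Finite G] [MulAction G Ω] [Finite Ω] {a b : Ω}

/-- The data given by a doubly transitive normal subgroup of Zassenhaus type. -/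
theorem BG.zl_data (h : BG G Ω a b) (hr : ¬ HasReg G Ω) (hz : ZL G Ω) :
    ∃ L : Subgroup G, L.Normal ∧ (∀ u : G, orderOf u = 2 → u ∈ L) ∧ T1 L (Set.univ : Set Ω) ∧
      (∀ g ∈ L, ∀ c : Ω, c ≠ a → c ≠ b → g ∈ st2 G a b → g • c = c → g = 1) ∧
      (∀ s ∈ Sw G a b, ∀ d ∈ L ⊓ st2 G a b, s * d * s⁻¹ = d⁻¹) ∧ IsCyclic ↥(L ⊓ st2 G a b) ∧
      Nat.card Ω = 2 * Nat.card ↥(L ⊓ st2 G a b) + 2 ∧ 3 ≤ Nat.card ↥(L ⊓ st2 G a b) ∧
      ∃ (F : Type) (_ : Field F) (_ : Fintype F), Fintype.card F + 1 = Nat.card Ω ∧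
        Nonempty (L ≃* PSL(2, F)) := by
  obtain ⟨L, hL, h2, h3⟩ := hz
  have hZ := (h2.zas_of_three h3 h.ne).resolve_left fun e => hr (h.two.hasReg_of_normal h2 h.ne e)
  have ho : Odd (Nat.card (st2 L a b)) := h.odd.of_dvd_nat (Zass.card_stab2_subgroup_dvd L a b)
  obtain ⟨-, hinv, hF⟩ := zas_odd hZ h.even h.ne ho
  have hc := zas_odd_card hZ h.even h.ne ho
  have h1 : 1 < Nat.card (st2 L a b) := hZ.one_lt_card_stab2 h.ne
  have hm : (st2 L a b).map L.subtype = L ⊓ st2 G a b := by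
    ext g
    exact ⟨by rintro ⟨g, hg, rfl⟩; exact ⟨g.2, hg⟩, fun hg => ⟨⟨g, hg.1⟩, hg.2, rfl⟩⟩
  have hcard : Nat.card ↥(L ⊓ st2 G a b) = Nat.card (st2 L a b) := by
    rw [← hm, card_map_of_injective L.subtype_injective]
  have hb : L ≠ ⊥ := fun e => by
    obtain ⟨g, hg⟩ := h2.trans a b
    have : (g : G) = 1 := mem_bot.1 (e ▸ g.2)
    exact h.ne (by rw [← hg]; show a = (g : G) • a; rw [this, one_smul])
  have hin : ∀ u : G, orderOf u = 2 → u ∈ L := fun u hu => h.mem_of_normal hb hu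
  obtain ⟨t, ht⟩ := h.exists_sw
  refine ⟨L, hL, hin, ⟨fun _ _ _ _ => trivial, fun c _ d _ => let ⟨g, hg⟩ := h2.trans c d; ⟨g, g.2, hg⟩⟩,
    fun g hg c ca cb hD e => congrArg Subtype.val
      (h3 ⟨g, hg⟩ a b c h.ne cb.symm ca.symm hD.1 hD.2 e),
    fun s hs d hd => congrArg Subtype.val (hinv ⟨s, hin s hs.1⟩ hs.2 (Sw.swap hs :) ⟨d, hd.1⟩ hd.2),
    ?_, by rw [hcard, hc], ?_, hF⟩
  · have := hZ.isZT.isCyclic_of_inverts h.ne (hinv ⟨t, hin t ht.1⟩ ht.2 (Sw.swap ht :))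
    rw [← hm]
    exact isCyclic_of_surjective _ (L.subtype.subgroupMap_surjective _)
  · have := Nat.odd_iff.1 ho
    omega

omit [Finite G] in
/-- A semiregular group with two orbits. -/
theorem two_orbits {K : Subgroup G} {X : Set Ω} (hX : ∀ k ∈ K, ∀ c ∈ X, k • c ∈ X)
    (hs : ∀ k ∈ K, ∀ c ∈ X, k • c = c → k = 1) (hc : X.ncard = 2 * Nat.card K) {c d e : Ω}
    (h1 : c ∈ X) (h2 : d ∈ X) (h3 : e ∈ X) :
    (∃ k ∈ K, k • c = d) ∨ (∃ k ∈ K, k • c = e) ∨ ∃ k ∈ K, k • d = e := by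
  by_cases h4 : ∃ k ∈ K, k • c = d
  · exact Or.inl h4
  have k1 : ∀ z ∈ X, ((fun k : G => k • z) '' K).ncard = Nat.card K := fun z hz =>
    Set.InjOn.ncard_image fun k hk k' hk' e => (inv_mul_eq_one.1 (hs _ (mul_mem (inv_mem hk') hk) z hz
      (by rw [mul_smul, show k • z = k' • z from e, inv_smul_smul]))).symm
  have k2 : (fun k : G => k • c) '' K ∪ (fun k : G => k • d) '' K = X := by
    refine Set.eq_of_subset_of_ncard_le ?_ ?_
    · rintro _ (⟨k, hk, rfl⟩ | ⟨k, hk, rfl⟩)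
      · exact hX k hk c h1
      · exact hX k hk d h2
    · rw [Set.ncard_union_eq (Set.disjoint_left.2 ?_), k1 c h1, k1 d h2, hc, two_mul]
      rintro _ ⟨k, hk, rfl⟩ ⟨k', hk', e⟩
      exact h4 ⟨k'⁻¹ * k, mul_mem (inv_mem hk') hk, by
        rw [mul_smul, ← show k' • d = k • c from e, inv_smul_smul]⟩
  rcases k2.ge h3 with h5 | h5
  · exact Or.inr (Or.inl h5)
  · exact Or.inr (Or.inr h5)

omit [Finite G] [Finite Ω] in
theorem ncard_orbit_semi {U : Subgroup G} (hU : ∀ x ∈ U, x • b = b → x = 1) :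
    ((fun u : G => u • b) '' U).ncard = Nat.card U :=
  Set.InjOn.ncard_image fun k hk k' hk' e => (inv_mul_eq_one.1 (hU _ (mul_mem (inv_mem hk') hk)
    (by rw [mul_smul, show k • b = k' • b from e, inv_smul_smul]))).symm

/-- The dihedral Sylow subgroup of a group with a constituent of linear type. -/
theorem exists_dih {M : Type u} [Group M] [Finite M] [MulAction M Ω] {S : Set Ω} {L : Subgroup M}
    (h1 : T1 (⊤ : Subgroup M) S) (h2 : T1 L S) (ha : a ∈ S) (ho : Odd (Nat.card (stabilizer M a)))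
    {F : Type} [Field F] [Fintype F] (hF : Odd (Fintype.card F)) (φ : L →* PSL(2, F))
    (hφ : Function.Surjective φ) (hk : ∀ g : L, φ g = 1 → (g : M) • a = a) :
    ∃ (T : Subgroup M) (m v : ℕ), IsPGroup 2 T ∧ 2 ≤ m ∧ Nonempty (T ≃* DihedralGroup m) ∧
      Odd v ∧ S.ncard = Nat.card T * v := by
  have c1 := h1.card ha
  rw [top_inf_eq, card_top] at c1
  have c2 := h2.card ha
  have c3 := L.index_mul_card
  have c0 : 0 < S.ncard := (Set.ncard_pos (Set.toFinite _)).2 ⟨a, ha⟩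
  have c4 : L.index * Nat.card ↥(L ⊓ stabilizer M a) = Nat.card (stabilizer M a) :=
    Nat.eq_of_mul_eq_mul_left c0 (by rw [← c1, ← c3, c2]; ring)
  obtain ⟨T, hT⟩ := GT.Tr.exists_sylow_le_of_not_dvd_index (p := 2) (H := L) fun e =>
    (Nat.not_even_iff_odd.2 ho) (c4 ▸ even_iff_two_dvd.2 (e.mul_right _))
  obtain ⟨σ, τ, k, hd⟩ := FG.ZL.psl_dd (B68.two_ne_zero hF) ((T.subtype hT).mapSurjective hφ)
  obtain ⟨e⟩ := Ch.GW.nonempty_equiv_of_dd hd
  have h3 : Function.Injective (φ.subgroupMap ((T : Subgroup M).subgroupOf L)) := by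
    refine (injective_iff_map_eq_one _).2 fun g hg => ?_
    obtain ⟨j, hj⟩ := T.2 ⟨g, g.2⟩
    have h4 : orderOf ((g : L) : M) = 1 := Nat.eq_one_of_dvd_coprimes
      ((Nat.coprime_two_left.2 ho).pow_left j)
      (orderOf_dvd_of_pow_eq_one (congrArg Subtype.val hj))
      (orderOf_dvd_natCard (stabilizer M a) (hk _ (congrArg Subtype.val hg)))
    exact Subtype.ext (Subtype.ext (orderOf_eq_one_iff.1 h4))
  obtain ⟨j, hj⟩ := IsPGroup.iff_card.1 T.2
  have c5 := (T : Subgroup M).card_mul_index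
  obtain ⟨v, hv⟩ : Nat.card (T : Subgroup M) ∣ S.ncard :=
    (show (Nat.card (T : Subgroup M)).Coprime (Nat.card (stabilizer M a)) from
      hj ▸ (Nat.coprime_two_left.2 ho).pow_left j).dvd_of_dvd_mul_right (c1 ▸ c5 ▸ dvd_mul_right _ _)
  refine ⟨T, _, v, T.2, Nat.le_self_pow k.succ_ne_zero 2, ⟨(subgroupOfEquivOfLe hT).symm.trans
    ((MulEquiv.ofBijective _ ⟨h3, φ.subgroupMap_surjective _⟩).trans e)⟩, ?_, hv⟩
  rw [c1, hv, mul_assoc] at c5
  exact Nat.not_even_iff_odd.1 fun e => T.not_dvd_index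
    (Nat.eq_of_mul_eq_mul_left Nat.card_pos c5 ▸ (even_iff_two_dvd.1 e).mul_right _)

end Cfsg.Agent.TT
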