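import Mathlib
import Cfsg.Agent.TT.BGBas
import Cfsg.Agent.TT.BGLocA
import Cfsg.Agent.TT.BGFinA

/-!
# Doubly transitive groups whose involutions fix no point: the final contradictions
-/

set_option autoImplicit false

namespace Cfsg.Agent.TT

open Subgroup MulAction Cfsg.Agent.Perm Cfsg.Agent.Perm.TT Cfsg.Agent.Perm.TwoCount
open scoped commutatorElement

universe u v

variable {G : Type u} {Ω : Type v} [Group G] [Finite G] [MulAction G Ω] [Finite Ω] {a b : Ω}

/-- The final contradiction through dihedral Sylow 2-subgroups. -/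
theorem BG.false_of_pow (h : BG G Ω a b) [IsSimpleGroup G] {M U K : Subgroup G} {S : Set Ω}
    {p q m : ℕ} (hL : LS a b M S U K p q) (hK : K ≤ st2 G a b) (hn : Nat.card Ω = p ^ m + 1)
    {x : G} (hx : x ∈ M) (h1 : x ≠ 1) (ha : a ∈ S) (hS : ∀ c ∈ S, x • c = c) : False := by
  obtain ⟨T, n, v, hT, h2, hn2, he, hv, hq⟩ := hL.dih
  obtain ⟨j, hj⟩ := hL.pow
  have c1 := hL.cardK
  have c2 := hL.three
  have hpq : p ∣ q := by
    rcases j with _ | j
    · simp at hj; omega
    · exact hj ▸ dvd_pow_self p j.succ_ne_zero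
  have hp : Odd p := Odd.of_dvd_nat (by rw [c1]; exact odd_two_mul_add_one _) hpq
  have h3 : 4 ∣ q + 1 := by
    obtain ⟨k, hk⟩ := h.odd.of_dvd_nat (card_dvd_of_le hK)
    omega
  have two : ∀ g ∈ T, Odd (orderOf g) → g = 1 := fun g hg ho => by
    obtain ⟨i, hi⟩ := h2 ⟨g, hg⟩
    exact orderOf_eq_one_iff.1 (Nat.eq_one_of_dvd_coprimes ((Nat.coprime_two_left.2 ho).pow_left i)
      (orderOf_dvd_of_pow_eq_one (congrArg Subtype.val hi)) dvd_rfl)
  have h4 : 4 ∣ p ^ m + 1 := by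
    have := Fx.card_dvd_of_semiregular T (Set.univ : Set Ω) (fun _ _ _ _ => trivial)
      fun g hg c _ e => two g hg (h.odd_fix e)
    rw [Nat.card_univ, hn] at this
    exact ((show Nat.Coprime 4 v from Nat.Coprime.pow_left 2
      (Nat.coprime_two_left.2 hv)).dvd_of_dvd_mul_right (hq ▸ h3)).trans this
  obtain ⟨u, -, hu⟩ := B68.exists_odd_of_four_dvd hp (hj ▸ h3)
  obtain ⟨w, hw, hw'⟩ := B68.exists_odd_of_four_dvd hp h4
  have cG := h.two.card_eq h.ne
  rw [← h.two.card_stab h.ne] at cG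
  have hi : ¬ 2 ∣ T.index := fun h6 => by
    have h5 : T.index * u = w * Nat.card (stabilizer G a) * v := by
      refine Nat.eq_of_mul_eq_mul_left (Nat.add_one_pos p) ?_
      have := T.index_mul_card
      rw [cG, hn, hw'] at this
      calc (p + 1) * (T.index * u) = T.index * (q + 1) := by rw [hj, hu]; ring
        _ = T.index * Nat.card T * v := by rw [hq]; ring
        _ = _ := by rw [this]; ring
    exact (Nat.not_even_iff_odd.2 ((hw.mul (h.odd_stab a)).mul hv))
      (h5 ▸ even_iff_two_dvd.2 (h6.mul_right _))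
  have hnc : ¬ IsMulCommutative G := fun hc => h1 (h.two.faith x fun c => by
    obtain ⟨g, rfl⟩ := h.two.trans a c
    exact smul_fix_of_commute (hc.is_comm.comm g x) (hS a ha))
  rcases FG.C1.simple_of_dihedral hnc (h2.toSylow hi) hn2 he with ⟨F, _, _, hF, -, ⟨e⟩⟩ | ⟨⟨e⟩⟩
  · have h2' := B68.two_ne_zero hF
    obtain ⟨σ, τ, k, hd⟩ := FG.ZL.psl_dd h2'
      ((h2.toSylow hi).mapSurjective (f := e.toMonoidHom) e.surjective)
    have h3 : GW.Pair (σ ^ 2 ^ k) τ := ⟨hd.orderOf_J, by simpa using hd.orderOf_refl 0,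
      fun e => hd.notMem (e ▸ Blk.Q8.DD.J_mem_rot),
      (mem_centralizer_singleton_iff.1 (hd.le_centralizer_J hd.tau_mem)).symm⟩
    obtain ⟨_, _, -, -, -, -, h4, -⟩ := DihOrd.psl_data h2' h3
    have h5 : ∀ g ∈ T.map e.toMonoidHom, e x ∈ GW.Cen g := by
      rintro _ ⟨g, hg, rfl⟩
      exact mem_centralizer_singleton_iff.2 (by
        simpa using congrArg e (hL.cent g (hT hg) (h2.to_le (zpowers_le.2 hg)) x hx hS).symm.eq)
    have h6 := orderOf_dvd_natCard (GW.Cen (σ ^ 2 ^ k) ⊓ GW.Cen τ)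
      ⟨h5 _ hd.J_mem, h5 _ hd.tau_mem⟩
    rw [h4, e.orderOf_eq] at h6
    exact h1 (orderOf_eq_one_iff.1 (Nat.eq_one_of_dvd_coprimes
      ((Nat.coprime_two_left.2 (h.odd_fix (hS a ha))).pow_left 2) h6 dvd_rfl))
  · have h5 : p ^ m ∣ 2520 := by
      have h6 := h.two.card_eq h.ne
      rw [Nat.card_congr e.toEquiv, nat_card_alternatingGroup, Nat.card_fin, hn,
        Nat.add_sub_cancel] at h6
      exact (show 2520 = _ from h6) ▸ (dvd_mul_right _ _).mul_left _
    have h6 : j < m := by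
      refine (Nat.pow_lt_pow_iff_right hL.prime.one_lt).1 (by_contra fun h7 => h1 ?_)
      have e3 : S = Set.univ := Set.eq_of_subset_of_ncard_le (Set.subset_univ _) (by
        rw [Set.ncard_univ, hL.cardS]; omega)
      exact h.two.faith x fun d => hS d (e3 ▸ trivial)
    have h2 : p ^ j * p ∣ 2520 := (pow_succ p j ▸ pow_dvd_pow p h6).trans h5
    have h6 : p * p ∣ 2520 := (mul_dvd_mul_right (hj ▸ hpq) p).trans h2
    have h7 : p ≤ 50 := by
      have := Nat.le_of_dvd (by norm_num) h6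
      nlinarith
    have h8 := hL.prime
    have h11 := Nat.odd_iff.1 hp
    have h9 : p = 3 := by
      interval_cases p <;> first | rfl | omega | exact absurd h8 (by norm_num)
    subst h9
    have h10 : 2 ≤ j := by
      by_contra h11
      interval_cases j <;> omega
    have := (mul_dvd_mul_right (pow_dvd_pow 3 h10) 3).trans h2
    omega

omit [Finite G] in
theorem RG.fin_card (h : RG G Ω a b) : Nat.card (FF G a) + 1 = Nat.card Ω := by
  rw [← ncard_orbit_semi (b := b) fun x hx => h.ns.semi x hx b h.bg.ne.symm, ← Set.ncard_univ,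
    ← Set.ncard_sdiff_singleton_add_one (Set.mem_univ a)]
  congr 2
  ext c
  refine ⟨?_, fun hc => h.reg c hc.2⟩
  rintro ⟨u, hu, rfl⟩
  exact ⟨trivial, fun e => h.bg.ne (smul_left_cancel u ((h.ns.le hu).trans e.symm))⟩

theorem RG.eq_of_aux (h : RG G Ω a b) {p : ℕ} (hp : p.Prime) {m j : ℕ}
    (hF : Nat.card (FF G a) = p ^ j * m) (hm : ¬ p ∣ m) (hm1 : m ≠ 1 ∨ j = 0)
    (hc : m.Coprime (Nat.card (st2 G a b)))
    (hd : p ^ j ∣ Nat.card (st2 G a b) → p ^ j ∣ m - 1) : KK G a b = st2 G a b := by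
  have := h.simple
  have hB := h.bg
  have := hB.solv a
  let N : Subgroup G :=
    { carrier := {g | ∃ f ∈ FF G a, ∃ k ∈ KK G a b, g = f * k}
      one_mem' := ⟨1, one_mem _, 1, one_mem _, (mul_one 1).symm⟩
      mul_mem' := by
        rintro _ _ ⟨f, hf, k, hk, rfl⟩ ⟨f', hf', k', hk', rfl⟩
        exact ⟨_, mul_mem hf (h.ns.norm k (KK_le a b hk).1 f' hf'), _, mul_mem hk hk', by group⟩
      inv_mem' := by
        rintro _ ⟨f, hf, k, hk, rfl⟩
        exact ⟨_, h.ns.norm k⁻¹ (KK_le a b (inv_mem hk)).1 _ (inv_mem hf), _, inv_mem hk, by group⟩ }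
  have hFN : FF G a ≤ N := fun f hf => ⟨f, hf, 1, one_mem _, (mul_one f).symm⟩
  have hKN : KK G a b ≤ N := fun k hk => ⟨1, one_mem _, k, hk, (one_mul k).symm⟩
  have : (N.subgroupOf (stabilizer G a)).Normal := ⟨fun x hx g => by
    obtain ⟨f, hf, e⟩ := h.reg ((g : G) • b) fun e => hB.ne (smul_left_cancel _ (g.2.trans e.symm))
    have h1 : (f⁻¹ * g) • a = a := mul_mem (inv_mem (h.ns.le hf)) g.2
    have h2 : (f⁻¹ * g) • b = b := by rw [mul_smul, ← e, inv_smul_smul]
    obtain ⟨f', hf', k, hk, e'⟩ := hx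
    have h3 := (conj_mem_KK (g := f⁻¹ * g)).2 hk
    rw [h1, h2] at h3
    have h4 := mul_mem (mul_mem (hFN hf) (mul_mem (hFN (h.ns.norm _ h1 f' hf')) (hKN h3)))
      (hFN (inv_mem hf))
    change (g : G) * x * (g : G)⁻¹ ∈ N
    rw [show (x : G) = f' * k from e']
    convert h4 using 1
    group⟩
  refine le_antisymm (KK_le a b) fun d hd' => ?_
  by_cases hN : N.subgroupOf (stabilizer G a) = ⊤
  · obtain ⟨f, hf, k, hk, e⟩ := hN.ge (mem_top (⟨d, hd'.1⟩ : stabilizer G a))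
    have e' : f = d * k⁻¹ := eq_mul_inv_of_mul_eq e.symm
    have := h.ns.semi f hf b hB.ne.symm (e' ▸ (mul_mem hd' (inv_mem (KK_le a b hk))).2)
    rw [this, one_mul] at e
    exact (show d = k from e) ▸ hk
  exfalso
  have := QuotientGroup.nontrivial_iff.2 hN
  obtain ⟨g, -, hg⟩ := SetLike.exists_of_lt (Group.IsSolvable.commutator_lt_top_of_nontrivial
    (stabilizer G a ⧸ N.subgroupOf (stabilizer G a)))
  obtain ⟨φ, hφ⟩ := Ch.exists_monoidHom_units_ne_one hg
  obtain ⟨g, rfl⟩ := QuotientGroup.mk_surjective g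
  obtain ⟨s, hs⟩ := hB.exists_sw
  have k : ∀ x : stabilizer G a, (x : G) ∈ N → φ.comp (QuotientGroup.mk' _) x = 1 := fun x hx => by
    rw [MonoidHom.comp_apply, QuotientGroup.mk'_apply, (QuotientGroup.eq_one_iff x).2 hx, map_one]
  have k2 : ∀ u ∈ Sw G a b, s * u ∈ N := fun u hu =>
    hKN (subset_closure ⟨(hB.sw_mul hs hu).1, s, hs, (hB.sw_mul hs hu).2⟩)
  have := lam_eq_one (hB.noncomm h.hr) hB.two.multi hB.ne h.ns.le h.ns.semi h.fin_card
    (GT.isNilpotent_fittingOf _) hp hF hm hm1 hc hd (φ.comp (QuotientGroup.mk' _))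
    (fun x hx => k x (hFN hx)) hs.1 hs.2 (hB.fpf hs.1) (fun d d' h1 h2 => by
      rw [← mul_inv_eq_one, ← map_inv, ← map_mul]
      refine k _ ?_
      have := k2 _ (hB.conj_sw hs (show (d : G) ∈ st2 G a b from ⟨d.2, h1⟩))
      rwa [show s * (d * s * (d : G)⁻¹) = d' * (d : G)⁻¹ by rw [← h2, inv_two hs.1]; group] at this)
    fun s' h1 h2 d e => k d (e ▸ k2 s' ⟨two_isConj hs.1 h1, h2⟩)
  exact hφ (DFunLike.congr_fun this g)

/-- No proper normal subgroup of `G_{ab}` contains the inverted elements: coprime case. -/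
theorem RG.eq_of_cop (h : RG G Ω a b) (hc : (Nat.card (FF G a)).Coprime (Nat.card (st2 G a b))) :
    KK G a b = st2 G a b :=
  h.eq_of_aux Nat.prime_two (j := 0) (by rw [pow_zero, one_mul])
    (fun e => Nat.not_even_iff_odd.2 ((h.bg.odd_stab a).of_dvd_nat (card_dvd_of_le h.ns.le))
      (even_iff_two_dvd.2 e)) (Or.inr rfl) hc fun _ => by simp

/-- The same when one prime divides both orders. -/
theorem RG.eq_of_split (h : RG G Ω a b) {p : ℕ} (hp : p.Prime) {m j : ℕ}
    (hF : Nat.card (FF G a) = p ^ j * m) (hm : ¬ p ∣ m) (hm1 : m ≠ 1)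
    (hc : m.Coprime (Nat.card (st2 G a b)))
    (hd : ∀ i, p ^ i ∣ Nat.card (st2 G a b) → p ^ i ∣ m - 1) : KK G a b = st2 G a b :=
  h.eq_of_aux hp hF hm (Or.inl hm1) hc (hd j)

end Cfsg.Agent.TT
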