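import Mathlib
import Cfsg.Agent.TT.BGBas
import Cfsg.Agent.TT.BGLocA

/-!
# Doubly transitive groups whose involutions fix no point: the local structure theorem
-/

set_option autoImplicit false

namespace Cfsg.Agent.TT

open Subgroup MulAction Cfsg.Agent.Perm Cfsg.Agent.Perm.TT Cfsg.Agent.Perm.TwoCount
open scoped commutatorElement

universe u v

variable {G : Type u} {Ω : Type v} [Group G] [Finite G] [MulAction G Ω] [Finite Ω] {a b : Ω}

omit [Finite G] [Finite Ω] in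
theorem isPGroup_zpowers_two {u : G} (hu : orderOf u = 2) : IsPGroup 2 (zpowers u) :=
  IsPGroup.of_card (n := 1) (by rw [Nat.card_zpowers, hu, pow_one])

/-- The 2-elements of `M` centralize the kernel of the action on `S`. -/
theorem BG.loc_cent (h : BG G Ω a b) {M U : Subgroup G} {S : Set Ω}
    (hM : T2 M S) (ha : a ∈ S) (hb : b ∈ S) (hU : U ≤ M)
    (hUn : ∀ g ∈ M, g • a = a → ∀ x ∈ U, g * x * g⁻¹ ∈ U)
    (hUs : ∀ x ∈ U, ∀ c ∈ S, c ≠ a → x • c = c → x = 1) (hU1 : U ≠ ⊥) :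
    ∀ u ∈ M, IsPGroup 2 (zpowers u) → ∀ z ∈ M, (∀ c ∈ S, z • c = c) → Commute u z := by
  obtain ⟨B, Δ, _, _, π, ι, hc⟩ := exists_con M S hM.inv
  let B0 : Subgroup G := π.ker.map M.subtype
  have m0 : ∀ z, z ∈ B0 ↔ z ∈ M ∧ ∀ c ∈ S, z • c = c := fun z =>
    ⟨by rintro ⟨z, hz, rfl⟩; exact ⟨z.2, hc.eq_one_iff.1 hz⟩,
      fun hz => ⟨⟨z, hz.1⟩, hc.eq_one_iff.2 hz.2, rfl⟩⟩
  have n0 : M ≤ normalizer (B0 : Set G) := by
    have := le_normalizer_map (H := π.ker) M.subtype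
    rwa [normalizer_eq_top, ← MonoidHom.range_eq_map, range_subtype] at this
  have hUC : U ≤ centralizer (B0 : Set G) := fun u hu z hz => by
    have h1 := (m0 z).1 hz
    have h2 := (m0 _).1 (mul_mem hz ((mem_normalizer_iff.1 (n0 (hU hu)) _).1 (inv_mem hz)))
    have h3 := hUs _ (mul_mem (hUn z h1.1 (h1.2 a ha) u hu) (inv_mem hu)) b hb h.ne.symm (by
      have := h2.2 b hb
      rwa [show z * (u * z⁻¹ * u⁻¹) = z * u * z⁻¹ * u⁻¹ by group] at this)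
    rwa [mul_inv_eq_one, mul_inv_eq_iff_eq_mul] at h3
  have : ((centralizer (B0 : Set G)).subgroupOf M).Normal :=
    (normal_subgroupOf_iff_le_normalizer_inf).2 (by
      intro g hg
      refine mem_normalizer_iff.2 fun x => ⟨fun hx => ⟨fun z hz => ?_, M.mul_mem (M.mul_mem hg hx.2) (M.inv_mem hg)⟩,
        fun hx => ⟨fun z hz => ?_, by simpa [mul_assoc] using M.mul_mem (M.mul_mem (M.inv_mem hg) hx.2) hg⟩⟩
      · have := hx.1 _ ((mem_normalizer_iff''.1 (n0 hg) z).1 hz)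
        calc z * (g * x * g⁻¹) = g * (g⁻¹ * z * g * x) * g⁻¹ := by group
          _ = _ := by rw [this]; group
      · have := hx.1 _ ((mem_normalizer_iff.1 (n0 hg) z).1 hz)
        calc z * x = g⁻¹ * (g * z * g⁻¹ * (g * x * g⁻¹)) * g := by group
          _ = _ := by rw [this]; group)
  have : (((centralizer (B0 : Set G)).subgroupOf M).map π).Normal := Normal.map this π hc.surj
  intro u hu h2 z hz hz'
  obtain ⟨x, hx⟩ := hc.exists_eq ha
  obtain ⟨_, ⟨k, hk, rfl⟩, e⟩ := (hc.two hM).normal_trans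
    (N := ((centralizer (B0 : Set G)).subgroupOf M).map π) (fun e => hU1 ((eq_bot_iff_forall _).2
      fun w hw => hUs w hw b hb h.ne.symm (hc.eq_one_iff.1 (mem_bot.1
        (e ▸ mem_map_of_mem π (show (⟨w, hU hw⟩ : M) ∈ _ from hUC hw))) b hb))) x (π ⟨u, hu⟩ • x)
  have e' := hc.smul_iff.1 e
  rw [hc.smul, hx] at e'
  exact (h.cent_of_two (n0 hu) h2 hk e' z ((m0 z).2 ⟨hz, hz'⟩)).symm

/-- The local structure theorem. -/
theorem BG.exists_ls (h : BG G Ω a b) (ih : IHG.{v} (Nat.card G)) {M U : Subgroup G} {S : Set Ω}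
    (hM : T2 M S) (ha : a ∈ S) (hb : b ∈ S) (hk : ∃ k ∈ M, k ≠ 1 ∧ ∀ c ∈ S, k • c = c)
    (hU : U ≤ M) (hUa : U ≤ stabilizer G a) (hUn : ∀ g ∈ M, g • a = a → ∀ x ∈ U, g * x * g⁻¹ ∈ U)
    (hUs : ∀ x ∈ U, ∀ c ∈ S, c ≠ a → x • c = c → x = 1) (hU1 : U ≠ ⊥) {t y : G} (ht : t ∈ M)
    (hts : t ∈ Sw G a b) (hy : y ∈ M) (hyD : y ∈ st2 G a b) (hy1 : y ≠ 1)
    (e : t * y * t⁻¹ = y⁻¹) : ∃ (K : Subgroup G) (p q : ℕ), LS a b M S U K p q := by
  have cent := h.loc_cent hM ha hb hU hUn hUs hU1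
  obtain ⟨B, Δ, _, _, π, ι, hc⟩ := exists_con M S hM.inv
  have := hc.finite
  have := hc.finite_pts
  obtain ⟨α, hα⟩ := hc.exists_eq ha
  obtain ⟨β, hβ⟩ := hc.exists_eq hb
  have hαβ : α ≠ β := fun e => h.ne (hα ▸ hβ ▸ congrArg ι e)
  have he : Even (Nat.card Δ) := by
    have := parity (hM.inv t ht) fun p _ => smul_smul_two hts.1 p
    rw [show S ∩ fixedBy Ω t = ∅ from Set.eq_empty_of_forall_notMem fun c hc => h.fpf hts.1 c hc.2,
      Set.ncard_empty] at this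
    exact hc.card_pts ▸ Nat.even_iff.2 this
  have hB : BG B Δ α β :=
    ⟨hc.two hM, he, hαβ, Odd.of_dvd_nat (hα ▸ hβ ▸ h.odd) (hc.card_st2_dvd α β)⟩
  have piD : ∀ {g : M}, π g ∈ st2 B α β ↔ (g : G) ∈ st2 G a b := by
    intro g; rw [hc.mem_st2, hα, hβ]
  have piS : ∀ g : M, (g : G) ∈ Sw G a b → π g ∈ Sw B α β := fun g hg => by
    have h1 : π g • α = β := hc.smul_iff.2 (hα ▸ hβ ▸ hg.2)
    refine ⟨two_of ?_ fun e => hαβ (by rw [← h1, e, one_smul]), h1⟩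
    rw [← map_mul, show g * g = 1 from Subtype.ext (mul_self_two hg.1), map_one]
  -- an inverted element acting trivially on `S` is trivial
  have inj : ∀ s ∈ M, s ∈ Sw G a b → ∀ d : M, s * d * s⁻¹ = (d : G)⁻¹ → π d = 1 → (d : G) = 1 :=
    fun s hs hs' d e1 e2 => by
      have h1 := hc.eq_one_iff.1 e2
      have h2 := cent s hs (isPGroup_zpowers_two hs'.1) d d.2 h1
      rw [h2.eq, mul_inv_cancel_right] at e1
      exact h.eq_one_of_inv (h1 a ha) e1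
  have hr : ¬ HasReg B Δ := fun hr => by
    obtain ⟨V, hV, v1, v2, -⟩ := hB.two.exists_reg_two hr he α
    have h1 : π ⟨t, ht⟩ ∈ V := hB.mem_of_normal (fun e => by
      obtain ⟨r, hr, e'⟩ := v1 α β
      rw [e, mem_bot] at hr
      exact hαβ (by rw [← e', hr, one_smul])) (piS ⟨t, ht⟩ hts).1
    have e1 : π ⟨y, hy⟩ * π ⟨t, ht⟩ * (π ⟨y, hy⟩)⁻¹ * (π ⟨t, ht⟩)⁻¹ = π ⟨y, hy⟩ * π ⟨y, hy⟩ := by
      rw [← map_inv, ← map_inv, ← map_mul, ← map_mul, ← map_mul, ← map_mul]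
      refine congrArg π (Subtype.ext ?_)
      change y * t * y⁻¹ * t⁻¹ = y * y
      rw [mul_assoc y, mul_assoc y, ← conj_inv, e, inv_inv]
    have h2 : π ⟨y, hy⟩ • α = α := (piD.2 hyD).1
    have e2 := v2 α _ (e1 ▸ mul_mem (hV.conj_mem _ h1 _) (inv_mem h1)) (by rw [mul_smul, h2, h2])
    exact hy1 (inj t ht hts ⟨y, hy⟩ e (hB.eq_one_of_inv h2 (mul_eq_one_iff_eq_inv.1 e2)))
  obtain ⟨k0, hk0, hk1, hk2⟩ := hk
  obtain ⟨L, hL, L1, L2, L3, L4, L5, L6, L7, F, _, _, hF, ⟨ε⟩⟩ :=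
    hB.zl_data hr ((ih B Δ (hc.card_lt hk0 hk1 hk2) α β hB).resolve_left hr)
  -- the inverted elements commute
  let J : Subgroup M := (L ⊓ st2 B α β).comap π ⊓ centralizer (π.ker : Set M)
  have J1 : ∀ x ∈ J, ∀ w ∈ J, x * w = w * x := fun x hx w hw =>
    congrArg Subtype.val ((MonoidHom.isMulCommutative_of_isCyclic_of_ker_le_center
      ((π.comp J.subtype).codRestrict (L ⊓ st2 B α β) fun g => g.2.1) (fun z hz =>
        mem_center_iff.2 fun g => Subtype.ext (g.2.2 z (congrArg Subtype.val hz)).symm)).is_comm.comm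
      ⟨x, hx⟩ ⟨w, hw⟩)
  have J2 : ∀ s ∈ M, s ∈ Sw G a b → ∀ d : M, (d : G) ∈ st2 G a b → s * d * s⁻¹ = (d : G)⁻¹ →
      d ∈ J := fun s hs hs' d hd e1 => by
    have h1 := h.mul_sw hs' hd e1
    have e2 : d = (⟨s, hs⟩ : M)⁻¹ * (⟨s, hs⟩ * d) := by group
    refine ⟨⟨?_, piD.2 hd⟩, ?_⟩
    · rw [e2, map_mul, map_inv]
      exact L.mul_mem (L.inv_mem (L1 _ (piS _ hs').1)) (L1 _ (piS _ h1).1)
    · have k : ∀ g : M, (g : G) ∈ Sw G a b → g ∈ centralizer (π.ker : Set M) := fun g hg z hz =>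
        Subtype.ext (cent g g.2 (isPGroup_zpowers_two hg.1) z z.2 (hc.eq_one_iff.1 hz)).symm
      rw [e2]
      exact Subgroup.mul_mem _ (Subgroup.inv_mem _ (k _ hs')) (k _ h1)
  have J3 : ∀ s ∈ M, s ∈ Sw G a b → ∀ s' ∈ M, s' ∈ Sw G a b → ∀ d ∈ M, d ∈ st2 G a b →
      s * d * s⁻¹ = d⁻¹ → ∀ d' ∈ M, d' ∈ st2 G a b → s' * d' * s'⁻¹ = d'⁻¹ → d * d' = d' * d :=
    fun s hs h1 s' hs' h2 d hd h3 e1 d' hd' h4 e2 =>
      congrArg Subtype.val (J1 _ (J2 s hs h1 ⟨d, hd⟩ h3 e1) _ (J2 s' hs' h2 ⟨d', hd'⟩ h4 e2))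
  let K : Subgroup G :=
    { carrier := {d | d ∈ M ∧ d ∈ st2 G a b ∧ t * d * t⁻¹ = d⁻¹}
      one_mem' := ⟨one_mem _, one_mem _, by simp⟩
      mul_mem' := fun {x w} hx hw => ⟨mul_mem hx.1 hw.1, mul_mem hx.2.1 hw.2.1, by
        rw [← conj_mul, hx.2.2, hw.2.2, J3 t ht hts t ht hts x hx.1 hx.2.1 hx.2.2 w hw.1 hw.2.1 hw.2.2,
          mul_inv_rev]⟩
      inv_mem' := fun {x} hx => ⟨inv_mem hx.1, inv_mem hx.2.1, by rw [← conj_inv, hx.2.2]⟩ }
  have KM : K ≤ M := fun _ hd => hd.1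
  have KD : K ≤ st2 G a b := fun _ hd => hd.2.1
  let ψ : K →* ↥(L ⊓ st2 B α β) := (π.comp (inclusion KM)).codRestrict _
    fun d => (J2 t ht hts ⟨d, d.2.1⟩ d.2.2.1 d.2.2.2).1
  have hψ : Function.Bijective ψ := by
    refine ⟨(injective_iff_map_eq_one _).2 fun d hd =>
      Subtype.ext (inj t ht hts ⟨d, d.2.1⟩ d.2.2.2 (congrArg Subtype.val hd)), fun κ => ?_⟩
    obtain ⟨ρ, hρ, e1⟩ := exists_sqrt_of_odd (hB.odd_fix κ.2.2.1)
    replace hρ := zpowers_le.2 κ.2 hρ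
    obtain ⟨d, rfl⟩ := hc.surj ρ
    have h1 := piD.1 hρ.2
    refine ⟨⟨d * (t * (d : G)⁻¹ * t⁻¹), mul_mem d.2 (mul_mem (mul_mem ht (inv_mem d.2)) (inv_mem ht)),
      mul_mem h1 (h.conj_mem hts (inv_mem h1)), ?_⟩, Subtype.ext ?_⟩
    · rw [inv_two hts.1]
      calc t * (d * (t * (d : G)⁻¹ * t)) * t = t * d * t * (d : G)⁻¹ * (t * t) := by group
        _ = _ := by rw [mul_self_two hts.1, mul_inv_rev, mul_inv_rev, mul_inv_rev, inv_two hts.1]; group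
    · change π (d * (⟨t, ht⟩ * d⁻¹ * (⟨t, ht⟩ : M)⁻¹)) = _
      rw [map_mul, map_mul, map_mul, map_inv, map_inv, L4 _ (piS ⟨t, ht⟩ hts) _ (inv_mem hρ), inv_inv, e1]
  have cK : Nat.card ↥(L ⊓ st2 B α β) = Nat.card K := (Nat.card_eq_of_bijective ψ hψ).symm
  rw [cK] at L6 L7
  rw [hc.card_pts] at L6 hF
  have fixK : ∀ y ∈ K, ∀ c ∈ S \ {a, b}, y • c = c → y = 1 := fun w hw c hc' e1 => by
    obtain ⟨γ, rfl⟩ := hc.exists_eq hc'.1
    have h1 := (ψ ⟨w, hw⟩).2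
    exact inj t ht hts ⟨w, hw.1⟩ hw.2.2 (L3 _ h1.1 γ (fun e => hc'.2 (Or.inl (e ▸ hα)))
      (fun e => hc'.2 (Or.inr (e ▸ hβ))) h1.2 (hc.smul_iff.2 e1))
  have mv : ∀ g ∈ M, g ∈ st2 G a b → ∀ c ∈ S \ {a, b}, g • c ∈ S \ {a, b} := fun g hg hD c hc' =>
    ⟨hM.inv g hg c hc'.1, fun e => hc'.2 (e.imp (fun e => smul_left_cancel g (e.trans hD.1.symm))
      fun e => smul_left_cancel g (e.trans hD.2.symm))⟩
  -- the order of `U`
  have Ub : ∀ x ∈ U, x • b = b → x = 1 := fun x hx => hUs x hx b hb h.ne.symm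
  have O1 : (fun u : G => u • b) '' U ⊆ S \ {a} := by
    rintro _ ⟨u, hu, rfl⟩
    exact ⟨hM.inv u (hU hu) b hb, fun e => h.ne (smul_left_cancel u ((hUa hu).trans e.symm))⟩
  have cS : (S \ {a}).ncard = 2 * Nat.card K + 1 := by
    rw [Set.ncard_sdiff_singleton_of_mem ha, L6]; rfl
  have cU : Nat.card U = 2 * Nat.card K + 1 := by
    have d1 := Fx.card_dvd_of_semiregular U (S \ {a}) (fun u hu c hc' => ⟨hM.inv u (hU hu) c hc'.1,
      fun e => hc'.2 (smul_left_cancel u (e.trans (hUa hu).symm))⟩) fun u hu c hc' => hUs u hu c hc'.1 hc'.2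
    have d2 := Fx.card_dvd_of_semiregular K ((fun u : G => u • b) '' U \ {b}) (by
      rintro k hk _ ⟨⟨u, hu, rfl⟩, h1⟩
      refine ⟨⟨_, hUn k hk.1 hk.2.1.1 u hu, ?_⟩, fun e => h1 (smul_left_cancel k (e.trans hk.2.1.2.symm))⟩
      show (k * u * k⁻¹) • b = k • u • b
      rw [mul_smul, mul_smul, inv_smul_eq_iff.2 (show k • b = b from hk.2.1.2).symm])
      fun k hk c hc' => fixK k hk c ⟨(O1 hc'.1).1, fun e => e.elim (O1 hc'.1).2 hc'.2⟩
    rw [Nat.card_coe_set_eq, cS] at d1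
    rw [Nat.card_coe_set_eq, Set.ncard_sdiff_singleton_of_mem
      (show b ∈ (fun u : G => u • b) '' U from ⟨1, one_mem _, one_smul _ _⟩),
      ncard_orbit_semi Ub] at d2
    have d3 := (one_lt_card_iff_ne_bot _).2 hU1
    have d4 := Nat.le_of_dvd (by omega) d1
    obtain ⟨j, hj⟩ := d2
    obtain ⟨i, hi⟩ := d1
    rcases j with _ | _ | _ | j
    · omega
    · rw [show Nat.card U = Nat.card K + 1 by omega] at hi
      rcases i with _ | _ | i
      · omega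
      · omega
      · nlinarith
    · omega
    · rw [show Nat.card U = Nat.card K * (j + 1 + 1 + 1) + 1 by omega] at d4
      nlinarith
  have O2 : (fun u : G => u • b) '' U = S \ {a} :=
    Set.eq_of_subset_of_ncard_le O1 (by rw [ncard_orbit_semi Ub, cS, cU])
  obtain ⟨p, _, n, hp, hn⟩ := FiniteField.card' F
  have cF : Fintype.card F = 2 * Nat.card K + 1 := by omega
  refine ⟨K, p, 2 * Nat.card K + 1, hp, ⟨n, cF ▸ hn⟩, cU, L6, fun c hc' ca => O2.ge ⟨hc', ca⟩,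
    fun s hs hs' d => ?_, isCyclic_of_injective ψ hψ.1, rfl, L7,
    fun w hw h1 c hc' e1 => by_contra fun e2 => h1 (fixK w hw c ⟨hc', e2⟩ e1), cent,
    fun d hd hD hC => ?_, ?_⟩
  · have h1 := h.sw_mul hts hs'
    have h2 : s = t * (t * s) := by rw [← mul_assoc, mul_self_two hts.1, one_mul]
    have h3 : d * (t * s) = t * s * d → s * d * s⁻¹ = t * d * t⁻¹ := fun e1 => by
      nth_rewrite 1 [h2]
      rw [mul_assoc t, ← e1]
      nth_rewrite 2 [h2]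
      group
    exact ⟨fun hd => ⟨hd.1, hd.2.1, (h3 (J3 t ht hts t ht hts d hd.1 hd.2.1 hd.2.2 _
      (mul_mem ht hs) h1.1 h1.2)).trans hd.2.2⟩, fun hd => ⟨hd.1, hd.2.1, (h3 (J3 s hs hs' t ht hts
        d hd.1 hd.2.1 hd.2.2 _ (mul_mem ht hs) h1.1 h1.2)).symm.trans hd.2.2⟩⟩
  · have cX : (S \ {a, b}).ncard = 2 * Nat.card K := by
      rw [Set.ncard_sdiff (by rintro _ (rfl | rfl) <;> assumption), Set.ncard_pair h.ne, L6]; rfl
    obtain ⟨c0, hc0⟩ : (S \ {a, b}).Nonempty := Set.nonempty_of_ncard_ne_zero (by omega)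
    obtain ⟨r, hr', rfl⟩ := exists_sqrt_of_odd (h.odd_fix hD.1)
    have rM := zpowers_le.2 hd hr'
    have rD := zpowers_le.2 hD hr'
    have rC : ∀ k ∈ K, Commute r k := fun k hk => by
      obtain ⟨i, hi⟩ := hr'
      exact hi ▸ (hC k hk).zpow_left i
    have sq : ∀ c : Ω, (∃ k ∈ K, k • c = r • c) → ∃ k ∈ K, k • c = (r * r) • c := by
      rintro c ⟨k, hk, e1⟩
      exact ⟨k * k, mul_mem hk hk, by
        rw [mul_smul, mul_smul, e1, ← mul_smul, ← (rC k hk).eq, mul_smul, e1]⟩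
    obtain ⟨c, hc', k, hk, e1⟩ : ∃ c ∈ S \ {a, b}, ∃ k ∈ K, k • c = (r * r) • c := by
      rcases two_orbits (K := K) (fun k hk => mv k hk.1 hk.2.1) fixK cX hc0 (mv r rM rD _ hc0)
        (mv r rM rD _ (mv r rM rD _ hc0)) with h1 | h1 | h1
      · exact ⟨c0, hc0, sq _ h1⟩
      · exact ⟨c0, hc0, by rwa [mul_smul]⟩
      · exact ⟨_, mv r rM rD _ hc0, sq _ h1⟩
    set z := k⁻¹ * (r * r) with hz
    have zM : z ∈ M := mul_mem (inv_mem hk.1) hd
    have zD : z ∈ st2 G a b := mul_mem (inv_mem hk.2.1) hD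
    have zc : z • c = c := by rw [hz, mul_smul, ← e1, inv_smul_smul]
    have zK : ∀ w ∈ K, Commute w z := fun w hw =>
      Commute.mul_right (Commute.inv_right (J3 t ht hts t ht hts w hw.1 hw.2.1 hw.2.2 k hk.1 hk.2.1
        hk.2.2)) (hC w hw).symm
    have b1 : insert b ((fun k : G => k • c) '' K) ⊆
        (fun u : G => u • b) '' (U ⊓ centralizer {z} : Subgroup G) := fun w hw => by
      have h1 : w ∈ S \ {a} ∧ z • w = w := by
        rcases hw with rfl | ⟨k', hk', rfl⟩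
        · exact ⟨⟨hb, h.ne.symm⟩, zD.2⟩
        · have := mv k' hk'.1 hk'.2.1 c hc'
          exact ⟨⟨this.1, fun e => this.2 (Or.inl e)⟩, smul_fix_of_commute (zK k' hk') zc⟩
      obtain ⟨u, hu, rfl⟩ := O2.ge h1.1
      refine ⟨u, ⟨hu, mem_centralizer_singleton_iff.2 ?_⟩, rfl⟩
      have h2 := Ub _ (mul_mem (inv_mem hu) (hUn z zM zD.1 u hu)) (by
        rw [mul_smul, mul_smul, mul_smul, inv_smul_eq_iff.2 (show z • b = b from zD.2).symm,
          show z • u • b = u • b from h1.2, inv_smul_smul])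
      rw [inv_mul_eq_one, eq_mul_inv_iff_mul_eq] at h2
      exact h2
    have b2 := Set.ncard_le_ncard b1
    rw [Set.ncard_insert_of_notMem (by
      rintro ⟨k', hk', e2⟩
      exact (mv k' hk'.1 hk'.2.1 c hc').2 (Or.inr e2)), ncard_orbit_semi fun w hw => fixK w hw c hc',
      ncard_orbit_semi (U := U ⊓ centralizer {z}) fun w hw => Ub w hw.1] at b2
    have b3 : U ⊓ centralizer {z} = U := by
      refine eq_of_le_of_card_ge inf_le_left ?_
      obtain ⟨j, hj⟩ := card_dvd_of_le (inf_le_left : U ⊓ centralizer {z} ≤ U)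
      rcases j with _ | _ | j
      · omega
      · omega
      · nlinarith
    refine ⟨k, hk, fun w hw => ?_⟩
    rw [← inv_smul_eq_iff, ← mul_smul, ← hz]
    by_cases e2 : w = a
    · rw [e2]; exact zD.1
    · obtain ⟨u, hu, rfl⟩ := O2.ge ⟨hw, e2⟩
      exact smul_fix_of_commute (mem_centralizer_singleton_iff.1 (b3.ge hu).2) zD.2
  · obtain ⟨T, m, v, h1, h2, ⟨h3⟩, h4, h5⟩ := exists_dih (M := M) (S := S) (L := L.comap π) (a := a)
      ⟨fun g _ => hM.inv g g.2, fun c hc' d hd => let ⟨g, hg, e⟩ := hM.t1.tr c hc' d hd; ⟨⟨g, hg⟩, trivial, e⟩⟩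
      ⟨fun g _ => hM.inv g g.2, fun c hc' d hd => by
        obtain ⟨γ, rfl⟩ := hc.exists_eq hc'
        obtain ⟨δ, rfl⟩ := hc.exists_eq hd
        obtain ⟨l, hl, e1⟩ := L2.tr γ trivial δ trivial
        obtain ⟨g, rfl⟩ := hc.surj l
        exact ⟨g, hl, hc.smul_iff.1 e1⟩⟩ ha
      ((h.odd_stab a).of_dvd_nat (card_comap_dvd_of_injective _ M.subtype M.subtype_injective))
      (cF ▸ odd_two_mul_add_one _) (ε.toMonoidHom.comp (π.subgroupComap L))
      (ε.surjective.comp (π.subgroupComap_surjective_of_surjective L hc.surj)) fun g hg =>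
        hc.eq_one_iff.1 (congrArg Subtype.val ((map_eq_one_iff ε ε.injective).1 hg)) a ha
    exact ⟨T.map M.subtype, m, v, map_subtype_le _, h1.map _, h2,
      ⟨(equivMapOfInjective T _ M.subtype_injective).symm.trans h3⟩, h4,
      by rw [card_map_of_injective M.subtype_injective, ← h5, L6]⟩

end Cfsg.Agent.TT
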