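import Mathlib
import Cfsg.Agent.TT.BGDefs
import Cfsg.Agent.TT.B68CA
import Cfsg.Agent.FT.BG3_4
import Cfsg.Agent.FT.BG1_6
import Cfsg.Agent.GT.ElemAbRep
import Cfsg.Agent.GT.CoprimeGen
import Cfsg.Agent.GT.Conj
import Cfsg.Agent.GT.PGroupMaxClass

/-! Pure group theory for the theorem on doubly transitive groups whose involutions fix no
point. -/

set_option autoImplicit false

namespace Cfsg.Agent.TT

open Subgroup MulAction Cfsg.Agent.Perm Cfsg.Agent.Perm.TT Cfsg.Agent.Perm.TwoCount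
open scoped commutatorElement

universe u v

variable {G : Type u} {Ω : Type v} [Group G] [Finite G] [MulAction G Ω] [Finite Ω] {a b : Ω}

theorem Refl.mem_norm {r : ℕ} {X : Subgroup G} {u : G} (h : Refl r X u) :
    u ∈ normalizer (X : Set G) := by
  obtain ⟨z, hz, -, -, h⟩ := h
  refine mem_normalizer_fintype fun x hx => ?_
  simpa using mul_mem (zpowers_le.2 hz (h x hx)) hx

theorem Refl.det {r : ℕ} [Fact r.Prime] {X : Subgroup G} (hX : IsElementaryAbelian r X) {u : G}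
    (h : Refl r X u) : LinearMap.det (GT.eaRep hX le_rfl ⟨u, h.mem_norm⟩) = -1 := by
  have hu := h.mem_norm
  obtain ⟨z, hz, ho, h1, h2⟩ := h
  set e := GT.eaRep hX le_rfl ⟨u, hu⟩ with he
  set v := GT.EAV.mk hX z hz with hv
  have hv0 : v ≠ 0 := fun h0 => by
    have h5 : z = 1 := GT.EAV.val_eq_one_iff.2 h0
    rw [h5, orderOf_one] at ho
    exact (Fact.out : r.Prime).ne_one ho.symm
  have h3 : e v = -v := GT.EAV.ext h1
  set L := Submodule.span (ZMod r) {v} with hL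
  have h4 : L ≤ L.comap e := Submodule.span_le.2 (by
    rintro _ rfl
    exact Submodule.mem_comap.2 (h3 ▸ L.neg_mem (Submodule.mem_span_singleton_self v)))
  have h5 : e.restrict (p := L) (q := L) h4 = (-1 : ZMod r) • LinearMap.id := LinearMap.ext fun w => by
    obtain ⟨c, hc⟩ := Submodule.mem_span_singleton.1 w.2
    refine Subtype.ext ?_
    change e w = (-1 : ZMod r) • (w : GT.EAV hX)
    rw [← hc, map_smul, h3, smul_neg, neg_smul, one_smul]
  have h6 : L.mapQ L e h4 = LinearMap.id := LinearMap.ext fun x => by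
    induction x using Submodule.Quotient.induction_on with
    | _ w =>
      obtain ⟨k, hk⟩ := mem_powers_iff_mem_zpowers.2 (h2 _ w.val_mem)
      have h7 : e w - w = k • v := GT.EAV.ext (by
        rw [GT.EAV.val_sub, GT.EAV.val_nsmul]; exact hk.symm)
      simpa [Submodule.Quotient.eq, h7] using nsmul_mem (Submodule.mem_span_singleton_self v) k
  rw [e.det_eq_det_mul_det L h4, h5, h6, LinearMap.det_smul, finrank_span_singleton hv0, pow_one,
    LinearMap.det_id, LinearMap.det_id, mul_one, mul_one]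

/-- A product of three reflections does not have odd order. -/
theorem refl_three {r : ℕ} (hr : r.Prime) (hr2 : r ≠ 2) {X : Subgroup G}
    (hc : ∀ x ∈ X, ∀ y ∈ X, x * y = y * x) (he : ∀ x ∈ X, x ^ r = 1) {u₁ u₂ u₃ : G}
    (h1 : Refl r X u₁) (h2 : Refl r X u₂) (h3 : Refl r X u₃) :
    ¬ Odd (orderOf (u₁ * u₂ * u₃)) := fun ho => by
  haveI := Fact.mk hr
  have hX : IsElementaryAbelian r X := ⟨⟨⟨fun x y => Subtype.ext (hc x x.2 y y.2)⟩⟩, he⟩
  have h4 : ((⟨u₁, h1.mem_norm⟩ * ⟨u₂, h2.mem_norm⟩ * ⟨u₃, h3.mem_norm⟩ :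
      normalizer (X : Set G))) ^ orderOf (u₁ * u₂ * u₃) = 1 :=
    Subtype.ext (pow_orderOf_eq_one (u₁ * u₂ * u₃))
  have h5 := congrArg (fun g => LinearMap.det (GT.eaRep hX le_rfl g)) h4
  simp only [map_pow, map_mul, map_one, h1.det hX, h2.det hX, h3.det hX, neg_mul_neg, mul_one,
    one_mul, ho.neg_one_pow] at h5
  haveI : Fact (2 < r) := ⟨lt_of_le_of_ne hr.two_le hr2.symm⟩
  exact ZMod.neg_one_ne_one h5

/-- A noncyclic elementary abelian group acting coprimely has a hyperplane with fixed points. -/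
theorem exists_hyper {r : ℕ} (hr : r.Prime) {W P : Subgroup G}
    (hc : ∀ x ∈ W, ∀ y ∈ W, x * y = y * x) (he : ∀ x ∈ W, x ^ r = 1) (hW : ¬ IsCyclic W)
    (hN : W ≤ normalizer (P : Set G)) (hs : Group.IsSolvable P) (hr' : ¬ r ∣ Nat.card P)
    (hP : P ≠ ⊥) : ∃ V ≤ W, V ≠ ⊥ ∧ Nat.card W = r * Nat.card V ∧
      ∃ x ∈ P, x ≠ 1 ∧ x ∈ centralizer (V : Set G) := by
  haveI := Fact.mk hr
  have hX : IsElementaryAbelian r W := ⟨⟨⟨fun x y => Subtype.ext (hc x x.2 y y.2)⟩⟩, he⟩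
  have hp : IsPGroup r W := fun x => ⟨1, Subtype.ext (by simpa using he x x.2)⟩
  obtain ⟨k, hk⟩ := hp.exists_card_eq
  have key : ∀ V ≤ W, V.relIndex W = r → V ≠ ⊥ ∧ Nat.card W = r * Nat.card V := fun V hV h =>
    ⟨fun e => hW (isCyclic_of_prime_card (p := r) (by rwa [e, relIndex_bot_left] at h)), by
      rw [← FT.card_mul_relIndex V W, inf_eq_left.2 hV, h, mul_comm]⟩
  by_contra hne
  refine hP (le_bot_iff.1 (GT.CopAct.le_of_cocyclic_centralizer_le hX.1 hN
    (hk ▸ ((Nat.Prime.coprime_iff_not_dvd hr).2 hr').pow_left k) fun B hB h x hx => ?_))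
  by_contra h1
  rcases GT.CopAct.eq_or_relIndex_eq_of_cocyclic hX hB h with rfl | e
  · obtain ⟨V, hV, e⟩ := GT.CopAct.exists_hyperplane hp fun e => hW (e ▸ inferInstance)
    exact hne ⟨V, hV, (key V hV e).1, (key V hV e).2, x, hx.1, h1, centralizer_le hV hx.2⟩
  · exact hne ⟨B, hB, (key B hB e).1, (key B hB e).2, x, hx.1, h1, hx.2⟩

/-- An element of prime order without fixed points on `U` centralizes every invariant subgroup of
coprime order acting faithfully. -/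
theorem hh_coprime {r : ℕ} (hr : r.Prime) {Q U : Subgroup G} {d : G} (hd : orderOf d = r)
    (hodd : Odd (Nat.card Q * r)) (hQ : ¬ r ∣ Nat.card Q) (hdQ : d ∈ normalizer (Q : Set G))
    (hQU : Q ≤ normalizer (U : Set G)) (hdU : d ∈ normalizer (U : Set G))
    (hs : Group.IsSolvable U) (hcop : (Nat.card U).Coprime (Nat.card Q * r))
    (hC : ∀ x ∈ U, Commute x d → x = 1) (hf : Q ⊓ centralizer (U : Set G) = ⊥) :
    ∀ x ∈ Q, Commute x d := by
  have h1 : Nat.card (zpowers d) = r := by rw [Nat.card_zpowers, hd]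
  have h2 : (Nat.card Q).Coprime (Nat.card (zpowers d)) :=
    h1 ▸ ((Nat.Prime.coprime_iff_not_dvd hr).2 hQ).symm
  have h3 : FT.Sdprod Q (zpowers d) (Q ⊔ zpowers d) :=
    ⟨rfl, inf_eq_bot_of_coprime h2, zpowers_le.2 hdQ⟩
  have h4 := h3.card_eq
  rw [h1] at h4
  have h5 := FT.odd_prime_sdprod_cent1 (h4 ▸ hodd) h3 h2 (h1 ▸ hr) hs
    (sup_le hQU (zpowers_le.2 hdU)) (h4 ▸ hcop) ((eq_bot_iff_forall _).2 fun x hx =>
      hC x hx.1 (hx.2 d (mem_zpowers d)).symm)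
  intro x hx
  have h6 := h5 (commutator_mem_commutator (mem_zpowers d) hx)
  rw [hf, mem_bot] at h6
  exact (commutatorElement_eq_one_iff_commute.1 h6).symm

theorem hh_quad {r : ℕ} (hr : r.Prime) {U : Subgroup G} {d x z : G} (hd : orderOf d = r)
    (hx : x ∈ normalizer (U : Set G)) (hdU : d ∈ normalizer (U : Set G)) (hxz : Commute x z)
    (hdz : Commute d z) (e : d * x * d⁻¹ = x * z) (hcop : (Nat.card U).Coprime r)
    (hC : ∀ x ∈ U, Commute x d → x = 1) : U ≤ centralizer {z} := by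
  haveI := Fact.mk hr
  by_cases hz1 : z = 1
  · exact fun u _ => mem_centralizer_singleton_iff.2 (by simp [hz1])
  have h1 : ∀ n : ℕ, d ^ n * x * (d ^ n)⁻¹ = x * z ^ n := fun n => by
    induction n with
    | zero => simp
    | succ n ih =>
      calc d ^ (n + 1) * x * (d ^ (n + 1))⁻¹ = d * (d ^ n * x * (d ^ n)⁻¹) * d⁻¹ := by
            rw [pow_succ']; group
        _ = d * x * d⁻¹ * (d * z ^ n * d⁻¹) := by rw [ih]; group
        _ = _ := by rw [e, (hdz.pow_right n).eq, pow_succ']; group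
  have hdr : d ^ r = 1 := hd ▸ pow_orderOf_eq_one d
  have hzr : z ^ r = 1 := by simpa [hdr] using (h1 r).symm
  have hz : orderOf z = r := orderOf_eq_prime hzr hz1
  have h2 : ∀ n : ℕ, (x ^ n)⁻¹ * d * x ^ n = z ^ n * d := fun n => by
    induction n with
    | zero => simp
    | succ n ih =>
      calc (x ^ (n + 1))⁻¹ * d * x ^ (n + 1) = x⁻¹ * ((x ^ n)⁻¹ * d * x ^ n) * x := by
            rw [pow_succ]; group
        _ = x⁻¹ * z ^ n * (d * x * d⁻¹) * d := by rw [ih]; group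
        _ = _ := by rw [e, (hxz.inv_left.pow_right n).eq, pow_succ]; group
  have hzU : z ∈ normalizer (U : Set G) := by
    rw [show z = x⁻¹ * (d * x * d⁻¹) by rw [e]; group]
    exact mul_mem (inv_mem hx) (mul_mem (mul_mem hdU hx) (inv_mem hdU))
  have hn : zpowers d ≤ normalizer (zpowers z : Set G) :=
    zpowers_le.2 (centralizer_le_normalizer _ fun y hy => by
      obtain ⟨k, rfl⟩ := hy
      exact (hdz.zpow_right k).symm.eq)
  have hm : ∀ y ∈ zpowers z ⊔ zpowers d, ∃ i j : ℕ, y = z ^ i * d ^ j := fun y hy => by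
    obtain ⟨y1, hy1, y2, hy2, rfl⟩ := (GT.PG.mem_sup_of_le_normalizer hn).1 hy
    obtain ⟨i, rfl⟩ := mem_powers_iff_mem_zpowers.2 hy1
    obtain ⟨j, rfl⟩ := mem_powers_iff_mem_zpowers.2 hy2
    exact ⟨i, j, rfl⟩
  have hp : IsPGroup r ↥(zpowers z ⊔ zpowers d) := fun y => ⟨1, Subtype.ext (by
    obtain ⟨i, j, h⟩ := hm y y.2
    rw [pow_one, Subgroup.coe_pow, h, ((hdz.symm.pow_pow i j).mul_pow), ← pow_mul, ← pow_mul,
      mul_comm i, mul_comm j, pow_mul, pow_mul, hzr, hdr]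
    simp)⟩
  obtain ⟨k, hk⟩ := hp.exists_card_eq
  refine FT.coprime_abelian_gen_cent1 (A := zpowers z ⊔ zpowers d) ⟨⟨fun y y' => Subtype.ext ?_⟩⟩
    (fun hc => hz1 ?_) (sup_le (zpowers_le.2 hzU) (zpowers_le.2 hdU)) (hk ▸ hcop.pow_right k)
    fun y hy hy1 u hu => ?_
  · obtain ⟨i, j, h⟩ := hm y y.2
    obtain ⟨i', j', h'⟩ := hm y' y'.2
    change (y : G) * y' = y' * y
    rw [h, h']
    exact (((Commute.refl z).pow_pow _ _).mul_right (hdz.symm.pow_pow _ _)).mul_left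
      ((hdz.pow_pow _ _).mul_right ((Commute.refl d).pow_pow _ _))
  · have h3 : d ∈ zpowers z := FG.H93.mem_zpowers_of_orderOf_dvd_of_mem
      (C := zpowers z ⊔ zpowers d) (mem_sup_right (mem_zpowers d)) (mem_sup_left (mem_zpowers z))
      (by rw [hd, hz])
    obtain ⟨i, rfl⟩ := h3
    rw [← (hxz.zpow_right i).eq] at e
    simpa using e
  obtain ⟨i, j, rfl⟩ := hm y hy
  have hu2 : Commute u (z ^ i * d ^ j) := mem_centralizer_singleton_iff.1 hu.2
  by_cases h3 : d ^ j = 1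
  · rw [h3, mul_one] at hy1 hu2
    obtain ⟨m, hm⟩ := B68.mem_of_mem_zpowers hr hz (npow_mem_zpowers z i) hy1
    exact mem_centralizer_singleton_iff.2 (hm ▸ hu2.zpow_right m)
  obtain ⟨m, hm⟩ := mem_powers_iff_mem_zpowers.2
    (B68.mem_of_mem_zpowers hr hd (npow_mem_zpowers d j) h3)
  replace hm : (d ^ j) ^ m = d := hm
  have h4 := hu2.pow_right m
  rw [(hdz.symm.pow_pow i j).mul_pow, hm, ← pow_mul, ← h2] at h4
  have h5 := hC _ ((mem_normalizer_iff.1 (pow_mem hx (i * m)) u).1 hu.1) (by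
    calc _ = x ^ (i * m) * (u * ((x ^ (i * m))⁻¹ * d * x ^ (i * m))) * (x ^ (i * m))⁻¹ := by group
      _ = _ := by rw [h4.eq]; group)
  rw [show u = 1 by simpa using h5]
  exact one_mem _

/-- The same for abelian invariant subgroups of any order. -/
theorem hh_abelian {r : ℕ} (hr : r.Prime) {A U : Subgroup G} {d : G} (hd : orderOf d = r)
    (hodd : Odd (Nat.card A * r)) (hA : ∀ x ∈ A, ∀ y ∈ A, x * y = y * x)
    (hdA : d ∈ normalizer (A : Set G)) (hAU : A ≤ normalizer (U : Set G))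
    (hdU : d ∈ normalizer (U : Set G)) (hs : Group.IsSolvable U)
    (hcop : (Nat.card U).Coprime (Nat.card A * r)) (hC : ∀ x ∈ U, Commute x d → x = 1)
    (hf : A ⊓ centralizer (U : Set G) = ⊥) : ∀ x ∈ A, Commute x d := by
  haveI := Fact.mk hr
  have hd' : ∀ x ∈ A, d * x * d⁻¹ ∈ A := fun x hx => (mem_normalizer_iff.1 hdA x).1 hx
  let B : Subgroup G :=
    { carrier := {y | ∃ x ∈ A, y = x⁻¹ * (d * x * d⁻¹)}
      one_mem' := ⟨1, one_mem _, by simp⟩
      mul_mem' := by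
        rintro _ _ ⟨x, hx, rfl⟩ ⟨y, hy, rfl⟩
        refine ⟨x * y, mul_mem hx hy, ?_⟩
        calc _ = x⁻¹ * (d * x * d⁻¹) * y⁻¹ * (d * y * d⁻¹) := by group
          _ = _ := by rw [hA _ (mul_mem (inv_mem hx) (hd' x hx)) _ (inv_mem hy)]; group
      inv_mem' := by
        rintro _ ⟨x, hx, rfl⟩
        refine ⟨x⁻¹, inv_mem hx, ?_⟩
        rw [hA _ (inv_mem hx) _ (hd' x hx)]; group }
  have hBA : B ≤ A := by
    rintro _ ⟨x, hx, rfl⟩
    exact mul_mem (inv_mem hx) (hd' x hx)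
  have h1 : ∀ z ∈ B, Commute z d → z = 1 := by
    rintro _ ⟨x, hx, rfl⟩ hc
    have h2 := hBA ⟨x, hx, rfl⟩
    refine mem_bot.1 (hf ▸ ⟨h2, fun u hu => mem_centralizer_singleton_iff.1 (hh_quad hr hd (hAU hx)
      hdU (hA x hx _ h2) hc.symm (by group) (Nat.Coprime.coprime_mul_left_right hcop) hC hu)⟩)
  have hdB : d ∈ normalizer (B : Set G) := mem_normalizer_fintype (by
    rintro _ ⟨x, hx, rfl⟩
    exact ⟨_, hd' x hx, by group⟩)
  have h2 : ¬ r ∣ Nat.card B := fun h => by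
    have h3 := GT.card_modEq_card_inf_centralizer (L := B) (p := r) (Q := zpowers d)
      (IsPGroup.of_card (n := 1) (by rw [Nat.card_zpowers, hd, pow_one])) (zpowers_le.2 hdB)
    rw [(eq_bot_iff_forall (B ⊓ centralizer (zpowers d : Set G))).2 fun x hx =>
      h1 x hx.1 (hx.2 d (mem_zpowers d)).symm, card_bot] at h3
    exact hr.ne_one (Nat.dvd_one.1 ((h3.dvd_iff dvd_rfl).1 h))
  have h3 := card_dvd_of_le hBA
  have h4 := hh_coprime hr hd (hodd.of_dvd_nat (Nat.mul_dvd_mul_right h3 r)) h2 hdB (hBA.trans hAU)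
    hdU hs (hcop.coprime_dvd_right (Nat.mul_dvd_mul_right h3 r)) hC
    (le_bot_iff.1 (hf ▸ inf_le_inf_right _ hBA))
  intro x hx
  have h5 := h1 _ ⟨x, hx, rfl⟩ (h4 _ ⟨x, hx, rfl⟩)
  exact (mul_inv_eq_iff_eq_mul.1 (inv_mul_eq_one.1 h5).symm).symm

/-- The Wielandt bound on a critical subgroup. -/
theorem wie_gen {p : ℕ} (hp : p.Prime) (hp2 : p ≠ 2) {P V I : Subgroup G} (hP : IsPGroup p P)
    (hV : V ≠ ⊥) (hIV : I ≤ normalizer (V : Set G)) (hI : I ≠ ⊥)
    (hF : ∀ y ∈ I, y ≠ 1 → ∀ x ∈ V, Commute x y → x = 1)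
    (hVP : V ≤ normalizer (P : Set G)) (hIP : I ≤ normalizer (P : Set G))
    (hc : ¬ p ∣ Nat.card V * Nat.card I) (hf : V ⊓ centralizer (P : Set G) = ⊥)
    (hZ : ∀ Z : Subgroup G, Z ≤ P → (Z.subgroupOf P).Characteristic →
      (∀ x ∈ Z, ∀ y ∈ Z, x * y = y * x) → Z ⊓ centralizer (I : Set G) = ⊥) :
    ∃ M ≤ P, ∃ x ∈ M ⊓ centralizer (I : Set G), x ≠ 1 ∧
      Nat.card ↥(M ⊓ centralizer (I : Set G)) ^ Nat.card I ≤ Nat.card ↥(centralizer {x} ⊓ M) := by
  haveI := Fact.mk hp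
  obtain ⟨k, hk⟩ := hP.exists_card_eq
  have hV' : ¬ V ≤ centralizer (P : Set G) := fun h => hV (hf ▸ (inf_eq_left.2 h).symm)
  obtain ⟨B, hB, -, hBc, -, -, -, hBA⟩ := FT.critical_odd hP
    (hk ▸ (hp.odd_of_ne_two hp2).pow) fun e => hV' fun v _ x hx => by
      rw [mem_bot.1 (e ▸ hx : x ∈ (⊥ : Subgroup G)), one_mul, mul_one]
  have hBP : B ≤ P := hB.1
  have hF' : FT.IsFrob (V ⊔ I) V I := ⟨⟨rfl, (eq_bot_iff_forall _).2 fun x hx => by
    by_contra h
    exact h (hF x hx.2 h x hx.1 (Commute.refl x)), hIV⟩, hV, hI, fun y hy h =>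
    (eq_bot_iff_forall _).2 fun x hx => hF y hy h x hx.1 (mem_centralizer_singleton_iff.1 hx.2)⟩
  have hc1 : (Nat.card P).Coprime (Nat.card ↥(V ⊔ I)) := by
    rw [hk, ← hF'.sdprod.card_eq]
    exact ((Nat.Prime.coprime_iff_not_dvd hp).2 hc).pow_left k
  have hc2 : ∀ M ≤ P, (Nat.card M).Coprime (Nat.card V) := fun M hM =>
    (hc1.coprime_dvd_left (card_dvd_of_le hM)).coprime_dvd_right (card_dvd_of_le le_sup_left)
  have hNB : V ⊔ I ≤ normalizer (B : Set G) := (sup_le hVP hIP).trans hB.norm_le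
  have W : ∀ M ≤ P, V ⊔ I ≤ normalizer (M : Set G) → _ := fun M hM hMN =>
    FT.Frobenius_Wielandt_fixpoint hF' hMN (hc1.coprime_dvd_left (card_dvd_of_le hM))
      (by
        haveI := (hP.to_le hM).isNilpotent
        infer_instance)
  have hMB : ⁅B, V⁆ ≤ B := le_normalizer_iff_commutator_le_left.1 (le_sup_left.trans hNB)
  have hNM : V ⊔ I ≤ normalizer ((⁅B, V⁆ : Subgroup G) : Set G) :=
    FT.le_norm_commutator hNB (sup_le le_normalizer hIV)
  have h1 := FT.coprime_commg_cent_der1 (le_sup_left.trans hNB) (hc2 B hBP)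
  have h2 := FT.coprime_commGid (le_sup_left.trans hNB) (hc2 B hBP)
  have h0 : ⁅B, V⁆ ≠ ⊥ := fun e => hV' (hBA V hVP (hc2 P le_rfl)
    (le_centralizer_iff.1 (commutator_eq_bot_iff_le_centralizer.1 e)))
  set M := ⁅B, V⁆ with hM
  have hle : ⁅M, M⁆ ≤ M := commutator_le_self M
  have h3 : ⁅M, M⁆ ⊓ centralizer (I : Set G) = ⊥ := by
    have := hB.2
    refine le_bot_iff.1 (hZ ⁅B, B⁆ ((commutator_le_self B).trans hBP) (by
      rw [FT.subgroupOf_commutator hBP hBP]; infer_instance) (fun x hx y hy => ?_) ▸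
        inf_le_inf_right _ (commutator_mono hMB hMB))
    exact (hBc (commutator_mono le_rfl hBP hy)).2 x (commutator_le_self B hx)
  have h4 := (W _ (hle.trans (hMB.trans hBP)) (FT.le_norm_commutator hNM hNM)).2.1 h3
  have h5 : M ⊓ centralizer (V : Set G) = ⁅M, M⁆ :=
    le_antisymm h1 (le_inf hle (le_centralizer_iff.1 h4))
  have h6 := (W _ (hMB.trans hBP) hNM).1
  rw [h5, show M ⊓ centralizer ((V ⊔ I : Subgroup G) : Set G) = ⊥ from le_bot_iff.1 (h3 ▸ le_inf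
    (h5 ▸ inf_le_inf_left _ (centralizer_le (SetLike.coe_subset_coe.2 le_sup_left)))
    (inf_le_right.trans (centralizer_le (SetLike.coe_subset_coe.2 le_sup_right)))), card_bot,
    one_pow, one_mul] at h6
  obtain ⟨x, hx, hx1⟩ := (bot_or_exists_ne_one (M ⊓ centralizer (I : Set G))).resolve_left fun e =>
    h0 (h2 ▸ commutator_eq_bot_iff_le_centralizer.2
      (le_centralizer_iff.1 ((W _ (hMB.trans hBP) hNM).2.1 e)))
  refine ⟨M, hMB.trans hBP, x, hx, hx1, Nat.le_of_mul_le_mul_right ?_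
    (Nat.card_pos (α := ↥⁅M, M⁆))⟩
  rw [← h6]
  exact B68.card_le_cent_mul hx.1

end Cfsg.Agent.TT
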