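import Mathlib
import Cfsg.Agent.TT.BGLoc
import Cfsg.Agent.TT.BGPure
import Cfsg.Agent.GT.CNGroup
import Cfsg.Agent.GT.TransferSylow

/-!
# Doubly transitive groups whose involutions fix no point: `O_p(G_a)` not semiregular
-/

set_option autoImplicit false
set_option linter.unusedSectionVars false

namespace Cfsg.Agent.TT

open Subgroup MulAction Cfsg.Agent.Perm Cfsg.Agent.Perm.TT Cfsg.Agent.Perm.TwoCount
open scoped commutatorElement

universe u v

variable {G : Type u} {Ω : Type v} [Group G] [Finite G] [MulAction G Ω] [Finite Ω] {a b : Ω}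

theorem PP_le (p : ℕ) (c : Ω) : PP G p c ≤ stabilizer G c := GT.pCoreOf_le _

theorem PP_p (p : ℕ) (c : Ω) : IsPGroup p (PP G p c) := GT.isPGroup_pCoreOf p _

theorem YY_le (p : ℕ) (c d : Ω) : YY G p c d ≤ st2 G c d := inf_le_inf_right _ (PP_le p c)

theorem mem_fixedPoints_iff {X : Subgroup G} {c : Ω} :
    c ∈ fixedPoints X Ω ↔ ∀ x ∈ X, x • c = c := ⟨fun h x hx => h ⟨x, hx⟩, fun h x => h x x.2⟩

theorem card_eq_of_conj {A B : Subgroup G} (g : G) (h : ∀ x, g * x * g⁻¹ ∈ B ↔ x ∈ A) :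
    Nat.card B = Nat.card A :=
  (Nat.card_congr (Equiv.subtypeEquiv (MulAut.conj g).toEquiv fun x => (h x).symm)).symm

theorem two_zpowers {t : G} (ht : orderOf t = 2) : IsPGroup 2 (zpowers t) :=
  IsPGroup.of_card (n := 1) (by rw [Nat.card_zpowers, ht, pow_one])

theorem mem_zpowers_of_cyclic {K : Subgroup G} (hK : IsCyclic K) {r : ℕ} (hr : r.Prime) {y w : G}
    (hy : y ∈ K) (hw : w ∈ K) (h1 : orderOf y = r) (h2 : w ^ r = 1) : w ∈ zpowers y := by
  by_cases e : w = 1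
  · exact e ▸ one_mem _
  have := Fact.mk hr
  rw [FG.H93.eq_of_card_eq_of_isCyclic (zpowers_le.2 hy) (zpowers_le.2 hw) (by
    rw [Nat.card_zpowers, Nat.card_zpowers, h1, orderOf_eq_prime h2 e])]
  exact mem_zpowers w

namespace CA

variable {p : ℕ} (h : CA G Ω a b p)
include h

theorem card_Y {c d : Ω} (hcd : c ≠ d) : Nat.card (YY G p c d) = Nat.card (YY G p a b) := by
  obtain ⟨g, rfl, rfl⟩ := h.bg.two.two h.bg.ne hcd
  exact card_eq_of_conj g fun _ => conj_mem_YY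

theorem pair {c d : Ω} (hcd : c ≠ d) : CA G Ω c d p :=
  ⟨h.bg.pair hcd, h.ih, h.hr, h.prime, fun e => h.ne_bot (by
    rwa [← card_eq_one, h.card_Y hcd, card_eq_one] at e)⟩

theorem ns : NS a (UU G p a) :=
  h.bg.ns_of_comm (inf_le_left.trans (PP_le p a))
    (fun g hg x hx => by simpa only [hg] using (conj_mem_UU (g := g)).2 hx)
    fun x hx y hy => hy.2 x hx.1

theorem U_ne : UU G p a ≠ ⊥ := fun e => by
  obtain ⟨z, h1, h2, h3⟩ := GT.CN.exists_central_pgroup h.prime (PP_p (G := G) p a)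
    fun k => h.ne_bot (le_bot_iff.1 (k ▸ inf_le_left))
  exact h2 (mem_bot.1 (e ▸ (⟨h1, fun x hx => (h3 x hx).eq⟩ : z ∈ UU G p a)))

theorem U_p : IsPGroup p (UU G p a) := (PP_p p a).to_le inf_le_left

theorem dvd_U : p ∣ Nat.card (UU G p a) := by
  have := Fact.mk h.prime
  obtain ⟨k, hk⟩ := h.U_p.exists_card_eq
  rcases k with _ | k
  · exact absurd (card_eq_one.1 hk) h.U_ne
  · exact hk ▸ dvd_pow_self p k.succ_ne_zero

theorem le_norm : st2 G a b ≤ normalizer (YY G p a b : Set G) := fun g hg =>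
  mem_normalizer_iff.2 fun x => by
    have := conj_mem_YY (p := p) (g := g) (x := x) (c := a) (d := b)
    rw [hg.1, hg.2] at this
    exact this.symm

theorem sw_cent {t : G} (ht : t ∈ Sw G a b) : t ∈ centralizer (YY G p a b : Set G) := by
  have := Fact.mk h.prime
  have k := h.pair h.bg.ne.symm
  have h1 : YY G p a b ≤ normalizer (YY G p b a : Set G) := fun x hx =>
    k.le_norm ⟨(YY_le p a b hx).2, (YY_le p a b hx).1⟩
  have hX : IsPGroup p ↥(YY G p a b ⊔ YY G p b a) :=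
    ((PP_p p a).to_le inf_le_left).to_sup_of_normal_right' ((PP_p p b).to_le inf_le_left) h1
  have hD : YY G p a b ⊔ YY G p b a ≤ st2 G a b :=
    sup_le (YY_le p a b) fun x hx => ⟨(YY_le p b a hx).2, (YY_le p b a hx).1⟩
  obtain ⟨g, hg, e⟩ := (h.bg.t1_of_pgroup h.ns h.prime h.dvd_U h.U_p.isNilpotent hX).tr a
    (fun x => (hD x.2).1) b fun x => (hD x.2).2
  have e1 : ∀ {c d : Ω}, t • c = d → t • d = c →
      (YY G p c d).map (MulAut.conj t).toMonoidHom = YY G p d c := fun {c d} h2 h3 => by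
    ext x
    have := conj_mem_YY (p := p) (g := t) (x := t⁻¹ * x * t) (c := c) (d := d)
    rw [h2, h3] at this
    rw [← show t * (t⁻¹ * x * t) * t⁻¹ = x by group, conj_mem_map, this]
  refine centralizer_le (SetLike.coe_subset_coe.2 le_sup_left) (h.bg.cent_of_two ?_
    (two_zpowers ht.1) hg (e.trans ht.2.symm))
  refine mem_normalizer_iff.2 fun x => ?_
  rw [← conj_mem_map (g := t), Subgroup.map_sup, e1 ht.2 (Sw.swap ht), e1 (Sw.swap ht) ht.2,
    sup_comm]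

theorem Y_symm : YY G p a b = YY G p b a := by
  obtain ⟨t, ht⟩ := h.bg.exists_sw
  refine eq_of_le_of_card_ge (fun x hx => ?_) (h.card_Y h.bg.ne.symm).le
  have := (conj_mem_YY (g := t)).2 hx
  rwa [ht.2, Sw.swap ht, ← h.sw_cent ht x hx, mul_inv_cancel_right] at this

theorem Y_eq {c d : Ω} (hcd : c ≠ d) (hc : c ∈ fixedPoints (YY G p a b) Ω)
    (hd : d ∈ fixedPoints (YY G p a b) Ω) : YY G p c d = YY G p a b := by
  refine (eq_of_le_of_card_ge (le_inf ?_ fun x hx => hd ⟨x, hx⟩) (h.card_Y hcd).le).symm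
  by_cases e : a = c
  · exact e ▸ inf_le_left
  · exact (le_inf inf_le_left fun x hx => hc ⟨x, hx⟩ : _ ≤ YY G p a c).trans
      ((h.pair e).Y_symm.le.trans inf_le_left)

theorem a_mem : a ∈ fixedPoints (YY G p a b) Ω := fun x => (YY_le p a b x.2).1

theorem b_mem : b ∈ fixedPoints (YY G p a b) Ω := fun x => x.2.2

theorem t2 : T2 (normalizer (YY G p a b : Set G)) (fixedPoints (YY G p a b) Ω) := by
  have := h.bg.two.t2_of_weak h.bg.ne (N := normalizer (YY G p a b : Set G)) (X := YY G p a b)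
    (fun g hg x hx => (mem_normalizer_iff''.1 hg x).1 hx) fun g hg => by
      have k : ∀ c : Ω, (∀ x ∈ YY G p a b, (g⁻¹ * x * g) • c = c) →
          g • c ∈ fixedPoints (YY G p a b) Ω := fun c hc x => by
        have := hc x x.2
        rwa [mul_smul, mul_smul, inv_smul_eq_iff] at this
      refine mem_normalizer_iff.2 fun x => ?_
      nth_rewrite 2 [← h.Y_eq ((MulAction.injective g).ne h.bg.ne) (k a fun x hx => (hg x hx).1)
        (k b fun x hx => (hg x hx).2)]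
      exact conj_mem_YY.symm
  convert this using 1
  ext c
  exact mem_fixedPoints_iff

theorem sw_norm {t : G} (ht : t ∈ Sw G a b) : t ∈ normalizer (YY G p a b : Set G) :=
  centralizer_le_normalizer _ (h.sw_cent ht)

theorem U_cent : UU G p a ≤ centralizer (YY G p a b : Set G) := fun _ hx y hy => hx.2 y hy.1

theorem ls : ∃ q, LS a b (normalizer (YY G p a b : Set G)) (fixedPoints (YY G p a b) Ω)
    (UU G p a) (KK G a b) p q := by
  obtain ⟨t, ht⟩ := h.bg.exists_sw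
  obtain ⟨y, hy, hp, e⟩ := h.bg.exists_inv h.hr ht
  obtain ⟨⟨k, hk⟩, hk1⟩ := (ne_bot_iff_exists_ne_one).1 h.ne_bot
  obtain ⟨K, r, q, l⟩ := h.bg.exists_ls h.ih h.t2 h.a_mem h.b_mem
    ⟨k, le_normalizer hk, fun e => hk1 (Subtype.ext e), fun c hc => hc ⟨k, hk⟩⟩
    (h.U_cent.trans (centralizer_le_normalizer _)) h.ns.le (fun g _ => h.ns.norm g)
    (fun x hx c _ => h.ns.semi x hx c) h.U_ne (h.sw_norm ht) ht (h.le_norm hy) hy
    (fun e => by rw [e, orderOf_one] at hp; exact Nat.not_prime_one hp) e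
  obtain rfl : K = KK G a b := le_antisymm (fun d hd =>
    let ⟨_, h2, h3⟩ := (l.memK t (h.sw_norm ht) ht d).1 hd
    subset_closure ⟨h2, t, ht, h3⟩) ((closure_le _).2 fun d ⟨h2, u, hu, h3⟩ =>
      (l.memK u (h.sw_norm hu) hu d).2 ⟨h.le_norm h2, h2, h3⟩)
  obtain ⟨n, hn⟩ := l.pow
  obtain rfl : p = r := (Nat.prime_dvd_prime_iff_eq h.prime l.prime).1
    (h.prime.dvd_of_dvd_pow (hn ▸ l.cardU ▸ h.dvd_U))
  exact ⟨q, l⟩

theorem mem_fix {c : Ω} : c ∈ fixedPoints (YY G p a b) Ω ↔ c = a ∨ ∃ u ∈ UU G p a, u • b = c := by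
  obtain ⟨q, l⟩ := h.ls
  refine ⟨fun hc => or_iff_not_imp_left.2 (l.reg c hc), ?_⟩
  rintro (rfl | ⟨u, hu, rfl⟩)
  · exact h.a_mem
  · exact h.t2.inv u (centralizer_le_normalizer _ (h.U_cent hu)) b h.b_mem

theorem K_inv {t y : G} (ht : t ∈ Sw G a b) (hy : y ∈ KK G a b) : t * y * t⁻¹ = y⁻¹ :=
  let ⟨_, l⟩ := h.ls
  ((l.memK t (h.sw_norm ht) ht y).1 hy).2.2

theorem K_cent {y z : G} (hy : y ∈ KK G a b) (hz : z ∈ BB G a b) : Commute y z := by
  obtain ⟨t, ht⟩ := h.bg.exists_sw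
  have := Commute.mul_left (hz.2 t ht) (hz.2 _ (h.bg.mul_sw ht (KK_le a b hy) (h.K_inv ht hy)))
  rwa [← mul_assoc, mul_self_two ht.1, one_mul] at this

theorem K_comm {x y : G} (hx : x ∈ KK G a b) (hy : y ∈ KK G a b) : Commute x y :=
  let ⟨_, l⟩ := h.ls
  haveI := l.cyc
  congrArg Subtype.val (mul_comm' (⟨x, hx⟩ : KK G a b) ⟨y, hy⟩)

theorem memB {z : G} : z ∈ BB G a b ↔ ∀ c ∈ fixedPoints (YY G p a b) Ω, z • c = c := by
  obtain ⟨q, l⟩ := h.ls
  have k : ∀ z : G, (∀ c ∈ fixedPoints (YY G p a b) Ω, z • c = c) → z ∈ BB G a b := fun z hz =>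
    have hD : z ∈ st2 G a b := ⟨hz a h.a_mem, hz b h.b_mem⟩
    ⟨hD, fun t ht => l.cent t (h.sw_norm ht) (two_zpowers ht.1) z (h.le_norm hD) hz⟩
  refine ⟨fun hz => ?_, k z⟩
  obtain ⟨y, hy, e⟩ := l.centK z (h.le_norm hz.1) hz.1 fun y hy => (h.K_cent hy hz).symm
  obtain ⟨t, ht⟩ := h.bg.exists_sw
  have h1 := k (y⁻¹ * z) fun c hc => by rw [mul_smul, e c hc, inv_smul_smul]
  have h2 : t * y⁻¹ = y⁻¹ * t := by simpa using (mul_mem h1 (inv_mem hz)).2 t ht
  have h3 := h.K_inv ht (inv_mem hy)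
  rw [h2, mul_inv_cancel_right, inv_inv] at h3
  intro c hc
  rw [e c hc, h.bg.eq_one_of_inv (KK_le a b hy).1 h3.symm, one_smul]

theorem memB' {z : G} : z ∈ BB G a b ↔ z ∈ st2 G a b ∧ z ∈ centralizer (UU G p a : Set G) := by
  refine ⟨fun hz => ⟨hz.1, fun u hu => ?_⟩, fun ⟨h1, h2⟩ => h.memB.2 fun c hc => ?_⟩
  · have h1 := h.ns.semi _ (mul_mem (inv_mem hu) (h.ns.norm z hz.1.1 u hu)) b h.bg.ne.symm (by
      rw [mul_smul, mul_smul, mul_smul, inv_smul_eq_iff.2 (show b = z • b from hz.1.2.symm),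
        h.memB.1 hz _ (h.mem_fix.2 (Or.inr ⟨u, hu, rfl⟩)), inv_smul_smul])
    rw [inv_mul_eq_one, eq_mul_inv_iff_mul_eq] at h1
    exact h1
  · rcases h.mem_fix.1 hc with rfl | ⟨u, hu, rfl⟩
    · exact h1.1
    · rw [← mul_smul, ← h2 u hu, mul_smul, show z • b = b from h1.2]

theorem K_norm {d y : G} (hd : d ∈ st2 G a b) (hy : y ∈ KK G a b) : d * y * d⁻¹ ∈ KK G a b := by
  have := (conj_mem_KK (g := d)).2 hy
  rwa [hd.1, hd.2] at this

theorem centK {d : G} (hd : d ∈ st2 G a b) (hc : ∀ y ∈ KK G a b, Commute d y) :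
    ∃ k ∈ KK G a b, ∃ z ∈ BB G a b, d = k * z := by
  obtain ⟨q, l⟩ := h.ls
  obtain ⟨y, hy, e⟩ := l.centK d (h.le_norm hd) hd hc
  exact ⟨y, hy, y⁻¹ * d, h.memB.2 fun c hc => by rw [mul_smul, e c hc, inv_smul_smul], by group⟩

theorem Y_le_B : YY G p a b ≤ BB G a b := fun x hx => h.memB.2 fun _ hc => hc ⟨x, hx⟩

theorem K_fpf {y x : G} (hy : y ∈ KK G a b) (h1 : y ≠ 1) (hx : x ∈ UU G p a) (hc : Commute x y) :
    x = 1 :=
  let ⟨_, ht⟩ := h.bg.exists_sw
  h.bg.eq_one_of_real h.ns (KK_le a b hy).1 h1 (h.K_inv ht hy) hx hc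

theorem cent_P {y x : G} (hy : y ∈ KK G a b) (h1 : y ≠ 1) (hx : x ∈ PP G p a) (hc : Commute x y) :
    x • b = b := by
  have := Fact.mk h.prime
  have h2 : YY G p a b ≤ PP G p a ⊓ centralizer {y} := fun z hz =>
    ⟨hz.1, mem_centralizer_singleton_iff.2 (h.K_cent hy (h.Y_le_B hz)).symm⟩
  by_contra hn
  obtain ⟨g, hg0, hg1⟩ := SetLike.exists_of_lt (GT.Tr.lt_inf_normalizer
    ((PP_p p a).to_le inf_le_left) (lt_of_le_of_ne h2 fun e => hn
      (show x ∈ YY G p a b from e ▸ ⟨hx, mem_centralizer_singleton_iff.2 hc⟩).2))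
  obtain ⟨hg, hg'⟩ := mem_inf.1 hg0
  rw [mem_inf] at hg
  rcases h.mem_fix.1 (h.t2.inv g hg' b h.b_mem) with e | ⟨u, hu, e⟩
  · exact h.bg.ne (MulAction.injective g ((PP_le p a hg.1).trans e.symm))
  have h3 : u⁻¹ * g ∈ YY G p a b := mem_inf.2 ⟨mul_mem (inv_mem (mem_inf.1 hu).1) hg.1, by
    rw [mem_stabilizer_iff, mul_smul, ← e, inv_smul_smul]⟩
  have h4 : u⁻¹ ∈ centralizer {y} := by simpa using mul_mem (mem_inf.1 (h2 h3)).2 (inv_mem hg.2)
  rw [h.K_fpf hy h1 (inv_mem hu) (mem_centralizer_singleton_iff.1 h4), one_mul] at h3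
  exact hg1 h3

theorem exists_K {y : G} (hy : y ∈ KK G a b) {c d : Ω} (hcd : c ≠ d) :
    ∃ w ∈ KK G c d, orderOf w = orderOf y := by
  obtain ⟨g, rfl, rfl⟩ := h.bg.two.two h.bg.ne hcd
  exact ⟨_, conj_mem_KK.2 hy, (MulAut.conj g).orderOf_eq y⟩

/-- An element of prime order of some `K` that fixes `a` and `b` centralizes `K = KK a b`. -/
theorem comm_K {x : G} {c d : Ω} (hcd : c ≠ d) (hx : x ∈ KK G c d) (hp : (orderOf x).Prime)
    (hD : x ∈ st2 G a b) : ∀ y ∈ KK G a b, Commute y x := by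
  have := Fact.mk h.prime
  obtain ⟨q, l⟩ := h.ls
  obtain ⟨t, ht⟩ := (h.pair hcd).bg.exists_sw
  obtain ⟨w, hw, e⟩ := (h.pair hcd).exists_K hx h.bg.ne
  have h1 : orderOf x ∣ Nat.card (KK G a b) := e ▸ (KK G a b).orderOf_dvd_natCard hw
  have h2 : Odd (Nat.card (KK G a b)) := h.bg.odd.of_dvd_nat (card_dvd_of_le (KK_le a b))
  have h3 : (Nat.card (UU G p a)).Coprime (Nat.card (KK G a b)) := by
    rw [l.cardU, l.cardK]; simp
  have hn : st2 G a b ≤ normalizer (UU G p a : Set G) := fun g hg => mem_normalizer_iff.2 fun u => by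
    have := conj_mem_UU (p := p) (g := g) (x := u) (c := a)
    rw [hg.1] at this
    exact this.symm
  refine hh_abelian hp rfl (h2.mul (h2.of_dvd_nat h1)) (fun _ hx _ hy => h.K_comm hx hy)
    (mem_normalizer_iff.2 fun u => ?_) ((KK_le a b).trans hn) (hn hD) ?_
    (h3.mul_right (h3.coprime_dvd_right h1)) (fun u hu hc => ?_) (eq_bot_iff.2 fun y hy => ?_)
  · have := conj_mem_KK (g := x) (x := u) (c := a) (d := b)
    rw [hD.1, hD.2] at this
    exact this.symm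
  · have := h.U_p.isNilpotent
    infer_instance
  · exact h.bg.eq_one_of_real h.ns hD.1 (fun e => by
      rw [e, orderOf_one] at hp; exact Nat.not_prime_one hp) ((h.pair hcd).K_inv ht hx) hu hc
  · by_contra h4
    exact h.U_ne (eq_bot_iff.2 fun u hu => h.K_fpf hy.1 h4 hu (hy.2 u hu))

theorem partner {x : G} (hx : x ∈ KK G a b) (hp : (orderOf x).Prime) {c : Ω} (hc : x • c = c) :
    ∃ c', c ≠ c' ∧ x ∈ KK G c c' := by
  obtain ⟨t, ht⟩ := h.bg.exists_sw
  have e := h.K_inv ht hx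
  have h1 := (h.bg.fpf ht.1 c).symm
  have k := h.pair h1
  have hD : x ∈ st2 G c (t • c) := ⟨hc, by
    have : x⁻¹ • t • c = t • c := by rw [← e, conj_smul_iff, hc]
    exact (inv_smul_eq_iff.1 this).symm⟩
  obtain ⟨y, hy, z, hz, rfl⟩ := k.centK hD fun y hy => (k.comm_K h.bg.ne hx hp hD y hy).symm
  have hs : t ∈ Sw G c (t • c) := ⟨ht.1, rfl⟩
  rw [← conj_mul, k.K_inv hs hy, hz.2 t hs, mul_inv_cancel_right, (k.K_cent hy hz).eq, mul_inv_rev,
    mul_right_inj] at e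
  exact ⟨_, h1, by rwa [k.bg.eq_one_of_inv hz.1.1 e, mul_one]⟩

theorem partner_uniq {x : G} (hx : x ∈ KK G a b) (h1 : x ≠ 1) {c : Ω} (hc : a ≠ c)
    (hx' : x ∈ KK G a c) : c = b := by
  obtain ⟨q, l⟩ := h.ls
  exact (l.fixK x hx h1 c (fun z => (h.pair hc).cent_P hx' h1 z.2.1
    (h.K_cent hx (h.Y_le_B z.2)).symm) (KK_le a c hx').2).resolve_left hc.symm

theorem fix_partner {x g : G} (hx : x ∈ KK G a b) (h1 : x ≠ 1) (hg : Commute g x) (ha : g • a = a) :
    g • b = b := by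
  have := (conj_mem_KK (g := g)).2 hx
  rw [hg.eq, mul_inv_cancel_right, ha] at this
  exact h.partner_uniq hx h1 (fun e => h.bg.ne (MulAction.injective g (ha.trans e))) this

theorem fixK {y : G} (hy : y ∈ KK G a b) (h1 : y ≠ 1) {c : Ω} (hc : y • c = c) : c = a ∨ c = b := by
  by_contra hn
  obtain ⟨ca, cb⟩ := not_or.1 hn
  obtain ⟨y0, hy0, hr⟩ := exists_prime_pow' (isOfFinOrder_of_finite y) h1
  have hK := zpowers_le.2 hy hy0
  replace hc := pow_smul_fix hc hy0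
  clear hy h1 hy0
  generalize hr' : orderOf y0 = r at hr
  let T : Subgroup G → Prop := fun X => (∃ s : Set G, s.Nonempty ∧ X = closure s ∧
    ∀ x ∈ s, orderOf x = r ∧ ∃ c d : Ω, c ≠ d ∧ x ∈ KK G c d) ∧ (∀ x ∈ X, ∀ y ∈ X, x * y = y * x) ∧
    ∃ c d e : Ω, c ≠ d ∧ d ≠ e ∧ e ≠ c ∧ X ≤ st2 G c d ∧ X ≤ stabilizer G e
  obtain ⟨X, ⟨⟨s, ⟨x0, hx0⟩, rfl, hs⟩, hcm, c, d, e, cd, de, ec, hD, he⟩, hmax⟩ :=
    Set.Finite.exists_maximal (s := {X | T X}) (Set.toFinite _) ⟨zpowers y0, ⟨{y0}, Set.singleton_nonempty _,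
      zpowers_eq_closure y0, by rintro _ rfl; exact ⟨hr', a, b, h.bg.ne, hK⟩⟩,
      fun x ⟨i, hi⟩ y ⟨j, hj⟩ => by rw [← hi, ← hj]; exact zpow_mul_comm y0 i j,
      a, b, c, h.bg.ne, Ne.symm cb, ca, zpowers_le.2 (KK_le a b hK), zpowers_le.2 hc⟩
  have hexp : ∀ x ∈ closure s, x ^ r = 1 := fun x hx => by
    induction hx using closure_induction with
    | mem x hx => rw [← (hs x hx).1, pow_orderOf_eq_one]
    | one => exact one_pow r
    | mul x y hx hy h1 h2 => rw [Commute.mul_pow (hcm x hx y hy), h1, h2, one_mul]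
    | inv x _ h1 => rw [inv_pow, h1, inv_one]
  have key : ∀ c d : Ω, c ≠ d → closure s ≤ st2 G c d → ∀ u ∈ Sw G c d, Refl r (closure s) u := by
    intro c d cd hD u hu
    have k := h.pair cd
    obtain ⟨q, l⟩ := k.ls
    obtain ⟨w, hw, e⟩ := h.exists_K hK cd
    rw [hr'] at e
    have h1 : closure s ≤ centralizer (KK G c d : Set G) := (closure_le _).2 fun x hx y hy => by
      obtain ⟨h2, c', d', h3, h4⟩ := hs x hx
      exact k.comm_K h3 h4 (h2 ▸ hr) (hD (subset_closure hx)) y hy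
    have h2 : w ∈ closure s := by
      obtain ⟨h2, c', d', h3, h4⟩ := hs x0 hx0
      obtain ⟨f, cf, hf⟩ := (h.pair h3).partner h4 (h2 ▸ hr) (hD (subset_closure hx0)).1
      have h5 : x0 ≠ 1 := fun e => by rw [e, orderOf_one] at h2; exact hr.one_lt.ne h2
      by_cases df : d = f
      · exact zpowers_le.2 (subset_closure hx0) (mem_zpowers_of_cyclic l.cyc hr (df ▸ hf) hw h2
          (e ▸ pow_orderOf_eq_one w))
      have h6 : ∀ x ∈ insert w s, ∀ y ∈ insert w s, Commute x y := by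
        rintro x (rfl | hx) y (rfl | hy)
        exacts [Commute.refl _, h1 (subset_closure hy) _ hw, (h1 (subset_closure hx) _ hw).symm,
          hcm x (subset_closure hx) y (subset_closure hy)]
      have h7 : closure (insert w s) ≤ st2 G c d :=
        (closure_le _).2 (Set.insert_subset (KK_le c d hw) (subset_closure.trans hD))
      refine hmax (y := closure (insert w s)) ⟨⟨_, Set.insert_nonempty _ _, rfl, ?_⟩,
        fun x hx y hy => ?_, c, d, f, cd, df, cf.symm, h7, (closure_le _).2 fun x hx => ?_⟩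
        (closure_mono (Set.subset_insert _ _)) (subset_closure (Set.mem_insert _ _))
      · rintro x (rfl | hx)
        exacts [⟨e, c, d, cd, hw⟩, hs x hx]
      · have := isMulCommutative_closure h6
        exact congrArg Subtype.val (mul_comm' (⟨x, hx⟩ : closure (insert w s)) ⟨y, hy⟩)
      · exact (h.pair cf).fix_partner hf h5 (h6 x hx x0 (Set.mem_insert_of_mem _ hx0))
          (h7 (subset_closure hx)).1
    refine ⟨w, h2, e, k.K_inv hu hw, fun x hx => ?_⟩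
    obtain ⟨y, hy, z, hz, rfl⟩ := k.centK (hD hx) fun y hy => (h1 hx y hy).symm
    have h3 := hexp _ hx
    have h4 := k.K_cent hy hz
    have h5 : u * (y * z) * u⁻¹ = y⁻¹ * z := by
      rw [← conj_mul, k.K_inv hu hy, hz.2 u hu, mul_inv_cancel_right]
    have h6 : (y⁻¹ * z) ^ r = 1 := by rw [← h5, conj_pow, h3, mul_one, mul_inv_cancel]
    refine mem_zpowers_of_cyclic l.cyc hr hw ?_ e ?_ <;> rw [h5]
    · simpa [mul_assoc] using mul_mem (inv_mem hy) (inv_mem hy)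
    · rw [Commute.mul_pow, h6, inv_pow, h3, inv_one, mul_one]
      exact (((Commute.refl y).inv_left.mul_right h4.inv_left).mul_left
        (h4.symm.mul_right (Commute.refl z))).inv_right
  obtain ⟨u, hu⟩ := (h.pair cd).bg.exists_sw
  obtain ⟨v, hv⟩ := (h.pair de).bg.exists_sw
  obtain ⟨w, hw⟩ := (h.pair ec).bg.exists_sw
  refine refl_three hr (fun e => ?_) hcm hexp (key e c ec (le_inf he (hD.trans inf_le_left)) w hw)
    (key d e de (le_inf (hD.trans inf_le_right) he) v hv) (key c d cd hD u hu)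
    (h.bg.odd_fix (c := c) (by rw [mul_smul, mul_smul, hu.2, hv.2, hw.2]))
  exact h.bg.fpf (hr'.trans e) a (KK_le a b hK).1

end CA

end Cfsg.Agent.TT
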