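import Mathlib
import Cfsg.Agent.Loc.MssSyl
import Cfsg.Agent.GT.Fitting
import Cfsg.Agent.GT.CoprimeSylow

/-!
# A normal section meeting a coprime subgroup
-/

set_option autoImplicit false

namespace Cfsg.Agent.TT.OneB

open Subgroup Cfsg.Agent.Loc.Mss
open scoped commutatorElement Pointwise

variable {G : Type*} [Group G] [Finite G]

theorem eq_one_of_two {x : G} {m n : ℕ} (h : m.Coprime n) (h1 : x ^ m = 1) (h2 : x ^ n = 1) :
    x = 1 := by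
  rw [← orderOf_eq_one_iff, ← Nat.dvd_one, ← h]
  exact Nat.dvd_gcd (orderOf_dvd_of_pow_eq_one h1) (orderOf_dvd_of_pow_eq_one h2)

/-- An element of an `s`-group and of a group of order prime to `s` is trivial. -/
theorem eq_one_of_pg {s : ℕ} (hs : s.Prime) {Q K : Subgroup G} (hQ : IsPGroup s Q)
    (hK : ¬ s ∣ Nat.card K) {x : G} (h1 : x ∈ Q) (h2 : x ∈ K) : x = 1 := by
  obtain ⟨k, hk⟩ := pg_iff.1 hQ x h1
  exact eq_one_of_two (((Nat.Prime.coprime_iff_not_dvd hs).2 hK).pow_left k) hk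
    (orderOf_dvd_iff_pow_eq_one.1 (orderOf_dvd_natCard K h2))

theorem eq_one_of_pg2 {s r : ℕ} (hs : s.Prime) (hr : r.Prime) (hsr : s ≠ r) {Q R : Subgroup G}
    (hQ : IsPGroup s Q) (hR : IsPGroup r R) {x : G} (h1 : x ∈ Q) (h2 : x ∈ R) : x = 1 := by
  obtain ⟨k, hk⟩ := pg_iff.1 hQ x h1
  obtain ⟨l, hl⟩ := pg_iff.1 hR x h2
  exact eq_one_of_two ((((Nat.coprime_primes hs hr).2 hsr).pow_left k).pow_right l) hk hl

/-- The normalizer condition. -/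
theorem le_of_norm {s : ℕ} (hs : s.Prime) {R D : Subgroup G} (hR : IsPGroup s R)
    (h : ∀ g ∈ R, g ∈ 𝐍[R ⊓ D] → g ∈ D) : R ≤ D := by
  have := Fact.mk hs
  have h1 : Syl s (R ⊓ D) R := Syl.of_norm (hR.to_le inf_le_left) inf_le_left
    fun P _ _ h2 h3 g hg => ⟨h2 hg, h g (h2 hg) (h3 hg)⟩
  exact (h1.ge_of_le hR inf_le_left le_rfl).trans inf_le_right

/-- A Sylow subgroup invariant under a coprime group of operators. -/
theorem exists_inv_syl {s p : ℕ} (hs : s.Prime) (hp : p.Prime) {N P K : Subgroup G}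
    (hP : IsPGroup p P) (hPN : P ≤ N) (hNP : N ≤ 𝐍[P]) (hr : pResidualOf s N ≤ P)
    (hKN : K ≤ 𝐍[N]) (hKP : K ≤ 𝐍[P]) (hK : ¬ p ∣ Nat.card K) :
    ∃ Q, Syl s Q N ∧ K ≤ 𝐍[Q] := by
  have := Fact.mk hs
  have := Fact.mk hp
  obtain ⟨Q, hQ⟩ := Syl.exists s N
  obtain ⟨n, hn⟩ := IsPGroup.iff_card.1 hP
  have hsol : Group.IsSolvable P := by have := hP.isNilpotent; infer_instance
  obtain ⟨k, hk, h⟩ := GT.CopAct.exists_invariant_conj (P := Q) hKP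
    (by rw [hn]; exact ((Nat.Prime.coprime_iff_not_dvd hp).2 hK).symm.pow_right n) (Or.inr hsol)
    fun a ha => by
      obtain ⟨g, hg, e⟩ := hQ.conj_eq (hQ.cj_norm (hKN ha))
      obtain ⟨u, hu, w, hw, rfl⟩ := (mem_sup_norm (hQ.le.trans hNP)).1 (hQ.sup_of_res_le hr hg)
      refine ⟨u, hu, ?_⟩
      change cj(a, Q) = cj(u, Q)
      rw [← e, ← cj_cj, cj_of_mem hw]
  exact ⟨cj(k, Q), hQ.cj_mem (hPN hk), h⟩

theorem exists_ns {H K D : Subgroup G} {p : ℕ} (hp : p.Prime) [Group.IsSolvable H] (hK : K ≤ H)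
    (hpK : ¬ p ∣ Nat.card K) (hK1 : K ≠ ⊥) (hD : D ≤ 𝐍[K])
    (hb : ∀ s : ℕ, s.Prime → s ≠ p → ∀ Q ≤ H, IsPGroup s Q → K ≤ 𝐍[Q] → Q ≤ D) :
    ∃ (s : ℕ) (N : Subgroup G), s.Prime ∧ s ≠ p ∧ N ≤ H ∧ H ≤ 𝐍[N] ∧
      pResidualOf s N ≤ pCoreOf p H ∧ ∃ y ∈ K, y ∈ N ∧ orderOf y = s := by
  haveI := GT.pCore_characteristic (G := H) (p := p)
  set π := QuotientGroup.mk' (pCore p H) with hπ
  set N : ℕ → Subgroup G := fun s => ((pCore s (H ⧸ pCore p H)).comap π).map H.subtype with hN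
  have mem : ∀ s (x : H), (x : G) ∈ N s ↔ π x ∈ pCore s (H ⧸ pCore p H) := fun s x =>
    ⟨fun ⟨y, hy, e⟩ => by rwa [← show y = x from Subtype.ext e], fun h => ⟨x, h, rfl⟩⟩
  have memP : ∀ x : H, (x : G) ∈ pCoreOf p H ↔ π x = 1 := fun x => by
    rw [hπ, QuotientGroup.mk'_apply, QuotientGroup.eq_one_iff]
    exact ⟨fun ⟨y, hy, e⟩ => by rwa [← show y = x from Subtype.ext e], fun h => ⟨x, h, rfl⟩⟩
  have le : ∀ s, N s ≤ H := fun s => map_subtype_le _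
  have nm : ∀ s, H ≤ 𝐍[N s] := fun s => norm_of_forall_cj_le fun g hg => cj_le_iff.2 fun x hx => by
    haveI := GT.pCore_characteristic (G := H ⧸ pCore p H) (p := s)
    have := (mem s ⟨x, le s hx⟩).1 hx
    refine (mem s (⟨g, hg⟩ * ⟨x, le s hx⟩ * ⟨g, hg⟩⁻¹)).2 ?_
    rw [map_mul, map_mul, map_inv]
    exact Normal.conj_mem inferInstance _ this _
  have pw : ∀ s, ∀ x ∈ N s, ∃ k, x ^ s ^ k ∈ pCoreOf p H := fun s x hx => by
    obtain ⟨k, hk⟩ := pg_iff.1 (GT.isPGroup_pCore (G := H ⧸ pCore p H) s) _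
      ((mem s ⟨x, le s hx⟩).1 hx)
    exact ⟨k, (memP (⟨x, le s hx⟩ ^ s ^ k)).2 (by rw [map_pow, hk])⟩
  have PN : ∀ s, pCoreOf p H ≤ N s := fun s x hx =>
    (mem s ⟨x, GT.pCoreOf_le H hx⟩).2 (by rw [(memP ⟨x, _⟩).1 hx]; exact one_mem _)
  by_contra hc
  have hKN : ∀ s : ℕ, s.Prime → s ≠ p → ∀ y ∈ K, y ∈ N s → y = 1 := fun s hs hsp y hy hyN => by
    by_contra h1
    obtain ⟨r, hr, hd⟩ := Nat.exists_prime_and_dvd (mt orderOf_eq_one_iff.1 h1)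
    have ho := orderOf_pow_orderOf_div (orderOf_pos y).ne' hd
    set z := y ^ (orderOf y / r)
    have hzK : z ∈ K := pow_mem hy _
    have hzN : z ∈ N s := pow_mem hyN _
    by_cases e : r = s
    · exact hc ⟨s, N s, hs, hsp, le s, nm s, res_le_of_pow (pw s), z, hzK, hzN, e ▸ ho⟩
    · obtain ⟨k, hk⟩ := pw s z hzN
      have h2 := eq_one_of_pg hp (pg_core H) hpK hk (pow_mem hzK _)
      have h3 := eq_one_of_two (((Nat.coprime_primes hr hs).2 e).pow_right k)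
        (ho ▸ pow_orderOf_eq_one z) h2
      rw [h3, orderOf_one] at ho
      exact hr.one_lt.ne ho
  obtain ⟨y, hy, hyo⟩ : ∃ y ∈ K, (orderOf y).Prime := by
    obtain ⟨r, hr, hd⟩ := Nat.exists_prime_and_dvd (mt card_eq_one.1 hK1)
    have := Fact.mk hr
    obtain ⟨y, hy⟩ := exists_prime_orderOf_dvd_card' r hd
    exact ⟨y, y.2, by rw [orderOf_coe, hy]; exact hr⟩
  have hyp : orderOf y ≠ p := fun e => hpK (e ▸ orderOf_dvd_natCard K hy)
  have hC : π ⟨y, hK hy⟩ ∈ 𝐂[fittingSubgroup (H ⧸ pCore p H)] := by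
    refine cent_comm (GT.fitting_le_iff.2 fun s hs => ?_) (mem_zpowers _)
    by_cases e : s = p
    · rw [e, GT.pCore_quotient_pCore]; exact bot_le
    have := Fact.mk hs
    obtain ⟨Q, hQ, hKQ⟩ := exists_inv_syl hs hp (pg_core H) (PN s) ((le s).trans (le_norm_core H))
      (res_le_of_pow (pw s)) (hK.trans (nm s)) (hK.trans (le_norm_core H)) hpK
    have hQD := hb s hs e Q (hQ.le.trans (le s)) hQ.pg hKQ
    intro x hx
    obtain ⟨x, rfl⟩ := QuotientGroup.mk'_surjective _ x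
    obtain ⟨u, hu, w, hw, e'⟩ := (mem_sup_norm ((hQ.le.trans (le s)).trans (le_norm_core H))).1
      (hQ.sup_of_res_le (res_le_of_pow (pw s)) ((mem s x).2 hx))
    have hwH := le s (hQ.le hw)
    have hx' : x = ⟨u, GT.pCoreOf_le H hu⟩ * ⟨w, hwH⟩ := Subtype.ext e'.symm
    have hcm : y * w * y⁻¹ * w⁻¹ = 1 := hKN s hs e _
      (by rw [mul_assoc, mul_assoc, ← mul_assoc w]
          exact mul_mem hy (conj_mem_of_norm (hD (hQD hw)) (inv_mem hy)))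
      (hQ.le (mul_mem (conj_mem_of_norm (hKQ hy) hw) (inv_mem hw)))
    have hcm' : (⟨y, hK hy⟩ : H) * ⟨w, hwH⟩ = ⟨w, hwH⟩ * ⟨y, hK hy⟩ := Subtype.ext (by
      change y * w = w * y
      rw [mul_inv_eq_one, mul_inv_eq_iff_eq_mul] at hcm; exact hcm)
    rw [zpowers_eq_closure, centralizer_closure, mem_centralizer_singleton_iff, ← hπ, hx', map_mul,
      (memP ⟨u, _⟩).1 hu, one_mul, ← map_mul, ← map_mul, hcm']
  have hF := GT.centralizer_fitting_le hC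
  have hpg : IsPGroup (orderOf y) (zpowers (π ⟨y, hK hy⟩)) := pg_iff.2 fun x hx => ⟨1, by
    obtain ⟨i, rfl⟩ := hx
    have : (π ⟨y, hK hy⟩) ^ orderOf y = 1 := by
      rw [← map_pow, show (⟨y, hK hy⟩ : H) ^ orderOf y = 1 from Subtype.ext (pow_orderOf_eq_one y),
        map_one]
    rw [pow_one, ← zpow_natCast, ← zpow_mul, mul_comm, zpow_mul, zpow_natCast, this, one_zpow]⟩
  have := GT.le_pCore_of_le_fitting hpg ((zpowers_le).2 hF) (mem_zpowers _)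
  have h1 := hKN _ hyo hyp y hy ((mem _ ⟨y, hK hy⟩).2 this)
  rw [h1, orderOf_one] at hyo
  exact Nat.not_prime_one hyo

end Cfsg.Agent.TT.OneB
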