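import Mathlib
import Cfsg.Agent.TT.BGOne
import Cfsg.Agent.TT.BGFin
import Cfsg.Agent.TT.BGOneBA
import Cfsg.Agent.TT.B68CA
import Cfsg.Agent.Perm.Witt

/-!
# Doubly transitive groups whose involutions fix no point: the end of Case I
-/

set_option autoImplicit false

namespace Cfsg.Agent.TT

open Subgroup MulAction Cfsg.Agent.Perm Cfsg.Agent.Perm.TT Cfsg.Agent.Perm.TwoCount
open Cfsg.Agent.Loc.Mss Cfsg.Agent.TT.OneB
open scoped commutatorElement

universe u v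

variable {G : Type u} {Ω : Type v} [Group G] [Finite G] [MulAction G Ω] [Finite Ω] {a b : Ω}

omit [Finite G] [Finite Ω] in
theorem OneB.smul_fix {A : Subgroup G} {g : G} (hg : g ∈ 𝐍[A]) {c : Ω}
    (hc : c ∈ fixedPoints A Ω) : g • c ∈ fixedPoints A Ω := fun x => by
  have : (g⁻¹ * (x : G) * g) • c = c := hc ⟨_, conj_mem_of_norm' hg x.2⟩
  rw [mul_smul, mul_smul, inv_smul_eq_iff] at this
  exact this

omit [Finite G] [Finite Ω] in
theorem OneB.BB_comm (c d : Ω) : BB G c d = BB G d c := by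
  unfold BB; rw [Sw_comm c d]; exact congrArg (· ⊓ _) (inf_comm _ _)

omit [Finite G] [Finite Ω] in
theorem OneB.U_le (p : ℕ) (c : Ω) : UU G p c ≤ stabilizer G c :=
  inf_le_left.trans (GT.pCoreOf_le _)

omit [Finite G] [Finite Ω] in
theorem OneB.U_norm (p : ℕ) {c : Ω} {g x : G} (hg : g • c = c) (hx : x ∈ UU G p c) :
    g * x * g⁻¹ ∈ UU G p c := by
  have := (conj_mem_UU (g := g)).2 hx
  rwa [hg] at this

omit [Finite G] [Finite Ω] in
theorem OneB.fix_b {g y : G} (hg : g • a = a) (hc : Commute g y) (hy : y • b = b) (hab : a ≠ b)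
    (hf : ∀ c : Ω, y • c = c → c = a ∨ c = b) : g • b = b :=
  (hf _ (smul_fix_of_commute hc hy)).resolve_left fun e =>
    hab (smul_left_cancel g (hg.trans e.symm))

namespace CA

variable {p : ℕ} (h : CA G Ω a b p)
include h

theorem ob_num : 3 ≤ Nat.card (KK G a b) ∧ ¬ p ∣ Nat.card (KK G a b) ∧ 3 ≤ p ∧
    ∃ e, p ^ e = 2 * Nat.card (KK G a b) + 1 ∧ Nat.card (UU G p a) = p ^ e := by
  obtain ⟨q, hL⟩ := h.ls
  obtain ⟨e, he⟩ := hL.pow
  have h3 := hL.three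
  have hq := hL.cardK
  have hp : p ∣ q := by
    rw [he]; exact dvd_pow_self p (by rintro rfl; rw [pow_zero] at he; omega)
  have h2 := h.prime.two_le
  refine ⟨h3, fun hd => h.prime.one_lt.ne' (Nat.dvd_one.1 ?_), ?_, e, by omega, he ▸ hL.cardU⟩
  · exact (Nat.dvd_add_right (hd.mul_left 2)).1 (hq ▸ hp)
  · rcases h2.eq_or_lt with e2 | e2
    · rw [← e2] at hp; omega
    · exact e2

theorem ob_Kne : KK G a b ≠ ⊥ := fun e => by
  have := h.ob_num.1
  rw [e, card_bot] at this; omega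

theorem ob_y : ∃ y ∈ KK G a b, (orderOf y).Prime := by
  obtain ⟨⟨x, hx⟩, h1⟩ := ne_bot_iff_exists_ne_one.1 h.ob_Kne
  obtain ⟨z, hz, hp⟩ := exists_prime_pow' (isOfFinOrder_of_finite x)
    fun e => h1 (Subtype.ext e)
  exact ⟨z, zpowers_le.2 hx hz, hp⟩

theorem ob_KB {k : G} (hk : k ∈ KK G a b) (hB : k ∈ BB G a b) : k = 1 := by
  obtain ⟨t, ht⟩ := h.bg.exists_sw
  refine h.bg.eq_one_of_inv (KK_le a b hk).1 ?_
  rw [← h.K_inv ht hk, hB.2 t ht, mul_inv_cancel_right]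

theorem ob_YB : YY G p a b ≤ BB G a b := fun y hy => h.memB.2 fun _ hc => hc ⟨y, hy⟩

theorem ob_DK : st2 G a b ≤ 𝐍[KK G a b] :=
  norm_of_forall_cj_le fun _ hg => cj_le_iff.2 fun _ hx => h.K_norm hg hx

theorem ob_BB {z : G} (hz : z ∈ BB G a b) {c d : Ω} (hcd : c ≠ d) (hc : z • c = c)
    (hd : z • d = d) : z ∈ BB G c d := by
  have ha := h.memB'.1 hz
  have key : z ∈ 𝐂[UU G p c] := by
    by_cases e : a = c
    · exact e ▸ ha.2
    · have h1 : z ∈ BB G a c := (h.pair e).memB'.2 ⟨⟨ha.1.1, hc⟩, ha.2⟩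
      rw [BB_comm] at h1
      exact ((h.pair (Ne.symm e)).memB'.1 h1).2
  exact (h.pair hcd).memB'.2 ⟨⟨hc, hd⟩, key⟩

theorem ob_t2 {z : G} (hz : z ∈ BB G a b) : T2 (centralizer ({z} : Set G)) (fixedBy Ω z) := by
  have inv : ∀ g ∈ centralizer ({z} : Set G), ∀ c ∈ fixedBy Ω z, g • c ∈ fixedBy Ω z :=
    fun g hg c hc => smul_fix_of_commute (mem_centralizer_singleton_iff.1 hg) hc
  obtain ⟨y, hy, hp⟩ := h.ob_y
  refine T2.of_base (a := a) (b := b) inv fun c hc d hd hcd => ?_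
  obtain ⟨g, hg, rfl⟩ : ∃ g ∈ centralizer ({z} : Set G), g • a = c := by
    by_cases e : a = c
    · exact ⟨1, one_mem _, by rw [one_smul, e]⟩
    · obtain ⟨t, ht⟩ := (h.bg.pair e).exists_sw
      exact ⟨t, mem_centralizer_singleton_iff.2 ((h.ob_BB hz e hz.1.1 hc).2 t ht), ht.2⟩
  obtain ⟨k, hk, e⟩ := gleason_trans hp (centralizer ({z} : Set G) ⊓ stabilizer G (g • a))
    (fixedBy Ω z \ {g • a}) (fun k hk x hx => ⟨inv k hk.1 x hx.1, fun e => hx.2
      (smul_left_cancel k ((show k • x = g • a from e).trans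
        (show k • g • a = g • a from hk.2).symm))⟩) (fun x hx => by
      have hne : g • a ≠ x := Ne.symm hx.2
      obtain ⟨m, h1, h2⟩ := h.bg.two.two h.bg.ne hne
      have hm : m * y * m⁻¹ ∈ KK G (g • a) x := by rw [← h1, ← h2]; exact conj_mem_KK.2 hy
      have ho : orderOf (m * y * m⁻¹) = orderOf y := (MulAut.conj m).orderOf_eq y
      have := Fact.mk hp
      refine ⟨zpowers (m * y * m⁻¹), zpowers_le.2 ⟨mem_centralizer_singleton_iff.2
        ((h.pair hne).K_cent hm (h.ob_BB hz hne hc hx.1)), (KK_le _ _ hm).1⟩,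
        IsPGroup.of_card (n := 1) (by rw [Nat.card_zpowers, ho, pow_one]),
        fun w hw => pow_smul_fix (KK_le _ _ hm).2 hw, fun w hw hf => ?_⟩
      refine ((h.pair hne).fixK hm (fun e => ?_) (hf _ (mem_zpowers _))).resolve_left hw.2
      rw [e, orderOf_one] at ho
      exact hp.one_lt.ne ho) (g • b)
    ⟨inv g hg b hz.1.2, fun e => h.bg.ne (smul_left_cancel g e).symm⟩ d ⟨hd, Ne.symm hcd⟩
  exact ⟨k * g, mul_mem hk.1 hg, by rw [mul_smul]; exact hk.2, by rw [mul_smul, e]⟩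

theorem fixB {z : G} (hz : z ∈ BB G a b) (h1 : z ≠ 1) :
    fixedBy Ω z = fixedPoints (YY G p a b) Ω := by
  refine Set.Subset.antisymm (fun c hc => ?_) fun c hc => h.memB.1 hz c hc
  obtain ⟨t, ht⟩ := h.bg.exists_sw
  obtain ⟨y, hy, hp⟩ := h.ob_y
  obtain ⟨K, r, q, hL⟩ := h.bg.exists_ls h.ih (U := UU G p a) (h.ob_t2 hz) hz.1.1 hz.1.2
    ⟨z, mem_centralizer_singleton_iff.2 rfl, h1, fun _ hc => hc⟩
    (fun u hu => mem_centralizer_singleton_iff.2 ((h.memB'.1 hz).2 u hu)) (U_le p a)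
    (fun g _ hg x hx => U_norm p hg hx) (fun x hx c _ hc e => h.ns.semi x hx c hc e) h.U_ne
    (mem_centralizer_singleton_iff.2 (hz.2 t ht)) ht
    (mem_centralizer_singleton_iff.2 (h.K_cent hy hz)) (KK_le a b hy)
    (by rintro rfl; rw [orderOf_one] at hp; exact Nat.not_prime_one hp) (h.K_inv ht hy)
  by_cases e : c = a
  · exact h.mem_fix.2 (Or.inl e)
  · exact h.mem_fix.2 (Or.inr (hL.reg c hc e))

/-- An element of `G_a` preserving `ℓ` moves `b` as an element of `U`. -/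
theorem ob_move {g : G} (hg : g • a = a) (hb : g • b ∈ fixedPoints (YY G p a b) Ω) :
    ∃ u ∈ UU G p a, u • b = g • b :=
  (h.mem_fix.1 hb).resolve_left fun e => h.bg.ne (smul_left_cancel g (hg.trans e.symm))

theorem ob_core {s : ℕ} (hs : s.Prime) (hsp : s ≠ p) : PP G s a = ⊥ := by
  by_contra h0
  have := Fact.mk hs
  have hpg : ∀ r, IsPGroup r (PP G r a) := fun r => pg_core _
  have hn : ∀ r, stabilizer G a ≤ 𝐍[PP G r a] := fun r => le_norm_core _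
  have hle : ∀ r, PP G r a ≤ stabilizer G a := fun r => GT.pCoreOf_le _
  have hc : PP G s a ≤ 𝐂[PP G p a] := comm_eq_bot_iff.1 (eq_bot_iff.2 fun x hx =>
    eq_one_of_pg2 hs h.prime hsp (hpg s) (hpg p) (comm_le_left ((hle p).trans (hn s)) hx)
      (comm_le_right ((hle s).trans (hn p)) hx))
  have hNS : NS a (UU G s a) := h.bg.ns_of_comm (U_le s a) (fun g hg x hx => U_norm s hg hx)
    fun x hx y hy => hy.2 x hx.1
  have : Nontrivial (PP G s a) := (nontrivial_iff_ne_bot _).2 h0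
  obtain ⟨⟨x, hx⟩, h1⟩ := ne_bot_iff_exists_ne_one.1
    ((nontrivial_iff_ne_bot _).1 (hpg s).center_nontrivial)
  have hxU : (x : G) ∈ UU G s a :=
    ⟨x.2, fun y hy => congrArg Subtype.val (mem_center_iff.1 hx ⟨y, hy⟩)⟩
  have hxa : (x : G) • a = a := hle s x.2
  obtain ⟨u, hu, e⟩ := h.ob_move hxa
    (smul_fix (cent_le_norm _ (cent_anti inf_le_left (hc x.2))) (c := b) fun y => y.2.2)
  have hcm : Commute u⁻¹ (x : G) := hc x.2 _ (inv_mem hu.1)
  obtain ⟨k, hk⟩ := pg_iff.1 (hpg s) x x.2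
  have h2 : (u⁻¹ * x) • b = b := by rw [mul_smul, ← e, inv_smul_smul]
  have h3 := pow_smul_fix h2 (npow_mem_zpowers _ (s ^ k))
  rw [hcm.mul_pow, hk, mul_one] at h3
  have h4 := h.ns.semi _ (pow_mem (inv_mem hu) _) b h.bg.ne.symm h3
  obtain ⟨l, hl⟩ := pg_iff.1 (hpg p) _ (inv_mem hu.1)
  have h5 := eq_one_of_two ((((Nat.coprime_primes hs h.prime).2 hsp).pow_left k).pow_right l) h4 hl
  rw [h5, one_mul] at h2
  exact h1 (Subtype.ext (Subtype.ext (hNS.semi _ hxU b h.bg.ne.symm h2)))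

theorem ob_cent {g : G} (hg : g • a = a) (hc : g ∈ 𝐂[PP G p a]) : g ∈ PP G p a := by
  have := h.bg.solv a
  have hF : fittingOf (stabilizer G a) ≤ PP G p a := by
    rw [GT.fittingOf_eq_iSup_pCoreOf]
    refine iSup_le fun s => ?_
    by_cases e : (s : ℕ) = p
    · rw [e]; exact le_rfl
    · exact (h.ob_core s.2 e).le.trans bot_le
  exact hF (GT.inf_centralizer_fittingOf_le _ ⟨hg, cent_anti hF hc⟩)

/-- A group of prime power order containing a nontrivial element of `K` lies in `D`. -/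
theorem ob_le {s : ℕ} (hs : s.Prime) {R : Subgroup G} (hR : IsPGroup s R)
    (ha : R ≤ stabilizer G a) {y : G} (hy : y ∈ KK G a b) (h1 : y ≠ 1) (hyR : y ∈ R) :
    R ≤ st2 G a b :=
  le_of_norm hs hR fun g hg hn => ⟨ha hg, (h.fixK hy h1
    (smul_fix hn (c := b) (fun w => w.2.2.2) ⟨y, hyR, KK_le a b hy⟩)).resolve_left fun e =>
      h.bg.ne (smul_left_cancel g ((show g • a = a from ha hg).trans e.symm))⟩

theorem ob_QB {s : ℕ} (hs : s.Prime) (hsK : ¬ s ∣ Nat.card (KK G a b)) {Q : Subgroup G}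
    (hQ : IsPGroup s Q) (hK : KK G a b ≤ 𝐍[Q]) {d : G} (hd : d ∈ Q) (hD : d ∈ st2 G a b) :
    d ∈ BB G a b := by
  obtain ⟨k, hk, z, hz, rfl⟩ := h.centK hD fun y hy => by
    have : d * y * d⁻¹ * y⁻¹ = 1 := eq_one_of_pg hs hQ hsK
      (by rw [mul_assoc, mul_assoc, ← mul_assoc y]
          exact mul_mem hd (conj_mem_of_norm (hK hy) (inv_mem hd)))
      (mul_mem (h.K_norm hD hy) (inv_mem hy))
    rw [mul_inv_eq_one, mul_inv_eq_iff_eq_mul] at this
    exact this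
  obtain ⟨n, hn⟩ := pg_iff.1 hQ _ hd
  rw [(h.K_cent hk hz).mul_pow, mul_eq_one_iff_eq_inv] at hn
  have h1 := h.ob_KB (pow_mem hk (s ^ n)) (hn ▸ inv_mem (pow_mem hz _))
  have h2 := eq_one_of_two (((Nat.Prime.coprime_iff_not_dvd hs).2 hsK).pow_left n) h1
    (orderOf_dvd_iff_pow_eq_one.1 (orderOf_dvd_natCard _ hk))
  rw [h2, one_mul]; exact hz

theorem ob_b2 {s : ℕ} (hs : s.Prime) (hsp : s ≠ p) (hsK : ¬ s ∣ Nat.card (KK G a b))
    {Q : Subgroup G} (hQ : IsPGroup s Q) (ha : Q ≤ stabilizer G a) (hK : KK G a b ≤ 𝐍[Q])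
    (h0 : Q ⊓ st2 G a b ≠ ⊥) : Q ≤ st2 G a b := by
  refine le_of_norm hs hQ fun g hg hn => ⟨ha hg, ?_⟩
  obtain ⟨⟨z, hz⟩, h1⟩ := ne_bot_iff_exists_ne_one.1 h0
  have hga : g • a = a := ha hg
  obtain ⟨u, hu, e⟩ := h.ob_move hga (by
    rw [← h.fixB (h.ob_QB hs hsK hQ hK hz.1 hz.2) fun e => h1 (Subtype.ext e)]
    exact smul_fix hn (c := b) (fun w => w.2.2.2) ⟨z, hz⟩)
  have hd : u⁻¹ * g ∈ st2 G a b := mem_inf.2 ⟨mul_mem (inv_mem (U_le p a hu)) hga, by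
    change (u⁻¹ * g) • b = b
    rw [mul_smul, ← e, inv_smul_smul]⟩
  obtain ⟨y, hy, hp⟩ := h.ob_y
  have hy1 : y ≠ 1 := by rintro rfl; rw [orderOf_one] at hp; exact Nat.not_prime_one hp
  have hKU : KK G a b ≤ 𝐍[UU G p a] :=
    norm_of_forall_cj_le fun k hk => cj_le_iff.2 fun x hx => U_norm p (KK_le a b hk).1 hx
  obtain ⟨-, -, -, n, -, hn⟩ := h.ob_num
  have : g * y * g⁻¹ * y⁻¹ = 1 := eq_one_of_pg hs hQ (K := UU G p a ⊔ KK G a b) (fun hd => by
      rcases (Nat.Prime.dvd_mul hs).1 (hd.trans (FT.card_sup_dvd hKU)) with h2 | h2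
      · exact hsp ((Nat.prime_dvd_prime_iff_eq hs h.prime).1 (hs.dvd_of_dvd_pow (hn ▸ h2)))
      · exact hsK h2)
    (by rw [mul_assoc, mul_assoc, ← mul_assoc y]
        exact mul_mem hg (conj_mem_of_norm (hK hy) (inv_mem hg)))
    (by have h2 := h.K_norm hd hy
        have h3 : g * y * g⁻¹ * y⁻¹ = u * (u⁻¹ * g * y * (u⁻¹ * g)⁻¹) * u⁻¹ * y⁻¹ := by group
        rw [h3]
        exact mul_mem (mul_mem (mul_mem (mem_sup_left hu) (mem_sup_right h2))
          (inv_mem (mem_sup_left hu))) (inv_mem (mem_sup_right hy)))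
  rw [mul_inv_eq_one, mul_inv_eq_iff_eq_mul] at this
  exact fix_b hga this (KK_le a b hy).2 h.bg.ne fun c hc => h.fixK hy hy1 hc

theorem ob_b3 {s : ℕ} (hs : s.Prime) (hsp : s ≠ p) {Q : Subgroup G} (hQ : IsPGroup s Q)
    (ha : Q ≤ stabilizer G a) (hK : KK G a b ≤ 𝐍[Q]) (h0 : Q ⊓ st2 G a b = ⊥) : Q = ⊥ := by
  by_contra hQ1
  have := Fact.mk hs
  obtain ⟨h3, hpK, hp3, e, he, hU⟩ := h.ob_num
  have hn : stabilizer G a ≤ 𝐍[PP G p a] := le_norm_core _
  have hle : PP G p a ≤ stabilizer G a := GT.pCoreOf_le _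
  obtain ⟨y, hy, hp⟩ := h.ob_y
  have hy1 : y ≠ 1 := by rintro rfl; rw [orderOf_one] at hp; exact Nat.not_prime_one hp
  obtain ⟨M, hM, x, hx, h1, hb⟩ := wie_gen h.prime (by omega) (P := PP G p a) (pg_core _) hQ1 hK
    h.ob_Kne (fun y hy h1 x hx hc => mem_bot.1 (h0 ▸ (⟨hx, ha hx,
      fix_b (ha hx) hc (KK_le a b hy).2 h.bg.ne fun c hc => h.fixK hy h1 hc⟩ :
        x ∈ Q ⊓ st2 G a b))) (ha.trans hn) (((KK_le a b).trans inf_le_left).trans hn)
    (fun hd => by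
      rcases (Nat.Prime.dvd_mul h.prime).1 hd with h2 | h2
      · obtain ⟨n, hn⟩ := IsPGroup.iff_card.1 hQ
        exact hsp ((Nat.prime_dvd_prime_iff_eq h.prime hs).1
          (h.prime.dvd_of_dvd_pow (hn ▸ h2))).symm
      · exact hpK h2)
    (eq_bot_iff.2 fun x hx =>
      eq_one_of_pg2 hs h.prime hsp hQ (pg_core _) hx.1 (h.ob_cent (ha hx.1) hx.2))
    (fun Z hZ hch hc => eq_bot_iff.2 fun x hx => by
      have hNS : NS a Z := h.bg.ns_of_comm (hZ.trans hle) (fun g hg x hx => by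
        have h2 := characteristic_iff_le_comap.1 hch
          ((PP G p a).normalizerMonoidHom ⟨g, hn hg⟩) (show (⟨x, hZ hx⟩ : PP G p a) ∈ _ from hx)
        exact h2) hc
      exact hNS.semi x hx.1 b h.bg.ne.symm (h.cent_P hy hy1 (hZ hx.1) (hx.2 y hy).symm))
  have hxY : x ∈ YY G p a b := ⟨hM hx.1, h.cent_P hy hy1 (hM hx.1) (hx.2 y hy).symm⟩
  set C := centralizer ({x} : Set G) ⊓ M with hC
  set Y0 := M ⊓ 𝐂[KK G a b] with hY0
  have h4 : Nat.card ↥(C ⊓ stabilizer G b) ≤ Nat.card Y0 := card_le_of_le fun w hw =>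
    ⟨hw.1.2, fun k hk => h.K_cent hk (h.ob_YB ⟨hM hw.1.2, hw.2⟩)⟩
  have h5 : Nat.card (orbit C b) ≤ p ^ e := by
    rw [← hU]
    have : ∀ c : orbit C b, ∃ u : UU G p a, (u : G) • b = c := by
      rintro ⟨_, ⟨⟨g, hg⟩, rfl⟩⟩
      obtain ⟨u, hu, e⟩ := h.ob_move (g := g) (hle (hM hg.2)) (by
        rw [← h.fixB (h.ob_YB hxY) h1]
        exact smul_fix_of_commute (mem_centralizer_singleton_iff.1 hg.1) hxY.2)
      exact ⟨⟨u, hu⟩, e⟩
    choose f hf using this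
    exact Nat.card_le_card_of_injective f fun c d e => Subtype.ext (by rw [← hf, ← hf, e])
  have h6 : Nat.card C ≤ p ^ e * Nat.card Y0 := by
    rw [← Fx.card_orbit_mul C b]; exact Nat.mul_le_mul h5 h4
  have h7 : p ≤ Nat.card Y0 := by
    have := Fact.mk h.prime
    obtain ⟨n, hn⟩ := IsPGroup.iff_card.1 ((pg_core _).to_le ((inf_le_left : Y0 ≤ M).trans hM))
    rw [hn]
    refine Nat.le_self_pow (fun e => h1 ?_) p
    rw [e, pow_zero, card_eq_one] at hn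
    exact mem_bot.1 (hn ▸ hx)
  obtain ⟨i, hi⟩ : ∃ i, Nat.card (KK G a b) = i + 1 := ⟨_, (Nat.sub_add_cancel (by omega)).symm⟩
  refine B68.pow_bound hp3 h3 he ?_
  rw [hi, pow_succ] at hb
  rw [hi, pow_succ, mul_comm]
  exact Nat.mul_le_mul_left p ((Nat.pow_le_pow_left h7 i).trans
    (Nat.le_of_mul_le_mul_right (hb.trans h6) Nat.card_pos))

theorem ob_b {s : ℕ} (hs : s.Prime) (hsp : s ≠ p) {Q : Subgroup G} (ha : Q ≤ stabilizer G a)
    (hQ : IsPGroup s Q) (hK : KK G a b ≤ 𝐍[Q]) : Q ≤ st2 G a b := by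
  by_cases hsK : s ∣ Nat.card (KK G a b)
  · have := Fact.mk hs
    obtain ⟨⟨y, hy⟩, ho⟩ := exists_prime_orderOf_dvd_card' s hsK
    rw [← orderOf_coe] at ho
    refine le_sup_left.trans (h.ob_le hs (R := Q ⊔ zpowers y) (pg_sup' hQ (IsPGroup.of_card (n := 1)
      (by rw [Nat.card_zpowers, pow_one]; exact ho)) (zpowers_le.2 (hK hy)))
      (sup_le ha (zpowers_le.2 (KK_le a b hy).1)) hy (fun e => ?_) (mem_sup_right (mem_zpowers y)))
    change orderOf y = s at ho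
    rw [e, orderOf_one] at ho
    exact hs.one_lt.ne ho
  · by_cases h0 : Q ⊓ st2 G a b = ⊥
    · rw [h.ob_b3 hs hsp hQ ha hK h0]; exact bot_le
    · exact h.ob_b2 hs hsp hsK hQ ha hK h0

theorem trans {c : Ω} (hc : c ≠ a) : ∃ x ∈ PP G p a, x • b = c := by
  have := h.bg.solv a
  obtain ⟨s, N, hs, -, hN, hn, hr, y, hy, hyN, ho⟩ := exists_ns (H := stabilizer G a) h.prime
    ((KK_le a b).trans inf_le_left) h.ob_num.2.1 h.ob_Kne h.ob_DK
    fun s hs hsp Q ha hQ hK => h.ob_b hs hsp ha hQ hK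
  have := Fact.mk hs
  have hy1 : y ≠ 1 := by rintro rfl; rw [orderOf_one] at ho; exact hs.one_lt.ne ho
  obtain ⟨Q, hyQ, hQ⟩ := Syl.exists_ge (p := s) (P := zpowers y) (IsPGroup.of_card (n := 1)
    (by rw [Nat.card_zpowers, pow_one, ho])) (zpowers_le.2 hyN)
  have hQD := h.ob_le hs hQ.pg (hQ.le.trans hN) hy hy1 (hyQ (mem_zpowers y))
  obtain ⟨g, h1, rfl⟩ := h.bg.two.two h.bg.ne (Ne.symm hc)
  obtain ⟨m, hm, k, hk, rfl⟩ := hQ.frattini (hn h1)
  obtain ⟨u, hu, w, hw, rfl⟩ := (mem_sup_norm ((hQ.le.trans hN).trans (le_norm_core _))).1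
    (hQ.sup_of_res_le hr hm)
  have hka : k • a = a := by
    have h2 : (u * w) • a = a := hN hm
    rw [mul_smul] at h1
    exact smul_left_cancel _ (h1.trans h2.symm)
  have hkb : k • b = b := (h.fixK hy hy1
    (smul_fix hk (c := b) (fun w => (hQD w.2).2) ⟨y, hyQ (mem_zpowers y)⟩)).resolve_left fun e =>
      h.bg.ne (smul_left_cancel k (hka.trans e.symm))
  exact ⟨u, hu, by rw [mul_smul, hkb, mul_smul, show w • b = b from (hQD hw).2]⟩

theorem zl : ZL G Ω := by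
  obtain ⟨t, ht⟩ := h.bg.exists_sw
  obtain ⟨y, hy, hp⟩ := h.ob_y
  have hy1 : y ≠ 1 := by rintro rfl; rw [orderOf_one] at hp; exact Nat.not_prime_one hp
  refine (h.bg.simple_or h.ih h.hr ht (KK_le a b hy) hp (h.K_inv ht hy)
    fun c hc => h.fixK hy hy1 hc).resolve_right fun hS => ?_
  have := Fact.mk h.prime
  have hle : PP G p a ≤ stabilizer G a := GT.pCoreOf_le _
  have hT : T1 (PP G p a) ({a}ᶜ : Set Ω) := ⟨fun g hg c hc e => hc (smul_left_cancel g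
    ((show g • c = a from e).trans (show g • a = a from hle hg).symm)), fun c hc d hd => by
      obtain ⟨x, hx, rfl⟩ := h.trans hc
      obtain ⟨w, hw, rfl⟩ := h.trans hd
      exact ⟨w * x⁻¹, mul_mem hw (inv_mem hx), by rw [mul_smul, inv_smul_smul]⟩⟩
  obtain ⟨n, hn⟩ := IsPGroup.iff_card.1 (pg_core (p := p) (stabilizer G a))
  have h1 := hT.card (a := b) h.bg.ne.symm
  obtain ⟨m, -, hm⟩ := (Nat.dvd_prime_pow h.prime).1 ((Dvd.intro _ h1.symm).trans (dvd_of_eq hn))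
  have h2 := Set.ncard_add_ncard_compl ({a} : Set Ω)
  rw [Set.ncard_singleton, hm] at h2
  obtain ⟨q, hL⟩ := h.ls
  obtain ⟨⟨x, hx⟩, h3⟩ := ne_bot_iff_exists_ne_one.1 h.ne_bot
  exact h.bg.false_of_pow hL (KK_le a b) (m := m) (by omega) (norm_of_le le_rfl hx)
    (fun e => h3 (Subtype.ext e)) (h.mem_fix.2 (Or.inl rfl)) fun c hc => hc ⟨x, hx⟩

end CA

end Cfsg.Agent.TT
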