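import Mathlib
import Cfsg.Agent.TT.BGPure
import Cfsg.Agent.Loc.MssSyl
import Cfsg.Agent.FT.AppA
import Cfsg.Agent.FT.BG3_4
import Cfsg.Agent.GT.PGroupRank
import Cfsg.Agent.GT.CoprimeProd
import Cfsg.Agent.S0205

/-!
# Elements of prime order without fixed points on the Fitting subgroup
-/

set_option autoImplicit false

namespace Cfsg.Agent.TT

open Subgroup MulAction Cfsg.Agent.Perm Cfsg.Agent.Perm.TT Cfsg.Agent.Perm.TwoCount
open scoped commutatorElement

universe u v

namespace HH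

open Cfsg.Agent.GT Cfsg.Agent.Loc.Mss

variable {X : Type*} [Group X] [Finite X]

theorem le_fit {T : Subgroup X} [T.Normal] {s : ℕ} (hs : s.Prime)
    (hc : T ≤ 𝐂[fittingSubgroup X ⊓ pPrimeCore s X])
    (hp : ∀ x ∈ T, ∃ k, x ^ s ^ k ∈ fittingSubgroup X) : T ≤ fittingSubgroup X := by
  have := Fact.mk hs
  refine le_fitting_iff.2 (Group.of_quotient_center_nilpotent
    (IsPGroup.isNilpotent (p := s) fun x => ?_))
  obtain ⟨x, rfl⟩ := QuotientGroup.mk_surjective x
  obtain ⟨k, hk⟩ := exists_pow_coprime (p := s) (x : X)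
  refine ⟨k, ?_⟩
  rw [← QuotientGroup.mk_pow, QuotientGroup.eq_one_iff]
  obtain ⟨j, hj⟩ := hp _ (T.pow_mem x.2 (s ^ k))
  have h1 : (x : X) ^ s ^ k ∈ fittingSubgroup X := mem_of_pow_mem hk hj
  have h2 : (x : X) ^ s ^ k ∈ pPrimeCore s X :=
    le_pPrimeCore_of_le_fitting (K := zpowers _) (by rwa [Nat.card_zpowers])
      (zpowers_le.2 h1) (mem_zpowers _)
  exact mem_center_iff.2 fun g => Subtype.ext (mem_cent.1 (hc g.2) _ ⟨h1, h2⟩).symm

omit [Finite X] in
theorem pg_zpowers {r : ℕ} {d : X} (hd : orderOf d = r) : IsPGroup r (zpowers d) :=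
  IsPGroup.of_card (n := 1) (by rw [Nat.card_zpowers, hd, pow_one])

omit [Finite X] in
theorem mem_cent_zpowers {x d : X} (h : x ∈ 𝐂[zpowers d]) : Commute x d :=
  (mem_cent.1 h d (mem_zpowers d)).symm

theorem cop_fit {r : ℕ} (hr : r.Prime) {d : X} (hd : orderOf d = r)
    (hC : ∀ x ∈ fittingSubgroup X, Commute x d → x = 1) :
    (Nat.card (fittingSubgroup X)).Coprime r := by
  have := Fact.mk hr
  have h0 : pCore r X = ⊥ := by
    by_contra h
    refine PG.inf_centralizer_ne_bot_of_isPGroup (isPGroup_pCore r) (pg_zpowers hd)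
      (norm_normal _ _) h (eq_bot_iff.2 fun x hx => ?_)
    exact hC x (pCore_le_fitting hr hx.1) (mem_cent_zpowers hx.2)
  exact coprime_of_forall_pg fun P hP hp => eq_bot_iff.2 (h0 ▸ le_pCore_of_le_fitting hp hP)

theorem mem_scn (hodd : Odd (Nat.card X)) {r : ℕ} (hr : r.Prime) {d : X} (hd : orderOf d = r)
    (hC : ∀ x ∈ fittingSubgroup X, Commute x d → x = 1) {R A : Subgroup X} (hR : IsPGroup r R)
    (hA : IsSCN R A) (hdR : d ∈ R) : d ∈ A := by
  have := Fact.mk hr
  have : Group.IsSolvable X := S0205.result hodd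
  have hcop := cop_fit hr hd hC
  have hA' : IsPGroup r A := hR.to_le hA.1
  obtain ⟨k, hk⟩ := IsPGroup.iff_card.1 hA'
  have hcomm := hA.isMulCommutative
  have h := hh_abelian (A := A) (U := fittingSubgroup X) hr hd
    ((hodd.of_dvd_nat (card_subgroup_dvd_card A)).mul
      (hodd.of_dvd_nat (hd ▸ orderOf_dvd_natCard d)))
    (fun x hx y hy => setLike_mul_comm hx hy) (hA.2.1 hdR) (norm_normal _ _)
    (le_normalizer_of_normal (mem_top d)) inferInstance
    (by rw [hk, ← pow_succ]; exact hcop.pow_right _) hC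
    (eq_bot_of_coprime (hA'.to_le inf_le_left) (inf_le_right.trans centralizer_fitting_le) hcop)
  rw [← hA.2.2]
  exact ⟨hdR, mem_cent.2 fun a ha => h a ha⟩

theorem cent_core (hodd : Odd (Nat.card X)) {r s : ℕ} (hr : r.Prime) (hs : s.Prime) (hrs : s ≠ r)
    {d : X} (hd : orderOf d = r) (hC : ∀ x ∈ fittingSubgroup X, Commute x d → x = 1) :
    QuotientGroup.mk' (fittingSubgroup X) d ∈ 𝐂[pCore s (X ⧸ fittingSubgroup X)] := by
  have := Fact.mk hr
  have := Fact.mk hs
  have : Group.IsSolvable X := S0205.result hodd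
  have hcop := cop_fit hr hd hC
  set F := fittingSubgroup X with hF
  set π := QuotientGroup.mk' F with hπ
  set N := (pCore s (X ⧸ F)).comap π with hN
  have hsr : s.Coprime r := (Nat.coprime_primes hs hr).2 hrs
  have hNr : (Nat.card N).Coprime r := coprime_of_forall_pg fun P hP hp => by
    have h1 : P.map π = ⊥ := by
      obtain ⟨k, hk⟩ := IsPGroup.iff_card.1 (isPGroup_pCore (G := X ⧸ F) s)
      exact eq_bot_of_coprime (hp.map π) (map_le_iff_le_comap.2 hP) (hk ▸ hsr.pow_left k)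
    rw [Subgroup.map_eq_bot_iff, QuotientGroup.ker_mk'] at h1
    exact eq_bot_of_coprime hp h1 hcop
  obtain ⟨Q, hQN, hQ, hQi, hdQ⟩ := CopAct.exists_invariant_sylowIn (A := zpowers d) (K := N)
    (norm_normal _ _) (by rw [Nat.card_zpowers, hd]; exact hNr.symm) (Or.inr inferInstance) s
  obtain ⟨k, hk⟩ := IsPGroup.iff_card.1 hQ
  have hQr : (Nat.card Q).Coprime r := hk ▸ hsr.pow_left k
  have hsd : FT.Sdprod Q (zpowers d) (Q ⊔ zpowers d) :=
    ⟨rfl, eq_bot_of_coprime ((pg_zpowers hd).to_le inf_le_right) inf_le_left hQr, hdQ⟩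
  set V := F ⊓ pPrimeCore s X with hV
  have h1 := FT.odd_prime_sdprod_cent1 (V := V) (hodd.of_dvd_nat (card_subgroup_dvd_card _)) hsd
    (by rwa [Nat.card_zpowers, hd]) (by rwa [Nat.card_zpowers, hd]) inferInstance
    (norm_normal _ _)
    (by
      rw [← hsd.card_eq, Nat.card_zpowers, hd, hk]
      exact (((coprime_card_pPrimeCore s).coprime_dvd_left
        (card_dvd_of_le inf_le_right)).pow_right k).mul_right
        (hcop.coprime_dvd_left (card_dvd_of_le inf_le_left)))
    (eq_bot_iff.2 fun x hx => hC x hx.1.1 (mem_cent_zpowers hx.2))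
  have h2 : N ⊓ 𝐂[V] ≤ F := le_fit hs inf_le_right fun x hx => by
    obtain ⟨j, hj⟩ := pg_iff.1 (isPGroup_pCore (G := X ⧸ F) s) _ hx.1
    exact ⟨j, (QuotientGroup.eq_one_iff _).1 (by rw [QuotientGroup.mk_pow]; exact hj)⟩
  have h3 : ⁅zpowers d, Q⁆ ≤ F := h1.trans ((inf_le_inf_right _ hQN).trans h2)
  have h4 : Q.map π = pCore s (X ⧸ F) := by
    have h5 := (Syl.mk hQN hQ hQi).map π
    rw [hN, map_comap_eq_self_of_surjective (QuotientGroup.mk'_surjective F)] at h5
    exact (h5.eq_of_le (isPGroup_pCore s) h5.le le_rfl).symm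
  rw [← h4]
  refine mem_cent.2 ?_
  rintro _ ⟨q, hq, rfl⟩
  have h6 := (QuotientGroup.eq_one_iff _).2
    (h3 (commutator_mem_commutator (mem_zpowers d) hq))
  have h7 : ⁅π d, π q⁆ = 1 := by rw [← map_commutatorElement]; exact h6
  exact (commutatorElement_eq_one_iff_mul_comm.1 h7).symm

theorem mem_core (hodd : Odd (Nat.card X)) {r : ℕ} (hr : r.Prime) {d : X} (hd : orderOf d = r)
    (hC : ∀ x ∈ fittingSubgroup X, Commute x d → x = 1) :
    QuotientGroup.mk' (fittingSubgroup X) d ∈ pCore r (X ⧸ fittingSubgroup X) := by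
  have := Fact.mk hr
  have : Group.IsSolvable X := S0205.result hodd
  set F := fittingSubgroup X with hF
  set π := QuotientGroup.mk' F with hπ
  obtain ⟨R, hdR, hR⟩ := Syl.exists_ge (pg_zpowers hd) (le_top (a := zpowers d))
  obtain ⟨A, -, hA⟩ := PG.exists_isSCN_ge (A := ⊥) hR.pg bot_le (norm_normal _ _) inferInstance
  have hdA : zpowers d ≤ A := zpowers_le.2 (mem_scn hodd hr hd hC hR.pg hA (hdR (mem_zpowers d)))
  have h1 : ⁅⁅R, zpowers d⁆, zpowers d⁆ = ⊥ := by
    refine comm_eq_bot_iff.2 (le_trans ?_ (cent_anti hdA))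
    refine ((commutator_mono le_rfl hdA).trans (comm_le_right hA.2.1)).trans ?_
    exact hA.2.2.ge.trans inf_le_right
  have h2 : pCore r (X ⧸ F) ≤ R.map π := by
    have h3 := hR.map π
    rw [hπ, map_top_of_surjective _ (QuotientGroup.mk'_surjective F)] at h3
    exact pCoreOf_top.ge.trans h3.core_le
  have hz : IsPGroup r (zpowers (π d)) := by
    rw [← MonoidHom.map_zpowers]; exact (pg_zpowers hd).map π
  obtain ⟨D, hD, hdD, hDp⟩ := FT.odd_p_stable' (H := ⊤) (P := pCore r (X ⧸ F))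
    (A := zpowers (π d))
    (by
      rw [card_top]
      exact hodd.of_dvd_nat (card_quotient_dvd_card F))
    (isPGroup_pCore r) (norm_normal _ _) hz le_top
    (by
      refine eq_bot_iff.2 ((commutator_mono (commutator_mono h2 le_rfl) le_rfl).trans ?_)
      rw [← MonoidHom.map_zpowers, ← map_commutator, ← map_commutator, h1, Subgroup.map_bot])
  have : D.Normal := normal_of_top hD.2
  set V := fittingSubgroup (X ⧸ F) ⊓ pPrimeCore r (X ⧸ F) with hV
  have h4 : D ⊓ 𝐂[V] ≤ fittingSubgroup (X ⧸ F) := le_fit hr inf_le_right fun x hx => by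
    obtain ⟨k, hk⟩ := hDp x hx.1
    refine ⟨k, centralizer_fitting_le ?_⟩
    refine (cent_comm (A := fittingSubgroup (X ⧸ F)) (B := zpowers _) ?_) (mem_zpowers _)
    refine le_of_forall_isPGroup_le fun p hp _ P hP hPp => cent_comm (zpowers_le.2 ?_)
    by_cases e : p = r
    · subst e
      exact cent_anti (le_pCore_of_le_fitting hPp hP) hk
    · exact cent_anti (le_inf hP ((le_pCore_of_le_fitting hPp hP).trans
        (pCore_le_pPrimeCore hr hp e))) (pow_mem hx.2 _)
  have h5 : π d ∈ 𝐂[V] := by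
    refine (cent_comm (A := V) (B := zpowers _) ?_) (mem_zpowers _)
    refine le_of_forall_isPGroup_le fun p hp hpV P hP hPp => cent_comm (zpowers_le.2 ?_)
    have e : p ≠ r := by
      rintro rfl
      exact not_dvd_card_pPrimeCore hp (hpV.trans (card_dvd_of_le inf_le_right))
    exact cent_anti (le_pCore_of_le_fitting hPp (hP.trans inf_le_left))
      (cent_core hodd hr hp e hd hC)
  exact le_pCore_of_le_fitting hz (zpowers_le.2 (h4 ⟨hdD (mem_zpowers _), h5⟩)) (mem_zpowers _)

theorem comm_mem (hodd : Odd (Nat.card X)) {r : ℕ} (hr : r.Prime) {d e : X} (hd : orderOf d = r)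
    (he : orderOf e = r) (hCd : ∀ x ∈ fittingSubgroup X, Commute x d → x = 1)
    (hCe : ∀ x ∈ fittingSubgroup X, Commute x e → x = 1) : ⁅d, e⁆ ∈ fittingSubgroup X := by
  have := Fact.mk hr
  have h0 := mem_core hodd hr he hCe
  set F := fittingSubgroup X with hF
  set π := QuotientGroup.mk' F with hπ
  obtain ⟨R, hdR, hR⟩ := Syl.exists_ge (pg_zpowers hd) (le_top (a := zpowers d))
  obtain ⟨A, -, hA⟩ := PG.exists_isSCN_ge (A := ⊥) hR.pg bot_le (norm_normal _ _) inferInstance
  have hdA := mem_scn hodd hr hd hCd hR.pg hA (hdR (mem_zpowers d))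
  have h2 : pCore r (X ⧸ F) ≤ R.map π := by
    have h3 := hR.map π
    rw [hπ, map_top_of_surjective _ (QuotientGroup.mk'_surjective F)] at h3
    exact pCoreOf_top.ge.trans h3.core_le
  have h3 : e ∈ R ⊔ F := by
    have h4 : e ∈ (R.map π).comap π := h2 h0
    rwa [comap_map_eq, hπ, QuotientGroup.ker_mk'] at h4
  obtain ⟨g, hg, hge⟩ := (hR.mono le_sup_left le_top).conj_le (pg_zpowers he) (zpowers_le.2 h3)
  obtain ⟨x, hx, n, hn, rfl⟩ := (mem_sup_norm' (norm_normal _ _)).1 hg
  have h5 : n * e * n⁻¹ ∈ R := by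
    have h6 := R.mul_mem (R.mul_mem (R.inv_mem hx) (cj_le_iff.1 hge e (mem_zpowers e))) hx
    convert h6 using 1
    group
  have h6 : n * e * n⁻¹ ∈ A := mem_scn hodd hr
    (by rw [← he]; exact (MulAut.conj n).orderOf_eq e)
    (fun y hy hc => by
      have h7 := hCe (n⁻¹ * y * n) (by simpa using fitting_normal.conj_mem y hy n⁻¹)
        (by
          have h8 := hc.map (MulAut.conj n⁻¹)
          simpa [mul_assoc] using h8)
      simpa [mul_assoc] using congrArg (fun z => n * z * n⁻¹) h7)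
    hR.pg hA h5
  have hcomm := hA.isMulCommutative
  have h7 := congrArg π (setLike_mul_comm hdA h6)
  have h8 : π n = 1 := (QuotientGroup.eq_one_iff _).2 hn
  simp only [map_mul, map_inv, h8, one_mul, inv_one, mul_one] at h7
  refine (QuotientGroup.eq_one_iff _).1 ?_
  change π ⁅d, e⁆ = 1
  rw [map_commutatorElement]
  exact commutatorElement_eq_one_iff_mul_comm.2 h7

end HH

variable {G : Type u} {Ω : Type v} [Group G] [Finite G] [MulAction G Ω] [Finite Ω] {a b : Ω}

/-- Elements of prime order `r` without fixed points on the Fitting subgroup of a group of odd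
order commute modulo the Fitting subgroup. -/
theorem hh_fitting {H : Subgroup G} (hodd : Odd (Nat.card H)) {r : ℕ} (hr : r.Prime) {d e : G}
    (hd : d ∈ H) (he : e ∈ H) (hd' : orderOf d = r) (he' : orderOf e = r)
    (hCd : ∀ x ∈ fittingOf H, Commute x d → x = 1) (hCe : ∀ x ∈ fittingOf H, Commute x e → x = 1) :
    ⁅d, e⁆ ∈ fittingOf H := by
  have key : ∀ y : H, (∀ x ∈ fittingOf H, Commute x (y : G) → x = 1) →
      ∀ x ∈ fittingSubgroup H, Commute x y → x = 1 := fun y h x hx hc =>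
    Subtype.ext (h x ⟨x, hx, rfl⟩ (hc.map H.subtype))
  have h := HH.comm_mem hodd hr (d := ⟨d, hd⟩) (e := ⟨e, he⟩) (by rw [← hd', orderOf_mk])
    (by rw [← he', orderOf_mk]) (key _ hCd) (key _ hCe)
  exact ⟨_, h, rfl⟩

open Cfsg.Agent.GT Cfsg.Agent.Loc.Mss in
/-- The same for a faithful coprime action on a nilpotent group. -/
theorem hh_faithful {D U : Subgroup G} (hodd : Odd (Nat.card D * Nat.card U))
    (hN : D ≤ normalizer (U : Set G)) (hnil : Group.IsNilpotent U)
    (hcop : (Nat.card U).Coprime (Nat.card D)) (hf : D ⊓ centralizer (U : Set G) = ⊥) {r : ℕ}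
    (hr : r.Prime) {d e : G} (hd : d ∈ D) (he : e ∈ D) (hd' : orderOf d = r) (he' : orderOf e = r)
    (hCd : ∀ x ∈ U, Commute x d → x = 1) (hCe : ∀ x ∈ U, Commute x e → x = 1) : Commute d e := by
  have _ := hnil
  have h0 : U ⊓ D = ⊥ := disjoint_iff.1 (disjoint_of_coprime_natCard hcop)
  have hsd : FT.Sdprod U D (U ⊔ D) := ⟨rfl, h0, hN⟩
  have hF : fittingOf (U ⊔ D) ≤ U := by
    refine le_of_forall_isPGroup_le fun s hs _ P hP hPs => (le_pCoreOf_of_le_fittingOf hPs hP).trans ?_
    have := Fact.mk hs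
    by_cases h1 : s ∣ Nat.card D
    · have h2 : ¬ s ∣ Nat.card U := fun h3 => hs.one_lt.ne' (Nat.eq_one_of_dvd_coprimes hcop h3 h1)
      obtain ⟨T, hT⟩ := Syl.exists s D
      have h3 : Syl s T (U ⊔ D) := ⟨hT.le.trans le_sup_right, hT.pg, by
        rw [← relIndex_mul_relIndex T D _ hT.le le_sup_right, hsd.relIndex_right]
        exact fun h => (hs.dvd_mul.1 h).elim hT.nd h2⟩
      have h4 : pCoreOf s (U ⊔ D) ≤ 𝐂[U] := le_centralizer_of_le_normalizer
        ((pCoreOf_le _).trans hsd.normalIn.2) (le_sup_left.trans (le_norm_core _))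
        (eq_bot_of_coprime ((pg_core _).to_le inf_le_left) inf_le_right
          ((hs.coprime_iff_not_dvd.2 h2).symm))
      exact ((le_inf (h3.core_le.trans hT.le) h4).trans hf.le).trans bot_le
    · obtain ⟨T, hT⟩ := Syl.exists s U
      have h3 : Syl s T (U ⊔ D) := ⟨hT.le.trans le_sup_left, hT.pg, by
        rw [← relIndex_mul_relIndex T U _ hT.le le_sup_left, hsd.relIndex_left]
        exact fun h => (hs.dvd_mul.1 h).elim hT.nd h1⟩
      exact h3.core_le.trans hT.le
  have h := hh_fitting (H := U ⊔ D) (by rw [← hsd.card_eq, mul_comm]; exact hodd) hr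
    (mem_sup_right hd) (mem_sup_right he) hd' he' (fun x hx => hCd x (hF hx))
    (fun x hx => hCe x (hF hx))
  have h5 : ⁅d, e⁆ ∈ U ⊓ D := ⟨hF h, by
    rw [commutatorElement_def]
    exact D.mul_mem (D.mul_mem (D.mul_mem hd he) (D.inv_mem hd)) (D.inv_mem he)⟩
  rw [h0] at h5
  exact commutatorElement_eq_one_iff_commute.1 h5

end Cfsg.Agent.TT
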