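import Mathlib
import Cfsg.Agent.TT.BGBas
import Cfsg.Agent.TT.BGHH
import Cfsg.Agent.Perm.Witt

/-!
# A semiregular Fitting subgroup of the point stabilizer is regular
-/

set_option autoImplicit false

namespace Cfsg.Agent.TT

open Subgroup MulAction Cfsg.Agent.Perm Cfsg.Agent.Perm.TT Cfsg.Agent.Perm.TwoCount
open scoped commutatorElement

universe u v

variable {G : Type u} {Ω : Type v} [Group G] [Finite G] [MulAction G Ω] [Finite Ω] {a b : Ω}

set_option linter.unusedSectionVars false in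
/-- If all `O_p(G_a)` are semiregular then so is the Fitting subgroup. -/
theorem BG.ns_FF (h : BG G Ω a b) (hY : ∀ p : ℕ, p.Prime → YY G p a b = ⊥) : NS a (FF G a) := by
  refine ⟨GT.fittingOf_le _, fun g hg x hx =>
    (mem_normalizer_iff.1 (GT.le_normalizer_fittingOf _ hg) x).1 hx, fun x hx c ca hc => ?_⟩
  by_contra h1
  obtain ⟨z, hz, hp⟩ := exists_prime_pow' (isOfFinOrder_of_finite x) h1
  obtain ⟨g, ga, gb⟩ := h.two.two ca.symm h.ne
  have h2 : z ∈ YY G (orderOf z) a c :=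
    ⟨GT.le_pCoreOf_of_le_fittingOf (HH.pg_zpowers rfl) (zpowers_le.2 (zpowers_le.2 hx hz))
      (mem_zpowers z), pow_smul_fix hc hz⟩
  have h3 := (conj_mem_YY (g := g)).2 h2
  rw [ga, gb, hY _ hp, mem_bot, conj_eq_one_iff] at h3
  rw [h3, orderOf_one] at hp
  exact Nat.not_prime_one hp

namespace Reg

/-- The subgroup generated by the conjugates of `y` fixing `c` and `d`. -/
def WW (y : G) (c d : Ω) : Subgroup G := closure {x | x ∈ st2 G c d ∧ IsConj y x}

omit [Finite G] [Finite Ω] in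
theorem WW_le (y : G) (c d : Ω) : WW y c d ≤ st2 G c d := (closure_le _).2 fun _ h => h.1

omit [Finite G] [Finite Ω] in
theorem conj_mem_WW {y x : G} (g : G) {c d : Ω} (hx : x ∈ WW y c d) :
    g * x * g⁻¹ ∈ WW y (g • c) (g • d) := by
  refine closure_induction (p := fun x _ => g * x * g⁻¹ ∈ WW y (g • c) (g • d))
    (fun z hz => subset_closure ⟨conj_mem_st2.2 hz.1, hz.2.trans (isConj_iff.2 ⟨g, rfl⟩)⟩)
    (by simp) (fun x y _ _ hx hy => ?_) (fun x _ hx => ?_) hx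
  · simpa [mul_assoc] using mul_mem hx hy
  · simpa [mul_assoc] using inv_mem hx

omit [Finite G] [Finite Ω] in
theorem WW_comm (y : G) (c d : Ω) : WW y c d = WW y d c := by
  simp only [WW, st2, inf_comm]

omit [Finite Ω] in
theorem card_WW_le (h : Two G Ω) (y : G) {c d : Ω} (hab : a ≠ b) (hcd : c ≠ d) :
    Nat.card (WW y c d) ≤ Nat.card (WW y a b) := by
  obtain ⟨g, ga, gb⟩ := h.two hcd hab
  refine Nat.card_le_card_of_injective
    (fun x : WW y c d => (⟨g * x * g⁻¹, ga ▸ gb ▸ conj_mem_WW g x.2⟩ : WW y a b)) fun x z e => ?_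
  simpa using e

omit [Finite Ω] in
theorem WW_eq (h : Two G Ω) (y : G) {c d : Ω} (hab : a ≠ b) (hcd : c ≠ d)
    (hc : ∀ x ∈ WW y a b, x • c = c) (hd : ∀ x ∈ WW y a b, x • d = d) : WW y c d = WW y a b :=
  have h1 : WW y a b ≤ WW y c d := (closure_le _).2 fun x hx => subset_closure
    ⟨⟨hc x (subset_closure hx), hd x (subset_closure hx)⟩, hx.2⟩
  (eq_of_le_of_card_ge h1 (card_WW_le h y hab hcd)).symm

/-- The hypotheses: `y` is a real element of prime order fixing two points. -/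
structure RH (G : Type u) (Ω : Type v) [Group G] [MulAction G Ω] (a b : Ω) (t y : G) : Prop where
  bg : BG G Ω a b
  ns : NS a (FF G a)
  sw : t ∈ Sw G a b
  mem : y ∈ st2 G a b
  prime : (orderOf y).Prime
  inv : t * y * t⁻¹ = y⁻¹

namespace RH

variable {t y : G} (h : RH G Ω a b t y)
include h

omit [Finite G] [Finite Ω] in
theorem conj (g : G) : RH G Ω (g • a) (g • b) (g * t * g⁻¹) (g * y * g⁻¹) :=
  ⟨⟨h.bg.two, h.bg.even, fun e => h.bg.ne (smul_left_cancel g e), by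
      rw [← map_conj_st2, card_map_of_injective (MulAut.conj g).injective]; exact h.bg.odd⟩,
    FF_conj g a ▸ h.ns.conj g, conj_mem_Sw.2 h.sw, conj_mem_st2.2 h.mem,
    by rw [show orderOf (g * y * g⁻¹) = orderOf y from (MulAut.conj g).orderOf_eq y]; exact h.prime,
    by simpa [mul_assoc] using congrArg (fun z => g * z * g⁻¹) h.inv⟩

omit [Finite G] [Finite Ω] in
theorem ne_one : y ≠ 1 := fun e => by
  have := h.prime
  rw [e, orderOf_one] at this
  exact Nat.not_prime_one this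

omit [Finite G] [Finite Ω] h in
theorem ord {x : G} (hx : IsConj y x) : orderOf x = orderOf y := by
  obtain ⟨g, rfl⟩ := isConj_iff.1 hx
  exact (MulAut.conj g).orderOf_eq y

theorem fpf {x : G} (hx : IsConj y x) (ha : x • a = a) {f : G} (hf : f ∈ FF G a)
    (hc : Commute f x) : f = 1 := by
  obtain ⟨g, rfl⟩ := isConj_iff.1 hx
  exact h.bg.eq_one_of_real h.ns ha (h.conj g).ne_one (h.conj g).inv hf hc

theorem comm_mem {x z : G} (hx : IsConj y x) (ha : x • a = a) (hz : IsConj y z) (ha' : z • a = a) :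
    ⁅x, z⁆ ∈ FF G a :=
  hh_fitting (H := stabilizer G a) (h.bg.odd_stab a) h.prime ha ha' (ord hx) (ord hz)
    (fun _ hf => h.fpf hx ha hf) (fun _ hf => h.fpf hz ha' hf)

theorem not_dvd : ¬ orderOf y ∣ Nat.card (FF G a) := fun hd => by
  obtain ⟨z, hz, ho, hc⟩ := h.bg.exists_cent h.ns h.prime hd (GT.isNilpotent_fittingOf _)
    (HH.pg_zpowers rfl) (zpowers_le.2 h.mem.1)
  have := h.prime
  rw [← ho, h.fpf (IsConj.refl y) h.mem.1 hz (HH.mem_cent_zpowers hc), orderOf_one] at this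
  exact Nat.not_prime_one this

theorem ne_bot : FF G a ≠ ⊥ := by
  have := h.bg.solv a
  exact GT.fittingOf_ne_bot fun e => h.ne_one (mem_bot.1 (e ▸ h.mem.1))

theorem comm : ∀ x ∈ WW y a b, ∀ z ∈ WW y a b, x * z = z * x := by
  have key : ∀ x ∈ {x | x ∈ st2 G a b ∧ IsConj y x}, ∀ z ∈ {x | x ∈ st2 G a b ∧ IsConj y x},
      x * z = z * x := fun x hx z hz => by
    refine commutatorElement_eq_one_iff_mul_comm.1
      (h.ns.semi _ (h.comm_mem hx.2 hx.1.1 hz.2 hz.1.1) b h.bg.ne.symm ?_)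
    rw [commutatorElement_def]
    exact (mul_mem (mul_mem (mul_mem hx.1 hz.1) (inv_mem hx.1)) (inv_mem hz.1)).2
  have : IsMulCommutative (WW y a b) := isMulCommutative_closure key
  exact fun x hx z hz => setLike_mul_comm (s := WW y a b) hx hz

theorem pow_eq : ∀ x ∈ WW y a b, x ^ orderOf y = 1 := fun x hx => by
  refine closure_induction (p := fun x _ => x ^ orderOf y = 1)
    (fun z hz => by rw [← ord hz.2, pow_orderOf_eq_one]) (by simp) (fun x z hx' hz' hx hz => ?_)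
    (fun x _ hx => by rw [inv_pow, hx, inv_one]) hx
  rw [Commute.mul_pow (h.comm x hx' z hz'), hx, hz, one_mul]

theorem pg : IsPGroup (orderOf y) (WW y a b) := fun x =>
  ⟨1, Subtype.ext (by simpa using h.pow_eq x x.2)⟩

theorem refl : Refl (orderOf y) (WW y a b) t := by
  have hy : y ∈ WW y a b := subset_closure ⟨h.mem, IsConj.refl y⟩
  refine ⟨y, hy, rfl, h.inv, fun x hx => ?_⟩
  have ht : ∀ x ∈ WW y a b, t * x * t⁻¹ ∈ WW y a b := fun x hx => by
    have := conj_mem_WW t hx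
    rwa [h.sw.2, Sw.swap h.sw, WW_comm] at this
  let I : Subgroup G :=
    { carrier := {w | w ∈ WW y a b ∧ t * w * t⁻¹ = w⁻¹}
      one_mem' := ⟨one_mem _, by simp⟩
      mul_mem' := fun {x z} hx hz => ⟨mul_mem hx.1 hz.1, by
        rw [← conj_mul, hx.2, hz.2, h.comm _ hx.1 _ hz.1, mul_inv_rev]⟩
      inv_mem' := fun {x} hx => ⟨inv_mem hx.1, by rw [← conj_inv, hx.2]⟩ }
  have hI : IsCyclic I := by
    by_contra hc
    obtain ⟨V, hV, h1, -, f, hf, hf1, hfV⟩ := exists_hyper (W := I) (P := FF G a) h.prime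
      (fun x hx z hz => h.comm x hx.1 z hz.1) (fun x hx => h.pow_eq x hx.1) hc
      (fun x hx => GT.le_normalizer_fittingOf _ (WW_le y a b hx.1).1)
      (have := GT.isNilpotent_fittingOf (stabilizer G a)
       show Group.IsSolvable (fittingOf (stabilizer G a)) from inferInstance) h.not_dvd h.ne_bot
    obtain ⟨⟨v, hv⟩, hv1⟩ := ne_bot_iff_exists_ne_one.1 h1
    exact hf1 (h.bg.eq_one_of_real h.ns (WW_le y a b (hV hv).1).1
      (fun e => hv1 (Subtype.ext e)) (hV hv).2 hf (mem_centralizer_iff.1 hfV v hv).symm)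
  have h2 : zpowers y = I := by
    refine eq_of_le_of_card_ge (zpowers_le.2 ⟨hy, h.inv⟩) ?_
    obtain ⟨g, hg⟩ := hI.exists_generator
    rw [Nat.card_zpowers, ← orderOf_eq_card_of_forall_mem_zpowers hg, ← orderOf_coe]
    exact Nat.le_of_dvd h.prime.pos (orderOf_dvd_of_pow_eq_one (h.pow_eq _ g.2.1))
  rw [h2]
  refine ⟨mul_mem (ht x hx) (inv_mem hx), ?_⟩
  have h3 := mul_self_two h.sw.1
  rw [inv_two h.sw.1]
  simp only [mul_inv_rev, inv_inv, inv_two h.sw.1, ← mul_assoc, h3, one_mul]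

omit [Finite G] [Finite Ω] h in
theorem WW_conj (g : G) (c d : Ω) : WW (g * y * g⁻¹) c d = WW y c d := by
  have : ∀ x, IsConj (g * y * g⁻¹) x ↔ IsConj y x := fun x =>
    ⟨fun e => (isConj_iff.2 ⟨g, rfl⟩).trans e, fun e => (isConj_iff.2 ⟨g, rfl⟩).symm.trans e⟩
  simp only [WW, this]

theorem refl' {c d : Ω} (hcd : c ≠ d) {u : G} (hu : u ∈ Sw G c d) :
    Refl (orderOf y) (WW y c d) u := by
  obtain ⟨g, rfl, rfl⟩ := h.bg.two.two h.bg.ne hcd
  have h1 := h.conj g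
  obtain ⟨e, he, rfl⟩ := h1.bg.sw_conj h1.sw hu
  have h2 := zpowers_le.2 (h1.bg.sw_mul h1.sw hu).1 he
  have h3 := (h1.conj e).refl
  rwa [h2.1, h2.2, WW_conj, WW_conj, ord (isConj_iff.2 ⟨e, rfl⟩), ord (isConj_iff.2 ⟨g, rfl⟩)] at h3

theorem fix {c : Ω} (ca : c ≠ a) (hc : ∀ x ∈ WW y a b, x • c = c) : c = b := by
  by_contra cb
  have ha : ∀ x ∈ WW y a b, x • a = a := fun x hx => (WW_le y a b hx).1
  have hb : ∀ x ∈ WW y a b, x • b = b := fun x hx => (WW_le y a b hx).2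
  obtain ⟨u1, h1⟩ := (h.bg.pair h.bg.ne.symm).exists_sw
  obtain ⟨u2, h2⟩ := (h.bg.pair cb).exists_sw
  obtain ⟨u3, h3⟩ := (h.bg.pair (Ne.symm ca)).exists_sw
  refine refl_three h.prime (fun e => h.bg.fpf e a h.mem.1) h.comm h.pow_eq
    (WW_eq h.bg.two y h.bg.ne h.bg.ne.symm hb ha ▸ h.refl' h.bg.ne.symm h1)
    (WW_eq h.bg.two y h.bg.ne cb hc hb ▸ h.refl' cb h2)
    (WW_eq h.bg.two y h.bg.ne (Ne.symm ca) ha hc ▸ h.refl' (Ne.symm ca) h3)
    (h.bg.odd_fix (c := a) ?_)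
  rw [mul_smul, mul_smul, h3.2, h2.2, h1.2]

theorem orb {c : Ω} (ca : c ≠ a)
    (hc : ∀ x ∈ st2 G a b, IsConj y x → ∃ f ∈ FF G a, x • c = f • c) :
    ∃ f ∈ FF G a, f • b = c := by
  have := Fact.mk h.prime
  have hS : ∀ x ∈ WW y a b, ∀ d ∈ orbit (FF G a) c, x • d ∈ orbit (FF G a) c := by
    have h1 : ∀ x ∈ WW y a b, ∃ f ∈ FF G a, x • c = f • c := fun x hx => by
      refine closure_induction (p := fun x _ => ∃ f ∈ FF G a, x • c = f • c)
        (fun x hx => hc x hx.1 hx.2) ⟨1, one_mem _, rfl⟩ ?_ ?_ hx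
      · rintro x z hx - ⟨f, hf, e⟩ ⟨f', hf', e'⟩
        refine ⟨x * f' * x⁻¹ * f, mul_mem (h.ns.norm x (WW_le y a b hx).1 f' hf') hf, ?_⟩
        rw [mul_smul, e', mul_smul, ← e, ← mul_smul, ← mul_smul, inv_mul_cancel_right]
      · rintro x hx ⟨f, hf, e⟩
        refine ⟨x⁻¹ * f⁻¹ * x⁻¹⁻¹, h.ns.norm x⁻¹ (inv_mem (WW_le y a b hx)).1 _ (inv_mem hf), ?_⟩
        rw [inv_inv, mul_smul, e, mul_smul, inv_smul_smul]
    rintro x hx _ ⟨f, rfl⟩
    obtain ⟨f', hf', e⟩ := h1 x hx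
    refine ⟨⟨x * f * x⁻¹ * f', mul_mem (h.ns.norm x (WW_le y a b hx).1 f f.2) hf'⟩, ?_⟩
    change (x * f * x⁻¹ * f') • c = x • (f : G) • c
    rw [mul_smul, ← e, ← mul_smul, ← mul_smul, inv_mul_cancel_right]
  have hcard : (orbit (FF G a) c).ncard = Nat.card (FF G a) := by
    rw [← Nat.card_coe_set_eq]
    refine (Nat.card_congr (Equiv.ofBijective (fun f : FF G a => (⟨f • c, f, rfl⟩ : orbit _ c))
      ⟨fun f g e => ?_, by rintro ⟨_, f, rfl⟩; exact ⟨f, rfl⟩⟩)).symm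
    have e' : (f : G) • c = (g : G) • c := congrArg Subtype.val e
    have h3 := h.ns.semi ((g : G)⁻¹ * f) (mul_mem (inv_mem g.2) f.2) c ca
      (by rw [mul_smul, e', inv_smul_smul])
    exact Subtype.ext (inv_mul_eq_one.1 h3).symm
  obtain ⟨_, ⟨f, rfl⟩, hf⟩ := exists_fixed_of_not_dvd h.pg _ (Set.toFinite _) hS
    (hcard ▸ h.not_dvd)
  have h4 : (f : G) • c = b := h.fix (fun e => ca (by
    have h5 : (f : G) • a = a := h.ns.le f.2
    exact smul_left_cancel (f : G) (e.trans h5.symm))) hf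
  exact ⟨(f : G)⁻¹, inv_mem f.2, by rw [← h4, inv_smul_smul]⟩

theorem reg {c : Ω} (ca : c ≠ a) : ∃ f ∈ FF G a, f • b = c := by
  have key : ∀ x : G, x • a = a → IsConj y x → ∃ f ∈ FF G a, f • b = x • b := fun x ha hx =>
    h.orb (fun e => h.bg.ne (smul_left_cancel x (ha.trans e.symm))) fun w hw hw' =>
      ⟨⁅w, x⁆, h.comm_mem hw' hw.1 hx ha, by
        have h1 : w⁻¹ • b = b := (inv_mem hw).2
        conv_rhs => rw [← hw.2]
        rw [← mul_smul, ← mul_smul, ← mul_smul, commutatorElement_def]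
        congr 1
        group⟩
  obtain ⟨g, ga, rfl⟩ := h.bg.two.two h.bg.ne (Ne.symm ca)
  refine h.orb ca fun x hx hx' => ?_
  obtain ⟨f, hf, e⟩ := key (g⁻¹ * x * g) (by rw [mul_smul, mul_smul, ga, hx.1, inv_smul_eq_iff, ga])
    (hx'.trans (isConj_iff.2 ⟨g⁻¹, by simp⟩))
  refine ⟨g * f * g⁻¹, h.ns.norm g ga f hf, ?_⟩
  rw [mul_smul, inv_smul_smul, mul_smul, e, ← mul_smul, ← mul_smul]
  congr 1
  group

end RH

end Reg

/-- A semiregular Fitting subgroup is regular. -/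
theorem BG.reg_FF (h : BG G Ω a b) (hr : ¬ HasReg G Ω) (hF : NS a (FF G a)) {c : Ω} (hc : c ≠ a) :
    ∃ f ∈ FF G a, f • b = c := by
  obtain ⟨t, ht⟩ := h.exists_sw
  obtain ⟨y, hy, hp, e⟩ := h.exists_inv hr ht
  exact Reg.RH.reg ⟨h, hF, ht, hy, hp, e⟩ hc

theorem BG.zl_or_rg (h : BG G Ω a b) (ih : IHG.{v} (Nat.card G)) (hr : ¬ HasReg G Ω)
    (hF : NS a (FF G a)) : ZL G Ω ∨ RG G Ω a b := by
  obtain ⟨t, ht⟩ := h.exists_sw
  obtain ⟨y, hy, hp, e⟩ := h.exists_inv hr ht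
  have H : Reg.RH G Ω a b t y := ⟨h, hF, ht, hy, hp, e⟩
  refine (h.simple_or ih hr ht hy hp e fun c hc => ?_).imp_right fun hs =>
    ⟨h, ih, hr, hF, fun c hc => H.reg hc, hs⟩
  by_cases ca : c = a
  · exact Or.inl ca
  obtain ⟨f, hf, rfl⟩ := H.reg ca
  have h1 : f⁻¹ * (y * f * y⁻¹) = 1 := hF.semi _ (mul_mem (inv_mem hf) (hF.norm y hy.1 f hf)) b
    h.ne.symm (by
      have h2 : y⁻¹ • b = b := (inv_mem hy).2
      rw [mul_smul, mul_smul, h2, mul_smul, hc, inv_smul_smul])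
  have h3 : f = 1 := H.fpf (IsConj.refl y) hy.1 hf (by
    rw [inv_mul_eq_one, eq_mul_inv_iff_mul_eq] at h1
    exact h1)
  rw [h3, one_smul]
  exact Or.inr rfl

end Cfsg.Agent.TT
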