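import Mathlib
import Cfsg.Agent.TT.BGLoc
import Cfsg.Agent.TT.BGFin
import Cfsg.Agent.TT.BGHH
import Cfsg.Agent.FG.SylowNormal
import Cfsg.Agent.Loc.CFTransfer
import Cfsg.Agent.GT.ExtraspecialDim

/-! The case of a regular Fitting subgroup of the point stabilizer: local structure. -/

set_option autoImplicit false
set_option linter.unusedSectionVars false

namespace Cfsg.Agent.TT

open Subgroup MulAction Cfsg.Agent.Perm Cfsg.Agent.Perm.TT Cfsg.Agent.Perm.TwoCount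
open scoped commutatorElement

universe u v

variable {G : Type u} {Ω : Type v} [Group G] [Finite G] [MulAction G Ω] [Finite Ω] {a b : Ω}

/-- The subgroup generated by the conjugates of `x` under `D`. -/
def ccl (D : Subgroup G) (x : G) : Subgroup G := closure {w | ∃ d ∈ D, d * x * d⁻¹ = w}

omit [Finite G] in
theorem conj_mem_ccl {D : Subgroup G} {x d : G} (hd : d ∈ D) : d * x * d⁻¹ ∈ ccl D x :=
  subset_closure ⟨d, hd, rfl⟩

omit [Finite G] in
theorem mem_ccl (D : Subgroup G) (x : G) : x ∈ ccl D x := by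
  simpa using conj_mem_ccl (x := x) D.one_mem

omit [Finite G] in
theorem ccl_le {D : Subgroup G} {x : G} (hx : x ∈ D) : ccl D x ≤ D :=
  (closure_le _).2 (by rintro _ ⟨d, hd, rfl⟩; exact mul_mem (mul_mem hd hx) (inv_mem hd))

theorem mem_norm_ccl {D : Subgroup G} {x g : G} (hg : ∀ d ∈ D, g * d * g⁻¹ ∈ D)
    (hx : ∃ d ∈ D, g * x * g⁻¹ = d * x * d⁻¹ ∨ g * x * g⁻¹ = (d * x * d⁻¹)⁻¹) :
    g ∈ normalizer (ccl D x : Set G) := by
  refine mem_normalizer_fintype fun w hw => ?_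
  have : ccl D x ≤ (ccl D x).comap (MulAut.conj g).toMonoidHom := (closure_le _).2 (by
    rintro _ ⟨d, hd, rfl⟩
    obtain ⟨e, he, hx⟩ := hx
    have h1 := conj_mem_ccl (x := x) (mul_mem (hg d hd) he)
    change g * (d * x * d⁻¹) * g⁻¹ ∈ ccl D x
    rw [show g * (d * x * d⁻¹) * g⁻¹ = g * d * g⁻¹ * (g * x * g⁻¹) * (g * d * g⁻¹)⁻¹ by group]
    rcases hx with hx | hx <;> rw [hx]
    · convert h1 using 1; group
    · convert inv_mem h1 using 1; group)
  exact this hw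

theorem le_norm_ccl (D : Subgroup G) (x : G) : D ≤ normalizer (ccl D x : Set G) := fun g hg =>
  mem_norm_ccl (fun _ hd => mul_mem (mul_mem hg hd) (inv_mem hg)) ⟨g, hg, Or.inl rfl⟩

omit [Finite G] in
theorem ccl_comm {D : Subgroup G} {x : G}
    (hc : ∀ d ∈ D, ∀ e ∈ D, Commute (d * x * d⁻¹) (e * x * e⁻¹)) :
    ∀ v ∈ ccl D x, ∀ w ∈ ccl D x, v * w = w * v := fun v hv w hw => by
  have h1 : ccl D x ≤ centralizer (ccl D x : Set G) := by
    refine (closure_le _).2 ?_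
    rintro _ ⟨d, hd, rfl⟩
    rw [SetLike.mem_coe, ccl, centralizer_closure]
    rintro _ ⟨e, he, rfl⟩
    exact (hc e he d hd).eq
  exact h1 hw v hv

omit [Finite G] in
theorem ccl_pow {D : Subgroup G} {x : G}
    (hc : ∀ d ∈ D, ∀ e ∈ D, Commute (d * x * d⁻¹) (e * x * e⁻¹)) {r : ℕ} (hr : x ^ r = 1) :
    ∀ v ∈ ccl D x, v ^ r = 1 := fun v hv => by
  induction hv using closure_induction with
  | mem w hw => obtain ⟨d, -, rfl⟩ := hw; rw [conj_pow, hr]; simp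
  | one => exact one_pow r
  | mul v w hv hw h1 h2 => rw [Commute.mul_pow (ccl_comm hc v hv w hw), h1, h2, one_mul]
  | inv v _ h1 => rw [inv_pow, h1, inv_one]

omit [Finite G] in
theorem eq_one_of_conj' {d x : G} (e : d⁻¹ * x * d = 1) : x = 1 := by
  rw [show x = d * (d⁻¹ * x * d) * d⁻¹ by group, e, mul_one, mul_inv_cancel]

omit [Finite G] in
theorem eq_one_of_two_primes {p q : ℕ} (hp : p.Prime) (hq : q.Prime) (hpq : p ≠ q)
    {A B : Subgroup G} (hA : IsPGroup p A) (hB : IsPGroup q B) {x : G} (h1 : x ∈ A) (h2 : x ∈ B) :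
    x = 1 :=
  haveI := Fact.mk hp
  haveI := Fact.mk hq
  mem_bot.1 ((IsPGroup.disjoint_of_ne p q hpq A B hA hB).le_bot ⟨h1, h2⟩)

theorem exists_other_prime {p : ℕ} {A : Subgroup G} (hA : ¬ IsPGroup p A) :
    ∃ q, q.Prime ∧ q ≠ p ∧ q ∣ Nat.card A := by
  by_contra hn
  exact hA (IsPGroup.of_card (Nat.eq_prime_pow_of_unique_prime_dvd Nat.card_pos.ne'
    fun {r} hr h1 => by_contra fun h2 => hn ⟨r, hr, h2, h1⟩))

omit [Finite G] in
theorem isPGroup_zpowers_prime {p : ℕ} {x : G} (hx : orderOf x = p) : IsPGroup p (zpowers x) :=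
  IsPGroup.of_card (n := 1) (by rw [Nat.card_zpowers, hx, pow_one])

omit [Finite G] in
theorem mem_cent_zpowers {x g : G} : g ∈ centralizer (zpowers x : Set G) ↔ Commute g x :=
  ⟨fun h => (h x (mem_zpowers x)).symm, fun h _ ⟨k, hk⟩ => hk ▸ (h.zpow_right k).eq.symm⟩

omit [Finite G] in
theorem comm_le_cent_cyc {S X : Subgroup G} (hS : IsCyclic S) (hX : X ≤ normalizer (S : Set G)) :
    ⁅X, X⁆ ≤ centralizer (S : Set G) := commutator_le.2 fun _ h1 _ h2 =>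
  GT.PG.commutatorElement_mem_centralizer_of_isCyclic hS (hX h1) (hX h2)

omit [Finite G] [Finite Ω] in
theorem smul_mem_fix {X : Subgroup G} {g : G} (hg : g ∈ normalizer (X : Set G)) {c : Ω}
    (hc : c ∈ fixedPoints X Ω) : g • c ∈ fixedPoints X Ω := fun x => by
  have := hc ⟨_, (mem_normalizer_iff''.1 hg x).1 x.2⟩
  change (g⁻¹ * x * g) • c = c at this
  change (x : G) • g • c = g • c
  rwa [mul_smul, mul_smul, inv_smul_eq_iff] at this

namespace RG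

variable (h : RG G Ω a b)
include h

omit [Finite G] [Finite Ω] in
theorem eq_one {f : G} (hf : f ∈ FF G a) (hb : f • b = b) : f = 1 :=
  h.ns.semi f hf b h.bg.ne.symm hb

omit [Finite G] [Finite Ω] in
theorem smul_ne {f : G} (hf : f ∈ FF G a) : f • b ≠ a := fun e =>
  h.bg.ne (MulAction.injective f ((h.ns.le hf : f • a = a).trans e.symm))

theorem pair {c d : Ω} (hcd : c ≠ d) : RG G Ω c d := by
  obtain ⟨g, rfl, rfl⟩ := h.bg.two.two h.bg.ne hcd
  refine ⟨h.bg.pair hcd, h.ih, h.hr, FF_conj g a ▸ h.ns.conj g, fun e he => ?_, h.simple⟩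
  obtain ⟨f, hf, e1⟩ := h.reg (g⁻¹ • e) fun e1 => he (inv_smul_eq_iff.1 e1)
  exact ⟨_, conj_mem_FF.2 hf, by simp [mul_smul, e1]⟩

theorem card_F : Nat.card (FF G a) + 1 = Nat.card Ω := by
  classical
  rw [← Nat.card_congr (Equiv.optionSubtypeNe a), Finite.card_option, add_left_inj]
  refine Nat.card_eq_of_bijective (fun f => ⟨(f : G) • b, h.smul_ne f.2⟩) ⟨fun f g e => ?_, fun c => ?_⟩
  · have e1 : (f : G) • b = (g : G) • b := congrArg Subtype.val e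
    exact Subtype.ext (inv_mul_eq_one.1 (h.eq_one (mul_mem (inv_mem f.2) g.2)
      (by rw [mul_smul, ← e1, inv_smul_smul])))
  · obtain ⟨f, hf, e⟩ := h.reg c c.2
    exact ⟨⟨f, hf⟩, Subtype.ext e⟩

theorem fix_iff {x f : G} (hx : x ∈ st2 G a b) (hf : f ∈ FF G a) :
    x • f • b = f • b ↔ Commute f x := by
  refine ⟨fun e => ?_, fun e => smul_fix_of_commute e hx.2⟩
  have := h.eq_one (mul_mem (inv_mem hf) (h.ns.norm x hx.1 f hf)) (by
    rw [mul_smul, mul_smul, mul_smul, (inv_mem hx).2, e, inv_smul_smul])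
  exact (mul_inv_eq_iff_eq_mul.1 (inv_mul_eq_one.1 this).symm).symm

theorem move {X : Subgroup G} (ha : a ∈ fixedPoints X Ω) (hb : b ∈ fixedPoints X Ω) {c : Ω}
    (hc : c ∈ fixedPoints X Ω) (ca : c ≠ a) :
    ∃ k ∈ centralizer (X : Set G), k • a = a ∧ k • b = c := by
  obtain ⟨f, hf, rfl⟩ := h.reg c ca
  exact ⟨f, fun x hx => ((h.fix_iff ⟨ha ⟨x, hx⟩, hb ⟨x, hx⟩⟩ hf).1 (hc ⟨x, hx⟩)).eq.symm,
    h.ns.le hf, rfl⟩

theorem t2 {X : Subgroup G} (hX : X ≤ st2 G a b) {f : G} (hf : f ∈ FF G a) (h1 : f ≠ 1)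
    (hc : f ∈ centralizer (X : Set G)) : T2 (centralizer (X : Set G)) (fixedPoints X Ω) := by
  have inv : ∀ g ∈ centralizer (X : Set G), ∀ c ∈ fixedPoints X Ω, g • c ∈ fixedPoints X Ω :=
    fun g hg c hc => smul_mem_fix (centralizer_le_normalizer _ hg) hc
  have ha : a ∈ fixedPoints X Ω := fun x => (hX x.2).1
  have hb : b ∈ fixedPoints X Ω := fun x => (hX x.2).2
  refine T2.of_base (a := a) (b := b) inv fun x hx y hy hxy => ?_
  obtain ⟨e, he, ea, ex⟩ := exists_third h.bg.ne (h.smul_ne hf) (fun e => h1 (h.eq_one hf e)) ha hb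
    (inv f hc b hb) a x
  obtain ⟨k, hk, -, rfl⟩ := (h.pair ea).move he ha hx ex.symm
  obtain ⟨k', hk', e1, e2⟩ := (h.pair ((MulAction.injective k).ne h.bg.ne)).move hx (inv k hk b hb)
    hy hxy.symm
  exact ⟨k' * k, mul_mem hk' hk, by rw [mul_smul, e1], by rw [mul_smul, e2]⟩

theorem exists_sw {X : Subgroup G} (hX : X ≤ st2 G a b) {f : G} (hf : f ∈ FF G a) (h1 : f ≠ 1)
    (hc : f ∈ centralizer (X : Set G)) : ∃ u ∈ Sw G a b, u ∈ centralizer (X : Set G) := by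
  have ha : a ∈ fixedPoints X Ω := fun x => (hX x.2).1
  have hb : b ∈ fixedPoints X Ω := fun x => (hX x.2).2
  obtain ⟨g, hg, e1, e2⟩ := (h.t2 hX hf h1 hc).tr a ha b hb b hb a ha h.bg.ne h.bg.ne.symm
  obtain ⟨u, hu, hs⟩ := h.bg.exists_sw_of_swap e1 e2
  exact ⟨u, hs, zpowers_le.2 hg hu⟩

theorem lx {X M : Subgroup G} (hX : X ≤ st2 G a b) (hX1 : X ≠ ⊥) {f : G} (hf : f ∈ FF G a)
    (h1 : f ≠ 1) (hc : f ∈ centralizer (X : Set G)) (hM : centralizer (X : Set G) ≤ M)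
    (hM' : M ≤ normalizer (X : Set G)) (hXM : X ≤ M) {t y : G} (ht : t ∈ M) (hts : t ∈ Sw G a b) (hy : y ∈ M)
    (hyD : y ∈ st2 G a b) (hy1 : y ≠ 1) (e : t * y * t⁻¹ = y⁻¹) :
    ∃ (K : Subgroup G) (p q : ℕ), LS a b M (fixedPoints X Ω) (FF G a ⊓ centralizer (X : Set G)) K p q ∧
      IsPGroup p ↥(FF G a ⊓ centralizer (X : Set G)) ∧ ¬ IsPGroup p (FF G a) := by
  have ha : a ∈ fixedPoints X Ω := fun x => (hX x.2).1
  have hb : b ∈ fixedPoints X Ω := fun x => (hX x.2).2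
  have t2 : T2 M (fixedPoints X Ω) := ⟨fun g hg c hc => smul_mem_fix (hM' hg) hc,
    fun p hp q hq p' hp' q' hq' e1 e2 =>
      let ⟨g, hg, e⟩ := (h.t2 hX hf h1 hc).tr p hp q hq p' hp' q' hq' e1 e2
      ⟨g, hM hg, e⟩⟩
  obtain ⟨x, hx, x1⟩ := (bot_or_exists_ne_one X).resolve_left hX1
  have hS : ∀ c ∈ fixedPoints X Ω, x • c = c := fun c hc => hc ⟨x, hx⟩
  obtain ⟨K, p, q, hL⟩ := h.bg.exists_ls h.ih (U := FF G a ⊓ centralizer (X : Set G)) t2 ha hb
    ⟨x, hXM hx, x1, hS⟩ (inf_le_right.trans hM) (inf_le_left.trans h.ns.le)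
    (fun g hg ga z hz => ⟨h.ns.norm g ga z hz.1,
      (conj_mem_cent fun w => (mem_normalizer_iff.1 (hM' hg) w).symm).2 hz.2⟩)
    (fun z hz c _ ca => h.ns.semi z hz.1 c ca) (fun e => h1 (mem_bot.1 (e.le ⟨hf, hc⟩))) ht hts hy
    hyD hy1 e
  obtain ⟨n, hn⟩ := hL.pow
  refine ⟨K, p, q, hL, IsPGroup.of_card (hL.cardU.trans hn), fun hp => ?_⟩
  have := Fact.mk hL.prime
  have := h.simple
  obtain ⟨m, hm⟩ := hp.exists_card_eq
  exact h.bg.false_of_pow hL (fun d hd => ((hL.memK t ht hts d).1 hd).2.1)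
    (m := m) (by rw [← h.card_F, hm]) (hXM hx) x1 ha hS

theorem F_ne {y : G} (hy : y ∈ st2 G a b) (h1 : y ≠ 1) : FF G a ≠ ⊥ := fun e =>
  h1 (h.bg.two.faith y fun c => by
    by_cases ca : c = a
    · exact ca ▸ hy.1
    · obtain ⟨f, hf, rfl⟩ := h.reg c ca
      rw [mem_bot.1 (e.le hf), one_smul, hy.2])

theorem exists_cent {p : ℕ} (hp : p.Prime) (h1 : p ∣ Nat.card (FF G a)) {X : Subgroup G}
    (hX : IsPGroup p X) (hD : X ≤ st2 G a b) :
    ∃ z ∈ FF G a, z ≠ 1 ∧ orderOf z = p ∧ z ∈ centralizer (X : Set G) := by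
  obtain ⟨z, hz, e, hc⟩ := h.bg.exists_cent h.ns hp h1 (GT.isNilpotent_fittingOf _) hX
    (hD.trans inf_le_left)
  exact ⟨z, hz, fun e1 => hp.one_lt.ne (by rw [← e, e1, orderOf_one]), e, hc⟩

theorem hyper {r : ℕ} (hr : r.Prime) {W : Subgroup G} (hW : W ≤ st2 G a b)
    (hc : ∀ x ∈ W, ∀ y ∈ W, x * y = y * x) (he : ∀ x ∈ W, x ^ r = 1)
    (hD : st2 G a b ≤ normalizer (W : Set G)) {t y : G} (ht : t ∈ Sw G a b)
    (_htW : t ∈ normalizer (W : Set G)) (hy : y ∈ W) (hy1 : y ≠ 1) (e : t * y * t⁻¹ = y⁻¹) :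
    W = zpowers y := by
  have := Fact.mk hr
  have hyr : orderOf y = r := orderOf_eq_prime (he y hy) hy1
  by_cases hcyc : IsCyclic W
  · refine (eq_of_le_of_card_ge (zpowers_le.2 hy) ?_).symm
    rw [Nat.card_zpowers, hyr, ← hcyc.exponent_eq_card]
    exact Nat.le_of_dvd hr.pos (Monoid.exponent_dvd_of_forall_pow_eq_one fun x =>
      Subtype.ext (he x x.2))
  exfalso
  have hrF : ¬ r ∣ Nat.card (FF G a) := fun h1 => by
    obtain ⟨z, hz, z1, -, hz'⟩ := h.exists_cent hr h1 (isPGroup_zpowers_prime hyr)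
      (zpowers_le.2 (hW hy))
    exact z1 (h.bg.eq_one_of_real h.ns (hW hy).1 hy1 e hz (mem_cent_zpowers.1 hz'))
  have key : ∀ p : ℕ, p.Prime → p ∣ Nat.card (FF G a) → W ⊓ centralizer {t} ≠ ⊥ ∧
      ∃ x ∈ PP G p a, x ≠ 1 ∧ x ∈ centralizer ((W ⊓ centralizer {t} : Subgroup G) : Set G) :=
    fun p hp hpF => by
    have := Fact.mk hp
    have hPF : PP G p a ≤ FF G a := GT.pCoreOf_le_fittingOf hp _
    have hPN : st2 G a b ≤ normalizer (PP G p a : Set G) :=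
      inf_le_left.trans (GT.le_normalizer_pCoreOf _)
    obtain ⟨V, hV, hV1, hcard, x, hx, x1, hxV⟩ := exists_hyper hr hc he hcyc (hW.trans hPN)
      (S0205.result ((h.bg.odd_stab a).of_dvd_nat (card_dvd_of_le (GT.pCoreOf_le _))))
      (fun h1 => hrF (h1.trans (card_dvd_of_le hPF))) (fun h1 => by
        obtain ⟨z, hz⟩ := exists_prime_orderOf_dvd_card' p hpF
        rw [← orderOf_coe] at hz
        have := h1.le (GT.le_pCoreOf_of_le_fittingOf (isPGroup_zpowers_prime hz)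
          (zpowers_le.2 z.2) (mem_zpowers _))
        rw [mem_bot.1 this, orderOf_one] at hz
        exact hp.one_lt.ne hz)
    obtain ⟨u, hu, huV⟩ := h.exists_sw (hV.trans hW) (hPF hx) x1 hxV
    obtain ⟨d, hd, rfl⟩ := h.bg.sw_conj ht hu
    replace hd := zpowers_le.2 (h.bg.sw_mul ht hu).1 hd
    have hle : V ≤ W ⊓ centralizer {d * t * d⁻¹} := fun v hv =>
      ⟨hV hv, mem_centralizer_singleton_iff.2 (huV v hv)⟩
    have hiff : ∀ w, d * w * d⁻¹ ∈ W ⊓ centralizer {d * t * d⁻¹} ↔ w ∈ W ⊓ centralizer {t} :=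
      fun w => and_congr (mem_normalizer_iff.1 (hD hd) w).symm (conj_mem_cent fun z => by simp)
    have heq : V = W ⊓ centralizer {d * t * d⁻¹} := by
      obtain ⟨k, hk⟩ := card_dvd_of_le hle
      have h2 := card_dvd_of_le (inf_le_left : W ⊓ centralizer {d * t * d⁻¹} ≤ W)
      rw [hcard, hk, mul_comm r] at h2
      rcases (Nat.dvd_prime hr).1 (Nat.dvd_of_mul_dvd_mul_left Nat.card_pos h2) with rfl | rfl
      · exact eq_of_le_of_card_ge hle (by rw [hk, mul_one])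
      · have h3 := eq_of_le_of_card_ge (inf_le_left : W ⊓ centralizer {d * t * d⁻¹} ≤ W)
          (by rw [hk, hcard, mul_comm])
        have h4 := ((hiff y).1 (h3.ge ((mem_normalizer_iff.1 (hD hd) y).1 hy))).2
        rw [← mem_centralizer_singleton_iff.1 h4, mul_inv_cancel_right] at e
        exact absurd (h.bg.eq_one_of_inv (hW hy).1 e) hy1
    refine ⟨fun h2 => hV1 ((eq_bot_iff_forall _).2 fun v hv => ?_), d⁻¹ * x * d,
      (mem_normalizer_iff''.1 (hPN hd) x).1 hx, fun e => x1 (eq_one_of_conj' e), ?_⟩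
    · exact eq_one_of_conj' (mem_bot.1 (h2.le ((hiff (d⁻¹ * v * d)).1
        (by simpa [mul_assoc] using hle hv))))
    · exact (conj_mem_cent (g := d) (Y := V) fun w => by rw [heq]; exact hiff w).1
        (by simpa [mul_assoc] using hxV)
  obtain ⟨p, hp, hpF⟩ := Nat.exists_prime_and_dvd (mt card_eq_one.1 (h.F_ne (hW hy) hy1))
  obtain ⟨h0, x, hx, x1, hxV⟩ := key p hp hpF
  obtain ⟨K, p', q, hL, hp', hn⟩ := h.lx (inf_le_left.trans hW) h0
    (GT.pCoreOf_le_fittingOf hp _ hx) x1 hxV le_rfl (centralizer_le_normalizer _)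
    (fun v hv w hw => hc w hw.1 v hv.1) (t := t)
    (fun w hw => mem_centralizer_singleton_iff.1 hw.2) ht (fun w hw => hc w hw.1 y hy) (hW hy) hy1 e
  obtain ⟨s, hs, hsp, hsF⟩ := exists_other_prime hn
  obtain ⟨-, z, hz, z1, hzV⟩ := key s hs hsF
  exact z1 (eq_one_of_two_primes hs hL.prime hsp (GT.isPGroup_pCoreOf s _) hp' hz
    ⟨GT.pCoreOf_le_fittingOf hs _ hz, hzV⟩)

theorem KK_le_cent {X : Set G}
    (hX : ∀ t ∈ Sw G a b, ∀ u ∈ Sw G a b, t * u ∈ centralizer X) : KK G a b ≤ centralizer X :=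
  (closure_le _).2 fun k ⟨hk, t, ht, e⟩ => by
    have := hX t ht _ (h.bg.mul_sw ht hk e)
    rwa [← mul_assoc, mul_self_two ht.1, one_mul] at this

theorem exists_y : ∃ y ∈ st2 G a b, (orderOf y).Prime ∧ (∀ t ∈ Sw G a b, t * y * t⁻¹ = y⁻¹) ∧
    (∀ x ∈ ⁅st2 G a b, st2 G a b⁆, Commute x y) ∧ ∀ x ∈ KK G a b, Commute x y := by
  obtain ⟨t, ht⟩ := h.bg.exists_sw
  obtain ⟨y, hy, hp, e⟩ := h.bg.exists_inv h.hr ht
  have hy1 : y ≠ 1 := fun e => hp.one_lt.ne (by rw [e, orderOf_one])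
  have hfpf : ∀ d ∈ st2 G a b, ∀ x ∈ FF G a, Commute x (d * y * d⁻¹) → x = 1 := fun d hd x hx =>
    h.bg.eq_one_of_real h.ns (mul_mem (mul_mem hd hy) (inv_mem hd)).1 (by simpa using hy1)
      (g := d * t * d⁻¹) (by rw [conj_inv (b := d) (a := y), ← e]; group) hx
  have hc : ∀ d ∈ st2 G a b, ∀ e ∈ st2 G a b, Commute (d * y * d⁻¹) (e * y * e⁻¹) :=
    fun d hd e he => by
    have h1 := mul_mem (mul_mem hd hy) (inv_mem hd)
    have h2 := mul_mem (mul_mem he hy) (inv_mem he)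
    exact commutatorElement_eq_one_iff_commute.1 (h.eq_one (hh_fitting (h.bg.odd_stab a) hp h1.1
      h2.1 ((MulAut.conj d).orderOf_eq y) ((MulAut.conj e).orderOf_eq y) (hfpf d hd) (hfpf e he))
      (commutator_le_self _ (commutator_mem_commutator h1 h2)).2)
  have hW := h.hyper hp (ccl_le hy) (ccl_comm hc) (ccl_pow hc (pow_orderOf_eq_one y))
    (le_norm_ccl _ y) ht (mem_norm_ccl (fun d hd => h.bg.conj_mem ht hd)
      ⟨1, one_mem _, Or.inr (by simpa using e)⟩) (mem_ccl _ y) hy1 e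
  have hN : st2 G a b ≤ normalizer (zpowers y : Set G) := hW ▸ le_norm_ccl _ y
  have hinv : ∀ u ∈ Sw G a b, u * y * u⁻¹ = y⁻¹ := fun u hu => by
    obtain ⟨d, hd, rfl⟩ := h.bg.sw_conj ht hu
    obtain ⟨k, hk⟩ := (mem_normalizer_iff''.1 (hN (zpowers_le.2 (h.bg.sw_mul ht hu).1 hd)) y).1
      (mem_zpowers y)
    simp only at hk
    calc _ = d * (t * (d⁻¹ * y * d) * t⁻¹) * d⁻¹ := by group
      _ = _ := by rw [← hk, ← conj_zpow, e, inv_zpow, hk]; group
  refine ⟨y, hy, hp, hinv, fun x hx => mem_cent_zpowers.1 (comm_le_cent_cyc inferInstance hN hx),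
    fun x hx => mem_centralizer_singleton_iff.1 (h.KK_le_cent (fun u hu w hw => ?_) hx)⟩
  rw [mem_centralizer_singleton_iff, ← mul_inv_eq_iff_eq_mul,
    show u * w * y * (u * w)⁻¹ = u * (w * y * w⁻¹) * u⁻¹ by group, hinv w hw, ← conj_inv, hinv u hu,
    inv_inv]

omit [Finite G] [Finite Ω] in
theorem dec {g : G} (hg : g • a = a) : ∃ f ∈ FF G a, ∃ d ∈ st2 G a b, g = f * d := by
  obtain ⟨f, hf, e⟩ := h.reg (g • b) fun e => h.bg.ne (MulAction.injective g (hg.trans e.symm))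
  exact ⟨f, hf, f⁻¹ * g, ⟨(stabilizer G a).mul_mem (inv_mem (h.ns.le hf)) hg,
    show (f⁻¹ * g) • b = b by rw [mul_smul, ← e, inv_smul_smul]⟩, by group⟩

theorem mem_comm {p k : ℕ} (hp : p.Prime) (hF : p ∣ Nat.card (FF G a)) {x : G}
    (hx : x ∈ st2 G a b) (hk : x ^ p ^ k = 1) : x ∈ ⁅st2 G a b, st2 G a b⁆ := by
  have := Fact.mk hp
  have := h.simple
  have := h.bg.two.isPretransitive
  have hD : ⁅st2 G a b, st2 G a b⁆ ≤ st2 G a b := commutator_le_self _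
  let Q : Subgroup G :=
    { carrier := {g | ∃ f ∈ FF G a, ∃ d ∈ ⁅st2 G a b, st2 G a b⁆, g = f * d}
      one_mem' := ⟨1, one_mem _, 1, one_mem _, by simp⟩
      mul_mem' := by
        rintro _ _ ⟨f, hf, d, hd, rfl⟩ ⟨f', hf', d', hd', rfl⟩
        exact ⟨_, mul_mem hf (h.ns.norm d (hD hd).1 f' hf'), _, mul_mem hd hd', by group⟩
      inv_mem' := by
        rintro _ ⟨f, hf, d, hd, rfl⟩
        exact ⟨_, h.ns.norm d⁻¹ (inv_mem (hD hd)).1 _ (inv_mem hf), _, inv_mem hd, by group⟩ }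
  have hQ : ∀ u : G, u • a = a → ∀ m : G, m • a = a → ⁅u, m⁆ ∈ Q := fun u hu m hm => by
    obtain ⟨f, hf, d, hd, rfl⟩ := h.dec hu
    obtain ⟨f', hf', d', hd', rfl⟩ := h.dec hm
    have h1 := commutator_mem_commutator hd hd'
    exact ⟨_, mul_mem (mul_mem (mul_mem hf (h.ns.norm d hd.1 f' hf')) (h.ns.norm _
      (mul_mem (mul_mem hd hd') (inv_mem hd)).1 _ (inv_mem hf))) (h.ns.norm _ (hD h1).1 _
      (inv_mem hf')), _, h1, by simp only [commutatorElement_def]; group⟩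
  have h1 : ¬ p ∣ (stabilizer G a).index := by
    rw [index_stabilizer_of_transitive, ← h.card_F]
    exact fun h2 => hp.one_lt.ne' (Nat.dvd_one.1 ((Nat.dvd_add_right hF).1 h2))
  have pz : ∀ {u : G} {k : ℕ}, u ^ p ^ k = 1 → IsPGroup p (zpowers u) := fun {u k} hu => by
    obtain ⟨j, -, hj⟩ := (Nat.dvd_prime_pow hp).1 (orderOf_dvd_of_pow_eq_one hu)
    exact IsPGroup.of_card (by rw [Nat.card_zpowers, hj])
  obtain ⟨P, hxP, hP⟩ := FG.H96.exists_sylow_le_of_not_dvd_index h1 (pz hk) (zpowers_le.2 hx.1)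
  have h2 : ⁅(⊤ : Subgroup G), (⊤ : Subgroup G)⁆ = ⊤ := by
    refine (IsSimpleGroup.eq_bot_or_eq_top_of_normal _ inferInstance).resolve_left fun e => ?_
    exact h.bg.noncomm h.hr ⟨⟨fun x y =>
      commutator_eq_bot_iff_le_centralizer.1 e (mem_top y) x (mem_top x)⟩⟩
  obtain ⟨f, hf, d, hd, e⟩ : x ∈ Q := by
    refine Loc.CF.inf_commutator_le_of_focal P (fun u hu g hg => ?_)
      ⟨hxP (mem_zpowers x), h2.ge (mem_top x)⟩
    obtain ⟨j, hj⟩ := P.2 ⟨u, hu⟩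
    obtain ⟨c, hc, e⟩ := (h.bg.t1_of_pgroup h.ns hp hF (GT.isNilpotent_fittingOf _)
      (pz (congrArg Subtype.val hj))).tr a (BZ.mem_fix_zpowers.2 (hP hu)) (g⁻¹ • a)
      (BZ.mem_fix_zpowers.2 (conj_smul_iff'.1 (hP hg)))
    have h3 := hQ u⁻¹ (inv_mem (hP hu)) (g * c) (by rw [mul_smul, e, smul_inv_smul])
    have h4 : c * u * c⁻¹ = u := mul_inv_eq_iff_eq_mul.2 (mem_cent_zpowers.1 hc).eq
    convert h3 using 1
    rw [commutatorElement_def]
    nth_rewrite 2 [← h4]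
    group
  have h3 := h.eq_one hf (by
    rw [← mul_inv_eq_iff_eq_mul] at e
    exact e ▸ (mul_mem hx (inv_mem (hD hd))).2)
  rwa [e, h3, one_mul]

end RG

end Cfsg.Agent.TT
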