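import Mathlib
import Cfsg.Agent.TT.BGTwo
import Cfsg.Agent.GT.FrobeniusBasic

/-! The case of a regular Fitting subgroup of the point stabilizer: no element fixes three points. -/

set_option autoImplicit false
set_option linter.unusedSectionVars false

namespace Cfsg.Agent.TT

open Subgroup MulAction Cfsg.Agent.Perm Cfsg.Agent.Perm.TT Cfsg.Agent.Perm.TwoCount
open scoped commutatorElement

universe u v

variable {G : Type u} {Ω : Type v} [Group G] [Finite G] [MulAction G Ω] [Finite Ω] {a b : Ω}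

theorem eq_one_of_pPrime {p : ℕ} (hp : p.Prime) {A F : Subgroup G} (hA : IsPGroup p A) {x : G}
    (h1 : x ∈ A) (h2 : x ∈ GT.pPrimeCoreOf p F) : x = 1 := by
  have := Fact.mk hp
  obtain ⟨k, hk⟩ := hA.exists_card_eq
  exact orderOf_eq_one_iff.1 (Nat.eq_one_of_dvd_coprimes
    ((GT.coprime_card_pPrimeCoreOf p F).pow_right k) (orderOf_dvd_natCard _ h2)
    (hk ▸ orderOf_dvd_natCard _ h1))

theorem card_pPrime {p : ℕ} (hp : p.Prime) {F : Subgroup G} (hF : Group.IsNilpotent F) {j m : ℕ}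
    (hc : Nat.card F = p ^ j * m) (hm : ¬ p ∣ m) : Nat.card (GT.pPrimeCoreOf p F) = m := by
  have := Fact.mk hp
  obtain ⟨k, hk⟩ := (GT.isPGroup_pCoreOf p F).exists_card_eq
  have h1 := GT.card_sup_dvd_of_le_normalizer
    ((GT.pCoreOf_le (p := p) F).trans (GT.le_normalizer_pPrimeCoreOf (p := p) F))
  rw [GT.pCoreOf_sup_pPrimeCoreOf, hc, hk] at h1
  refine Nat.dvd_antisymm (((GT.coprime_card_pPrimeCoreOf p F).pow_right j).dvd_of_dvd_mul_left
    (hc ▸ card_dvd_of_le (GT.pPrimeCoreOf_le F))) ?_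
  exact ((hp.coprime_iff_not_dvd.2 hm).symm.pow_right k).dvd_of_dvd_mul_left
    ((dvd_mul_left _ _).trans h1)

theorem pPrime_ne_bot {p : ℕ} {F : Subgroup G} (hF : Group.IsNilpotent F) (hn : ¬ IsPGroup p F) :
    GT.pPrimeCoreOf p F ≠ ⊥ := fun e => hn (by
  have := GT.pCoreOf_sup_pPrimeCoreOf p F
  rw [e, sup_bot_eq] at this
  exact this ▸ GT.isPGroup_pCoreOf p F)

namespace RG

variable (h : RG G Ω a b)
include h

theorem le_norm : st2 G a b ≤ normalizer (FF G a : Set G) :=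
  inf_le_left.trans (GT.le_normalizer_fittingOf _)

theorem le_norm' (p : ℕ) : st2 G a b ≤ normalizer (GT.pPrimeCoreOf p (FF G a) : Set G) :=
  h.le_norm.trans (GT.normalizer_le_normalizer_pPrimeCoreOf _)

theorem oddF : Odd (Nat.card (FF G a)) := (h.bg.odd_stab a).of_dvd_nat (card_dvd_of_le h.ns.le)

theorem lemL {y : G} (hy : y ∈ st2 G a b) (hp : (orderOf y).Prime)
    (hinv : ∀ t ∈ Sw G a b, t * y * t⁻¹ = y⁻¹) {x f : G} (hx : x ∈ st2 G a b) (x1 : x ≠ 1)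
    (hxy : Commute x y) (hf : f ∈ FF G a) (f1 : f ≠ 1) (hc : Commute f x) :
    ∃ p : ℕ, p.Prime ∧ IsPGroup p ↥(FF G a ⊓ centralizer (zpowers x : Set G)) ∧
      ¬ IsPGroup p (FF G a) := by
  obtain ⟨u, hu, huc⟩ := h.exists_sw (zpowers_le.2 hx) hf f1 (mem_cent_zpowers.2 hc)
  obtain ⟨K, p, q, hL, h1, h2⟩ := h.lx (zpowers_le.2 hx) (mt zpowers_eq_bot.1 x1) hf f1
    (mem_cent_zpowers.2 hc) le_rfl (centralizer_le_normalizer _)
    (zpowers_le.2 (mem_cent_zpowers.2 (Commute.refl x))) huc hu (mem_cent_zpowers.2 hxy.symm) hy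
    (fun e => hp.one_lt.ne (by rw [e, orderOf_one])) (hinv u hu)
  exact ⟨p, hL.prime, h1, h2⟩

end RG

theorem RG.not_star (h : RG G Ω a b) : ¬ Star G a b := by
  rintro ⟨Y, hY1, hY, hDY, hSY, f, hf, f1, hfY⟩
  obtain ⟨y, hy, hp, hinv, hyc, -⟩ := h.exists_y
  obtain ⟨t, ht⟩ := h.bg.exists_sw
  obtain ⟨K, p, q, hL, hU, hn⟩ := h.lx hY hY1 hf f1 hfY (centralizer_le_normalizer _) le_rfl
    le_normalizer (hSY t ht) ht (hDY hy) hy (fun e => hp.one_lt.ne (by rw [e, orderOf_one]))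
    (hinv t ht)
  have := Fact.mk hL.prime
  have hb : b ∈ fixedPoints Y Ω := fun x => (hY x.2).2
  have hK : KK G a b = K := le_antisymm
    ((closure_le _).2 fun k ⟨hk, u, hu, e⟩ => (hL.memK u (hSY u hu) hu k).2 ⟨hDY hk, hk, e⟩)
    fun k hk => let ⟨_, h1, h2⟩ := (hL.memK t (hSY t ht) ht k).1 hk; subset_closure ⟨h1, t, ht, h2⟩
  have hKD : K ≤ st2 G a b := hK ▸ KK_le a b
  have hDK : ⁅st2 G a b, st2 G a b⁆ ≤ centralizer (K : Set G) := comm_le_cent_cyc hL.cyc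
    fun d hd => mem_normalizer_fintype fun k hk => by
      have := conj_mem_KK' d (hK.ge hk)
      rwa [hd.1, hd.2, hK] at this
  have M : ∀ x ∈ ⁅st2 G a b, st2 G a b⁆, x ≠ 1 → ∀ g ∈ FF G a, g ≠ 1 → Commute g x →
      IsPGroup p ↥(FF G a ⊓ centralizer (zpowers x : Set G)) := fun x hx x1 g hg g1 hc => by
    have hxD : x ∈ st2 G a b := commutator_le_self _ hx
    obtain ⟨k, hk, e⟩ := hL.centK x (hDY hxD) hxD fun z hz => (hDK hx z hz).symm
    obtain ⟨u, hu, huc⟩ := h.exists_sw (zpowers_le.2 hxD) hg g1 (mem_cent_zpowers.2 hc)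
    have h1 := hL.cent u (hSY u hu) (isPGroup_zpowers_prime hu.1) (k⁻¹ * x)
      (hDY (mul_mem (inv_mem (hKD hk)) hxD)) fun c hc => by rw [mul_smul, e c hc, inv_smul_smul]
    have h2 : Commute u k⁻¹ := by
      simpa using h1.mul_right (mem_cent_zpowers.1 huc).inv_right
    have h3 := ((hL.memK u (hSY u hu) hu k).1 hk).2.2
    rw [(Commute.inv_right_iff.1 h2).eq, mul_inv_cancel_right] at h3
    have h4 := h.bg.eq_one_of_inv (hKD hk).1 h3
    have h5 : Commute f x := (h.fix_iff hxD hf).1 (by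
      rw [e _ (smul_mem_fix (centralizer_le_normalizer _ hfY) hb), h4, one_smul])
    obtain ⟨p', hp', h6, -⟩ := h.lemL hy hp hinv hxD x1 (hyc x hx) hf f1 h5
    by_cases e : p = p'
    · exact e ▸ h6
    · exact absurd (eq_one_of_two_primes hL.prime hp' e hU h6 ⟨hf, hfY⟩
        ⟨hf, mem_cent_zpowers.2 h5⟩) f1
  obtain ⟨j, m, hm, hF⟩ := Nat.exists_eq_pow_mul_and_not_dvd (n := Nat.card (FF G a))
    Nat.card_pos.ne' p hL.prime.ne_one
  have hpF : p ∣ Nat.card (FF G a) := by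
    obtain ⟨k, hk⟩ := hU.exists_card_eq
    rcases k with _ | k
    · exact absurd (mem_bot.1 ((card_eq_one.1 hk).le ⟨hf, hfY⟩)) f1
    · exact (hk ▸ dvd_pow_self p k.succ_ne_zero).trans (card_dvd_of_le inf_le_left)
  have hKK := h.eq_of_split hL.prime hF hm (fun e => hn (IsPGroup.of_card (by rw [hF, e, mul_one])))
    (Nat.coprime_of_dvd fun s hs h1 h2 => by
      have := Fact.mk hs
      obtain ⟨x, hx⟩ := exists_prime_orderOf_dvd_card' s h2
      rw [← orderOf_coe] at hx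
      have hsF : s ∣ Nat.card (FF G a) := hF ▸ h1.mul_left _
      obtain ⟨z, hz, z1, hzs, hzc⟩ := h.exists_cent hs hsF (isPGroup_zpowers_prime hx)
        (zpowers_le.2 x.2)
      exact z1 (eq_one_of_two_primes hs hL.prime (fun e => hm (e ▸ h1)) (isPGroup_zpowers_prime hzs)
        (M x (h.mem_comm (k := 1) hs hsF x.2 (by rw [pow_one, ← hx, pow_orderOf_eq_one]))
          (fun e => hs.one_lt.ne (by rw [← hx, e, orderOf_one])) z hz z1 (mem_cent_zpowers.1 hzc))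
        (mem_zpowers z) ⟨hz, hzc⟩))
    fun i hi => by
      obtain ⟨R, hR⟩ := Sylow.exists_subgroup_card_pow_prime p hi
      rw [← card_map_of_injective (subtype_injective _)] at hR
      rw [← hR, ← card_pPrime hL.prime (GT.isNilpotent_fittingOf _) hF hm]
      refine GT.Frob.card_dvd_card_sub_one_of_fpf ((map_subtype_le R).trans (h.le_norm' p))
        fun x hx x1 => (eq_bot_iff_forall _).2 fun g hg => by_contra fun g1 => g1 ?_
      have hgF := GT.pPrimeCoreOf_le _ hg.1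
      have hc : Commute g x := mem_centralizer_singleton_iff.1 hg.2
      exact eq_one_of_pPrime hL.prime (M x (h.mem_comm (k := i) hL.prime hpF (map_subtype_le R hx)
        (orderOf_dvd_iff_pow_eq_one.1 (hR ▸ orderOf_dvd_natCard _ hx))) x1 g hgF g1 hc)
        ⟨hgF, mem_cent_zpowers.2 hc⟩ hg.1
  obtain ⟨x, hx, x1⟩ := (bot_or_exists_ne_one Y).resolve_left hY1
  have hfb := smul_mem_fix (centralizer_le_normalizer _ hfY) hb
  exact (hL.fixK x (hK.le (hKK.ge (hY hx))) x1 _ hfb (hfb ⟨x, hx⟩)).elim (h.smul_ne hf)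
    fun e => f1 (h.eq_one hf e)

theorem RG.eq_bot (h : RG G Ω a b) {Y : Subgroup G} (hY : Y ≤ st2 G a b)
    (hD : st2 G a b ≤ normalizer (Y : Set G)) {f : G} (hf : f ∈ FF G a) (f1 : f ≠ 1)
    (hc : f ∈ centralizer (Y : Set G)) : Y = ⊥ := by
  refine by_contra fun hn => h.not_star ⟨Y, hn, hY, hD, fun t ht => ?_, f, hf, f1, hc⟩
  obtain ⟨u, hu, huc⟩ := h.exists_sw hY hf f1 hc
  obtain ⟨d, hd, rfl⟩ := h.bg.sw_conj hu ht
  replace hd := hD (zpowers_le.2 (h.bg.sw_mul hu ht).1 hd)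
  exact mul_mem (mul_mem hd (centralizer_le_normalizer _ huc)) (inv_mem hd)

theorem RG.core_bot (h : RG G Ω a b) {s : ℕ} (hs : s.Prime) (hF : s ∣ Nat.card (FF G a)) :
    pCoreOf s (st2 G a b) = ⊥ :=
  let ⟨_, hz, z1, _, hc⟩ := h.exists_cent hs hF (GT.isPGroup_pCoreOf s _) (GT.pCoreOf_le _)
  h.eq_bot (GT.pCoreOf_le _) (GT.le_normalizer_pCoreOf _) hz z1 hc

theorem RG.faith' (h : RG G Ω a b) {p : ℕ} (hn : ¬ IsPGroup p (FF G a)) :
    st2 G a b ⊓ centralizer (GT.pPrimeCoreOf p (FF G a) : Set G) = ⊥ := by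
  obtain ⟨f, hf, f1⟩ := (bot_or_exists_ne_one _).resolve_left
    (pPrime_ne_bot (GT.isNilpotent_fittingOf _) hn)
  refine h.eq_bot inf_le_left (fun d hd => mem_normalizer_fintype fun x hx => ?_)
    (GT.pPrimeCoreOf_le _ hf) f1 fun x hx => (hx.2 f hf).symm
  exact ⟨(st2 G a b).mul_mem ((st2 G a b).mul_mem hd hx.1) (inv_mem hd),
    (conj_mem_cent fun w => (mem_normalizer_iff.1 (h.le_norm' p hd) w).symm).2 hx.2⟩

theorem RG.cop (h : RG G Ω a b) : (Nat.card (FF G a)).Coprime (Nat.card (st2 G a b)) := by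
  obtain ⟨y, hy, hp, hinv, hyc, -⟩ := h.exists_y
  refine Nat.coprime_of_dvd fun p hpp h1 h2 => ?_
  have := Fact.mk hpp
  obtain ⟨⟨x, hx⟩, ho⟩ := exists_prime_orderOf_dvd_card' p h2
  replace ho : orderOf x = p := (orderOf_coe _).trans ho
  have x1 : x ≠ 1 := fun e => hpp.one_lt.ne (by rw [← ho, e, orderOf_one])
  obtain ⟨z, hz, z1, hzp, hzc⟩ := h.exists_cent hpp h1 (isPGroup_zpowers_prime ho) (zpowers_le.2 hx)
  obtain ⟨p', hp', h3, h4⟩ := h.lemL hy hp hinv hx x1 (hyc x (h.mem_comm (k := 1) hpp h1 hx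
    (by rw [pow_one, ← ho, pow_orderOf_eq_one]))) hz z1 (mem_cent_zpowers.1 hzc)
  obtain rfl : p = p' := by_contra fun e => z1 (eq_one_of_two_primes hpp hp' e
    (isPGroup_zpowers_prime hzp) h3 (mem_zpowers z) ⟨hz, hzc⟩)
  have h5 : fittingOf (st2 G a b) ≤ centralizer {x} := by
    rw [GT.fittingOf_eq_iSup_pCoreOf]
    refine iSup_le fun s => ?_
    by_cases hs : (s : ℕ) ∣ Nat.card (FF G a)
    · rw [h.core_bot s.2 hs]
      exact bot_le
    have := Fact.mk s.2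
    have hQ : pCoreOf s (st2 G a b) ≤ st2 G a b := GT.pCoreOf_le _
    have hU := card_dvd_of_le (GT.pPrimeCoreOf_le (p := p) (FF G a))
    obtain ⟨k, hk⟩ := (GT.isPGroup_pCoreOf s (st2 G a b)).exists_card_eq
    exact fun w hw => mem_centralizer_singleton_iff.2 (hh_coprime hpp ho
      ((h.bg.odd.of_dvd_nat (card_dvd_of_le hQ)).mul (h.bg.odd.of_dvd_nat h2))
      (fun e => hs ((Nat.prime_dvd_prime_iff_eq hpp s.2).1 (hpp.dvd_of_dvd_pow (hk ▸ e)) ▸ h1))
      (GT.le_normalizer_pCoreOf _ hx) (hQ.trans (h.le_norm' p)) (h.le_norm' p hx)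
      (S0205.result (h.oddF.of_dvd_nat hU))
      (Nat.Coprime.mul_right (hk ▸ ((s.2.coprime_iff_not_dvd.2 fun e => hs (e.trans hU)).symm.pow_right k))
        (GT.coprime_card_pPrimeCoreOf p _))
      (fun g hg hc => eq_one_of_pPrime hpp h3 ⟨GT.pPrimeCoreOf_le _ hg, mem_cent_zpowers.2 hc⟩ hg)
      (eq_bot_iff.2 ((inf_le_inf_right _ hQ).trans (h.faith' h4).le)) w hw)
  have := S0205.result h.bg.odd
  have h6 := GT.le_pCoreOf_of_le_fittingOf (isPGroup_zpowers_prime ho) (zpowers_le.2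
    (GT.inf_centralizer_fittingOf_le _ ⟨hx, fun w hw => mem_centralizer_singleton_iff.1 (h5 hw)⟩))
  exact x1 (mem_bot.1 ((h.core_bot hpp h1).le (h6 (mem_zpowers x))))

theorem RG.three (h : RG G Ω a b) : Three G Ω := by
  intro g a' b' c' h1 h2 h3 ha hb hc
  by_contra g1
  replace h := h.pair h1
  obtain ⟨x, hxg, hs⟩ := exists_prime_pow' (isOfFinOrder_of_finite g) g1
  have hx : x ∈ st2 G a' b' := ⟨pow_smul_fix ha hxg, pow_smul_fix hb hxg⟩
  have x1 : x ≠ 1 := fun e => hs.one_lt.ne (by rw [e, orderOf_one])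
  obtain ⟨f, hf, rfl⟩ := h.reg c' h3.symm
  have f1 : f ≠ 1 := fun e => h2 (by rw [e, one_smul])
  have hfx := (h.fix_iff hx hf).1 (pow_smul_fix hc hxg)
  have hKK := h.eq_of_cop h.cop
  obtain ⟨y, hy, hp, hinv, -, hyc⟩ := h.exists_y
  obtain ⟨p, hpp, h4, h5⟩ := h.lemL hy hp hinv hx x1 (hyc x (hKK.ge hx)) hf f1 hfx
  have hU := GT.pPrimeCoreOf_le (p := p) (FF G a')
  have hfpf : ∀ d ∈ st2 G a' b', ∀ z ∈ GT.pPrimeCoreOf p (FF G a'), Commute z (d * x * d⁻¹) →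
      z = 1 := fun d hd z hz hc => by
    have h6 := (mem_normalizer_iff''.1 (h.le_norm' p hd) z).1 hz
    refine eq_one_of_conj' (eq_one_of_pPrime hpp h4 ⟨hU h6, mem_cent_zpowers.2 ?_⟩ h6)
    simpa [mul_assoc] using hc.map (MulAut.conj d⁻¹)
  have hcm : ∀ d ∈ st2 G a' b', ∀ e ∈ st2 G a' b', Commute (d * x * d⁻¹) (e * x * e⁻¹) :=
    fun d hd e he => hh_faithful (h.bg.odd.mul (h.oddF.of_dvd_nat (card_dvd_of_le hU)))
      (h.le_norm' p) (haveI : Group.IsNilpotent (FF G a') := GT.isNilpotent_fittingOf _;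
        Group.nilpotent_of_mulEquiv (subgroupOfEquivOfLe hU))
      (h.cop.coprime_dvd_left (card_dvd_of_le hU)) (h.faith' h5) hs
      (mul_mem (mul_mem hd hx) (inv_mem hd)) (mul_mem (mul_mem he hx) (inv_mem he))
      ((MulAut.conj d).orderOf_eq x) ((MulAut.conj e).orderOf_eq x) (hfpf d hd) (hfpf e he)
  obtain ⟨u, hu, huc⟩ := h.exists_sw (zpowers_le.2 hx) hf f1 (mem_cent_zpowers.2 hfx)
  have hux : u * x * u⁻¹ = x := mul_inv_eq_iff_eq_mul.2 (mem_cent_zpowers.1 huc).eq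
  have huW : u ∈ normalizer (ccl (st2 G a' b') x : Set G) :=
    mem_norm_ccl (fun d hd => h.bg.conj_mem hu hd) ⟨1, one_mem _, Or.inl (by simpa using hux)⟩
  by_cases hW : u ∈ centralizer (ccl (st2 G a' b') x : Set G)
  · have h6 : ∀ t ∈ Sw G a' b', t ∈ centralizer (ccl (st2 G a' b') x : Set G) := fun t ht => by
      obtain ⟨d, hd, rfl⟩ := h.bg.sw_conj hu ht
      exact (conj_mem_cent fun w => (mem_normalizer_iff.1 (le_norm_ccl _ x
        (zpowers_le.2 (h.bg.sw_mul hu ht).1 hd)) w).symm).2 hW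
    have h7 := h.KK_le_cent fun t ht w hw => mul_mem (h6 t ht) (h6 w hw)
    exact x1 (zpowers_eq_bot.1 (h.eq_bot (zpowers_le.2 hx) (fun d hd => centralizer_le_normalizer _
      (mem_cent_zpowers.2 (h7 (hKK.ge hd) x (mem_ccl _ x)).symm)) hf f1 (mem_cent_zpowers.2 hfx)))
  obtain ⟨w, hw, hne⟩ : ∃ w ∈ ccl (st2 G a' b') x, u * w * u⁻¹ * w⁻¹ ≠ 1 := by
    by_contra hn
    exact hW fun w hw => (mul_inv_eq_iff_eq_mul.1 (mul_inv_eq_one.1
      (by_contra fun e => hn ⟨w, hw, e⟩))).symm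
  have e : u * (u * w * u⁻¹ * w⁻¹) * u⁻¹ = (u * w * u⁻¹ * w⁻¹)⁻¹ := by
    simp only [inv_two hu.1, mul_inv_rev, inv_inv, ← mul_assoc, mul_self_two hu.1, one_mul]
  obtain ⟨k, hk⟩ := (h.hyper hs (ccl_le hx) (ccl_comm hcm) (ccl_pow hcm (pow_orderOf_eq_one x))
    (le_norm_ccl _ x) hu huW (mul_mem ((mem_normalizer_iff.1 huW w).1 hw) (inv_mem hw)) hne e).le
    (mem_ccl _ x)
  simp only at hk
  refine x1 (h.bg.eq_one_of_inv hx.1 ?_)
  rw [← hux]
  nth_rewrite 2 [hux]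
  rw [← hk, ← conj_zpow, e, inv_zpow]

end Cfsg.Agent.TT
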