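import Mathlib
import Cfsg.Agent.TT.BGOneB
import Cfsg.Agent.TT.BGReg
import Cfsg.Agent.TT.BGTwoB

/-!
# Bender's theorem on doubly transitive groups whose involutions fix no point
-/

set_option autoImplicit false

namespace Cfsg.Agent.TT

open Subgroup MulAction Cfsg.Agent.Perm Cfsg.Agent.Perm.TT Cfsg.Agent.Perm.TwoCount

universe u v

variable {G : Type u} {Ω : Type v} [Group G] [Finite G] [MulAction G Ω] [Finite Ω] {a b : Ω}

theorem BG.step (h : BG G Ω a b) (ih : IHG.{v} (Nat.card G)) : HasReg G Ω ∨ ZL G Ω := by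
  refine or_iff_not_imp_left.2 fun hr => ?_
  by_cases hY : ∀ p : ℕ, p.Prime → YY G p a b = ⊥
  · refine (h.zl_or_rg ih hr (h.ns_FF hY)).elim id fun k => ⟨⊤, inferInstance, ?_, ?_⟩
    · exact ⟨fun g hg => Subtype.ext (h.two.faith g hg), fun h1 h2 =>
        let ⟨g, hg⟩ := h.two.two h1 h2; ⟨⟨g, trivial⟩, hg⟩⟩
    · exact fun g c d e n1 n2 n3 g1 g2 g3 => Subtype.ext (k.three g c d e n1 n2 n3 g1 g2 g3)
  · push Not at hY
    obtain ⟨p, hp, hY⟩ := hY
    exact CA.zl ⟨h, ih, hr, hp, hY⟩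

theorem ihg (m : ℕ) : IHG.{v} m := by
  induction m with
  | zero => exact fun _ _ _ _ _ _ h => absurd h (Nat.not_lt_zero _)
  | succ m ih =>
    exact fun B Δ _ _ _ _ hB x y h => h.step fun B' Δ' _ _ _ _ hB' =>
      ih B' Δ' (hB'.trans_le (Nat.lt_succ_iff.1 hB))

/-- Bender's theorem on doubly transitive groups whose involutions fix no point. -/
theorem BG.main (h : BG G Ω a b) : HasReg G Ω ∨ ZL G Ω := h.step (ihg _)

theorem BG.psl (h : BG G Ω a b) (hr : ¬ HasReg G Ω) :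
    ∃ L : Subgroup G, L.Normal ∧ IsZassenhausGroup L Ω ∧ IsSimpleGroup L ∧
      centralizer (L : Set G) = ⊥ ∧ (∀ u : G, orderOf u = 2 → u ∈ L) ∧
      Nat.card Ω = 2 * Nat.card (st2 L a b) + 2 ∧
      ∃ (F : Type) (_ : Field F) (_ : Fintype F), Fintype.card F + 1 = Nat.card Ω ∧
        Nonempty (L ≃* Matrix.ProjectiveSpecialLinearGroup (Fin 2) F) := by
  obtain ⟨L, hL, l2, l3⟩ := h.main.resolve_left hr
  have hZ := (l2.zas_of_three l3 h.ne).resolve_left fun k => hr (h.two.hasReg_of_normal l2 h.ne k)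
  have ho : Odd (Nat.card (st2 L a b)) := Odd.of_dvd_nat h.odd (by
    rw [show st2 L a b = (st2 G a b).subgroupOf L from rfl]
    exact card_comap_dvd_of_injective _ _ L.subtype_injective)
  have hL1 : L ≠ ⊥ := by
    rintro rfl
    obtain ⟨g, hg⟩ := l2.trans a b
    exact h.ne (by rw [← hg, Subsingleton.elim g 1, one_smul])
  have hm := fun u hu => h.mem_of_normal hL1 (u := u) hu
  obtain ⟨k1, -, k2⟩ := zas_odd hZ h.even h.ne ho
  refine ⟨L, hL, hZ, k1, by_contra fun hC => ?_, hm, zas_odd_card hZ h.even h.ne ho, k2⟩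
  refine hr (h.two.hasReg_of_comm (L ⊓ centralizer (L : Set G)) (fun e => ?_)
    fun x hx y hy => hy.2 x hx.1)
  obtain ⟨t, ht⟩ := h.exists_sw
  exact ne_one_two ht.1 (mem_bot.1 (e ▸ ⟨hm t ht.1, h.mem_of_normal hC ht.1⟩))

end Cfsg.Agent.TT
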